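import Mathlib.RingTheory.Flat.Basic
import Mathlib.RingTheory.Flat.Stability
import Mathlib.RingTheory.Flat.EquationalCriterion
import Mathlib.RingTheory.LocalRing.Module
import Mathlib.RingTheory.Nilpotent.Defs

/-!
Elementary `Tor₁`-vanishing calculus. `TorVan R M N` says that `Tor₁(M, N) = 0`, in the
elementary form: for every presentation `0 → L → G → M → 0` with `G` flat, the map
`L ⊗ N → G ⊗ N` is injective.
-/

set_option autoImplicit false
universe u
open TensorProduct

namespace Groth.Agent.FlatA.TorVanish

variable {R : Type u} [CommRing R]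

/-- `Tor₁(M, N) = 0`, in elementary form. -/
def TorVan (R : Type u) [CommRing R] (M : Type u) [AddCommGroup M] [Module R M]
    (N : Type u) [AddCommGroup N] [Module R N] : Prop :=
  ∀ (G : Type u) [AddCommGroup G] [Module R G] [Module.Flat R G] (π : G →ₗ[R] M),
    Function.Surjective π → Function.Injective ((LinearMap.ker π).subtype.rTensor N)

variable {M : Type u} [AddCommGroup M] [Module R M]

/-- diagram chase: `A → B → C → 0` exact, `C → D` compatible with `B → E → D`. If `A ⊗ M → E ⊗ M`
and `C ⊗ M → D ⊗ M` are injective, so is `B ⊗ M → E ⊗ M`. -/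
theorem rTensor_injective_of_chase {A B E C D : Type u}
    [AddCommGroup A] [Module R A] [AddCommGroup B] [Module R B] [AddCommGroup E] [Module R E]
    [AddCommGroup C] [Module R C] [AddCommGroup D] [Module R D]
    (i : A →ₗ[R] B) (p : B →ₗ[R] C) (j : B →ₗ[R] E) (q : E →ₗ[R] D) (c : C →ₗ[R] D)
    (hip : Function.Exact i p) (hp : Function.Surjective p)
    (hcomm : c ∘ₗ p = q ∘ₗ j)
    (h1 : Function.Injective ((j ∘ₗ i).rTensor M)) (h2 : Function.Injective (c.rTensor M)) :
    Function.Injective (j.rTensor M) := by
  rw [injective_iff_map_eq_zero]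
  intro x hx
  have hpx : p.rTensor M x = 0 := by
    apply h2
    rw [map_zero, ← LinearMap.comp_apply, ← LinearMap.rTensor_comp, hcomm, LinearMap.rTensor_comp,
      LinearMap.comp_apply, hx, map_zero]
  obtain ⟨y, rfl⟩ := (rTensor_exact M hip hp _).mp hpx
  have : y = 0 := by
    apply h1
    rw [map_zero, LinearMap.rTensor_comp, LinearMap.comp_apply, hx]
  rw [this, map_zero]

/-- If `K → F → N → 0` is exact, `Tor₁(M, F) = 0` and `K ⊗ M → F ⊗ M` injective then
`Tor₁(M, N) = 0`. -/
theorem TorVan.of_presentation {K F N : Type u} [AddCommGroup K] [Module R K] [AddCommGroup F]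
    [Module R F] [AddCommGroup N] [Module R N] (k : K →ₗ[R] F) (f : F →ₗ[R] N)
    (hkf : Function.Exact k f) (hf : Function.Surjective f) (hF : TorVan R M F)
    (hk : Function.Injective (k.rTensor M)) : TorVan R M N := by
  intro G _ _ _ π hπ
  have hF := hF G π hπ
  rw [← LinearMap.lTensor_inj_iff_rTensor_inj] at hF ⊢
  exact lTensor_injective_of_exact_of_exact_of_rTensor_injective hkf hf
    (LinearMap.exact_subtype_ker_map π) hπ hk hF

/-- If `Tor₁(M, N) = 0` then for `0 → K → E → N → 0` exact, `K ⊗ M → E ⊗ M` is injective. -/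
theorem TorVan.rTensor_injective {K E N : Type u} [AddCommGroup K] [Module R K] [AddCommGroup E]
    [Module R E] [AddCommGroup N] [Module R N] (hN : TorVan R M N) (k : K →ₗ[R] E)
    (f : E →ₗ[R] N) (hk : Function.Injective k)
    (hkf : Function.Exact k f) (hf : Function.Surjective f) :
    Function.Injective (k.rTensor M) := by
  have key : ∀ (G : Type u) [AddCommGroup G] [Module R G] [Module.Flat R G] (π : G →ₗ[R] M),
      Function.Surjective π → Function.Injective (k.rTensor M) := by
    intro G _ _ _ π hπ
    have hN := hN G π hπ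
    rw [← LinearMap.lTensor_inj_iff_rTensor_inj]
    refine lTensor_injective_of_exact_of_exact_of_rTensor_injective
      (LinearMap.exact_subtype_ker_map π) hπ hkf hf hN ?_
    exact Module.Flat.lTensor_preserves_injective_linearMap _ hk
  exact key (M →₀ R) (Finsupp.linearCombination R (id : M → M))
    (Finsupp.linearCombination_id_surjective R M)

/-- `Tor₁(M, N) = 0` for `N` flat. -/
theorem TorVan.of_flat (N : Type u) [AddCommGroup N] [Module R N] [Module.Flat R N] :
    TorVan R M N :=
  fun _ _ _ _ _ _ => Module.Flat.rTensor_preserves_injective_linearMap _ Subtype.val_injective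

/-- extensions -/
theorem TorVan.of_exact {N' N N'' : Type u} [AddCommGroup N'] [Module R N'] [AddCommGroup N]
    [Module R N] [AddCommGroup N''] [Module R N''] (i : N' →ₗ[R] N) (p : N →ₗ[R] N'')
    (hip : Function.Exact i p) (hi : Function.Injective i) (hp : Function.Surjective p)
    (h1 : TorVan R M N') (h2 : TorVan R M N'') : TorVan R M N := by
  intro G _ _ _ π hπ
  have h1 := h1 G π hπ
  have h2 := h2 G π hπ
  rw [injective_iff_map_eq_zero]
  intro x hx
  have hx2 : p.lTensor _ x = 0 := by
    apply h2
    rw [map_zero, ← LinearMap.comp_apply, LinearMap.rTensor_comp_lTensor,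
      ← LinearMap.lTensor_comp_rTensor, LinearMap.comp_apply, hx, map_zero]
  obtain ⟨y, rfl⟩ := (lTensor_exact (LinearMap.ker π) hip hp _).mp hx2
  have : y = 0 := by
    apply h1
    apply Module.Flat.lTensor_preserves_injective_linearMap (M := G) i hi
    rw [map_zero, map_zero, ← hx, ← LinearMap.comp_apply, ← LinearMap.comp_apply,
      LinearMap.rTensor_comp_lTensor, LinearMap.lTensor_comp_rTensor]
  rw [this, map_zero]

/-- invariance under isomorphism in the second variable -/
theorem TorVan.of_equiv {N N' : Type u} [AddCommGroup N] [Module R N] [AddCommGroup N']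
    [Module R N'] (e : N ≃ₗ[R] N') (h : TorVan R M N) : TorVan R M N' := by
  refine TorVan.of_presentation (K := PUnit) 0 e.toLinearMap ?_ e.surjective h ?_
  · intro x
    simp [eq_comm (a := (0 : N))]
  · exact Function.injective_of_subsingleton _

/-- direct sums of copies -/
theorem TorVan.finsupp {N : Type u} [AddCommGroup N] [Module R N] (ι : Type u)
    (h : TorVan R M N) : TorVan R M (ι →₀ N) := by
  classical
  intro G _ _ _ π hπ
  have h := h G π hπ
  rw [injective_iff_map_eq_zero]
  intro x hx
  have : ∀ (y : LinearMap.ker π ⊗[R] (ι →₀ N)) (i : ι), (LinearMap.ker π).subtype.rTensor N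
      (TensorProduct.finsuppRight R R (LinearMap.ker π) N ι y i) =
      TensorProduct.finsuppRight R R G N ι ((LinearMap.ker π).subtype.rTensor _ y) i := by
    intro y i
    induction y with
    | zero => simp
    | add a b ha hb => simp [ha, hb]
    | tmul a b => simp [TensorProduct.finsuppRight_apply_tmul_apply]
  apply (TensorProduct.finsuppRight R R (LinearMap.ker π) N ι).injective
  ext i
  apply h
  rw [this, hx]
  simp

/-- If `Tor₁(M, R/I)` vanishes for all `I` then `M` is flat. -/
theorem flat_of_torVan
    (h : ∀ I : Ideal R, TorVan R M (R ⧸ I)) : Module.Flat R M := by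
  rw [Module.Flat.iff_rTensor_injective']
  intro I
  refine (h I).rTensor_injective I.subtype I.mkQ Subtype.val_injective ?_
    (Submodule.mkQ_surjective _)
  exact LinearMap.exact_subtype_mkQ I

theorem torVan_quotient_iff (J : Ideal R) :
    TorVan R M (R ⧸ J) ↔ Function.Injective (J.subtype.rTensor M) := by
  constructor
  · intro h
    exact h.rTensor_injective J.subtype J.mkQ Subtype.val_injective
      (LinearMap.exact_subtype_mkQ J) (Submodule.mkQ_surjective _)
  · intro h
    exact TorVan.of_presentation J.subtype J.mkQ (LinearMap.exact_subtype_mkQ J)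
      (Submodule.mkQ_surjective _) (TorVan.of_flat R) h

/-- If `A ⊗ M` is flat over `A` then for injective `A`-linear maps `K → F`, `K ⊗[R] M → F ⊗[R] M`
is injective. -/
theorem rTensor_injective_of_flat_baseChange {A : Type u} [CommRing A] [Algebra R A]
    [Module.Flat A (A ⊗[R] M)] {K F : Type u} [AddCommGroup K] [Module A K] [Module R K]
    [IsScalarTower R A K] [AddCommGroup F] [Module A F] [Module R F] [IsScalarTower R A F]
    (k : K →ₗ[A] F) (hk : Function.Injective k) :
    Function.Injective ((k.restrictScalars R).rTensor M) := by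
  have h1 : Function.Injective (k.rTensor (A ⊗[R] M)) :=
    Module.Flat.rTensor_preserves_injective_linearMap k hk
  have : ∀ x, (k.restrictScalars R).rTensor M
      (AlgebraTensorModule.cancelBaseChange R A A K M x) =
      AlgebraTensorModule.cancelBaseChange R A A F M (k.rTensor (A ⊗[R] M) x) := by
    intro x
    induction x with
    | zero => simp
    | add a b ha hb => simp [ha, hb]
    | tmul a b =>
      induction b with
      | zero => simp
      | add c d hc hd => simp [tmul_add, hc, hd]
      | tmul c d => simp
  rw [injective_iff_map_eq_zero]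
  intro x hx
  obtain ⟨y, rfl⟩ := (AlgebraTensorModule.cancelBaseChange R A A K M).surjective x
  rw [this] at hx
  have := (AlgebraTensorModule.cancelBaseChange R A A F M).injective (hx.trans (map_zero _).symm)
  rw [h1 (this.trans (map_zero _).symm), map_zero]

/-- `Tor₁(M, R/J) = 0`, `M/JM` flat over `R/J` imply `Tor₁(M, N) = 0` for all `R/J`-modules. -/
theorem TorVan.of_quotient {J : Ideal R} [Module.Flat (R ⧸ J) ((R ⧸ J) ⊗[R] M)]
    (hJ : TorVan R M (R ⧸ J)) (N : Type u) [AddCommGroup N] [Module R N] [Module (R ⧸ J) N]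
    [IsScalarTower R (R ⧸ J) N] : TorVan R M N := by
  have key : ∀ (F : Type u) [AddCommGroup F] [Module R F] [Module (R ⧸ J) F]
      [IsScalarTower R (R ⧸ J) F] (f : F →ₗ[R ⧸ J] N), Function.Surjective f → TorVan R M F →
      TorVan R M N := by
    intro F _ _ _ _ f hf hF
    refine TorVan.of_presentation ((LinearMap.ker f).subtype.restrictScalars R)
      (f.restrictScalars R) ?_ hf hF ?_
    · intro x
      exact LinearMap.exact_subtype_ker_map f x
    · exact rTensor_injective_of_flat_baseChange _ Subtype.val_injective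
  exact key (N →₀ (R ⧸ J)) (Finsupp.linearCombination (R ⧸ J) (id : N → N))
    (Finsupp.linearCombination_id_surjective _ _) (hJ.finsupp N)

/-- `Tor₁(M, R/J) = 0`, `M/JM` flat over `R/J` imply `Tor₁(M, N) = 0` for all modules killed
by `J`. -/
theorem TorVan.of_killed {J : Ideal R} [Module.Flat (R ⧸ J) ((R ⧸ J) ⊗[R] M)]
    (hJ : TorVan R M (R ⧸ J)) (N : Type u) [AddCommGroup N] [Module R N]
    (hN : Module.IsTorsionBySet R N J) : TorVan R M N := by
  let _ : Module (R ⧸ J) N := hN.module
  have : IsScalarTower R (R ⧸ J) N := hN.isScalarTower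
  exact TorVan.of_quotient hJ N

/-- `Tor₁(M, R/J) = 0`, `M/JM` flat over `R/J` imply `Tor₁(M, N) = 0` for all modules killed
by a power of `J`. -/
theorem TorVan.of_killed_pow {J : Ideal R} [Module.Flat (R ⧸ J) ((R ⧸ J) ⊗[R] M)]
    (hJ : TorVan R M (R ⧸ J)) (n : ℕ) (N : Type u) [AddCommGroup N] [Module R N]
    (hN : Module.IsTorsionBySet R N (J ^ n : Ideal R)) : TorVan R M N := by
  induction n generalizing N with
  | zero =>
    have : Subsingleton N := by
      refine ⟨fun a b => ?_⟩
      have h1 : ∀ x : N, x = 0 := fun x => by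
        have := @hN x ⟨1, by simp⟩
        simpa using this
      rw [h1 a, h1 b]
    exact TorVan.of_flat N
  | succ n ih =>
    let N' : Submodule R N := J • ⊤
    refine TorVan.of_exact (N' := N') (N'' := N ⧸ N') N'.subtype N'.mkQ
      (LinearMap.exact_subtype_mkQ _) Subtype.val_injective (Submodule.mkQ_surjective _) ?_ ?_
    · apply ih
      rintro ⟨x, hx⟩ ⟨a, ha⟩
      apply Subtype.ext
      change a • x = 0
      refine Submodule.smul_induction_on hx ?_ ?_
      · intro r hr y _
        rw [smul_smul]
        exact @hN y ⟨a * r, by rw [pow_succ]; exact Ideal.mul_mem_mul ha hr⟩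
      · intro y z hy hz
        rw [smul_add, hy, hz, add_zero]
    · apply TorVan.of_killed hJ
      rintro x ⟨a, ha⟩
      obtain ⟨x, rfl⟩ := N'.mkQ_surjective x
      change a • N'.mkQ x = 0
      rw [← map_smul]
      rw [← LinearMap.mem_ker, Submodule.ker_mkQ]
      exact Submodule.smul_mem_smul ha trivial

/-- Stacks 051C: for `J` nilpotent, `Tor₁(M, R/J) = 0` and `M/JM` flat over `R/J` imply `M` flat. -/
theorem flat_of_isNilpotent {J : Ideal R} (hn : IsNilpotent J)
    [Module.Flat (R ⧸ J) ((R ⧸ J) ⊗[R] M)]
    (hJ : Function.Injective (J.subtype.rTensor M)) : Module.Flat R M := by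
  obtain ⟨n, hn⟩ := hn
  refine flat_of_torVan fun I => ?_
  refine TorVan.of_killed_pow ((torVan_quotient_iff J).2 hJ) n _ ?_
  rintro x ⟨a, ha⟩
  rw [hn] at ha
  have : a = 0 := ha
  subst this
  exact zero_smul R x

end Groth.Agent.FlatA.TorVanish
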