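import Groth.Agent.FlatA.ImageLimit
import Groth.Agent.CalgA.LimFP2
import Groth.Agent.Smoothlim.ProperDescend

/-!
# Approximation of proper morphisms

Let `S = lim S_i` be a cofiltered limit of qcqs schemes with affine transition maps, and `X → S` a
closed subscheme of a proper finitely presented `S`-scheme. Then `X → S` is a limit of proper
morphisms `X_i → S_i` (for `i` beyond some stage).
-/

set_option autoImplicit false
set_option backward.isDefEq.respectTransparency false
set_option backward.defeqAttrib.useBackward true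
universe u

open CategoryTheory AlgebraicGeometry Limits Scheme

namespace Groth.Agent.FlatA.ProperApprox

open Groth.Agent.CalgA.LimFP Groth.Agent.FlatA.ImageLimit

variable {I : Type u} [SmallCategory I] [IsCofiltered I] (D : I ⥤ Scheme.{u}) (c : Cone D)
  (hc : IsLimit c) [∀ (i j : I) (f : i ⟶ j), IsAffineHom (D.map f)]
  [∀ i, CompactSpace (D.obj i)] [∀ i, QuasiSeparatedSpace (D.obj i)]

include hc in
/-- A proper finitely presented scheme over the limit has a proper finitely presented model at some
stage. -/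
theorem exists_proper_model {X' : Scheme.{u}} (f : X' ⟶ c.pt) [IsProper f]
    [LocallyOfFinitePresentation f] :
    ∃ (i : I) (Y : Scheme.{u}) (g : Y ⟶ D.obj i) (p : X' ⟶ Y), IsPullback p f g (c.π.app i) ∧
      IsProper g ∧ LocallyOfFinitePresentation g := by
  obtain ⟨i₀, ⟨M⟩⟩ := Mdl.exists_model hc f
  have := M.lfp
  have := M.qc
  have := M.qs
  obtain ⟨i, φ, hi⟩ := Smoothlim.LimBase.exists_descend
    Smoothlim.LimBase.descendsAffine_isProper D c hc i₀ (X := X') (Y := c.pt) M.f (𝟙 _) f (𝟙 _)
      (c.π.app i₀) M.p (IsPullback.of_horiz_isIso ⟨by simp⟩).flip M.h ⟨⟨inferInstance, inferInstance⟩,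
        inferInstance⟩ inferInstance
  refine ⟨i, (M.bc φ).A, (M.bc φ).f, (M.bc φ).p, (M.bc φ).h, ?_, (M.bc φ).lfp⟩
  have h1 : IsPullback (pullback.fst M.f (D.map φ)) (pullback.snd M.f (D.map φ)) M.f (D.map φ) :=
    IsPullback.of_hasPullback _ _
  have h2 : pullback.snd (𝟙 (D.obj i₀)) (D.map φ) ≫ D.map φ = pullback.fst _ _ := by
    rw [← pullback.condition, Category.comp_id]
  have hi' := hi
  rw [← h2] at hi'
  have h3 : IsProper (pullback.snd M.f (pullback.snd (𝟙 (D.obj i₀)) (D.map φ) ≫ D.map φ)) := hi'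
  have h4 := Smoothlim.LimBase.snd_comp @IsProper M.f
    (pullback.snd (𝟙 (D.obj i₀)) (D.map φ) ≫ D.map φ) (inv (pullback.snd (𝟙 (D.obj i₀)) (D.map φ))) h3
  rw [IsIso.inv_hom_id_assoc] at h4
  exact h4

include hc in
/-- Approximation of a closed subscheme of a proper finitely presented scheme over the limit. -/
theorem exists_diagram {X X' : Scheme.{u}} (h : X ⟶ X') [IsClosedImmersion h] (f : X' ⟶ c.pt)
    [IsProper f] [LocallyOfFinitePresentation f] :
    ∃ (j : I) (DX : Over j ⥤ Scheme.{u}) (φ : DX ⟶ Over.forget j ⋙ D) (cX : Cone DX)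
      (_ : IsLimit cX) (eX : cX.pt ≅ X),
      (∀ {a b : Over j} (t : a ⟶ b), IsAffineHom (DX.map t)) ∧
      (∀ a, IsProper (φ.app a)) ∧
      (∀ a : Over j, cX.π.app a ≫ φ.app a = eX.hom ≫ h ≫ f ≫ c.π.app a.left) := by
  obtain ⟨j, Y, g, p, hpb, hg, _⟩ := exists_proper_model D c hc f
  -- the diagram of base changes of `Y`
  let E := bcDiagram D g
  let cE : Cone E := bcCone hpb
  have hcE : IsLimit cE := isLimitBcCone hc hpb
  have hEaff : ∀ {a b : Over j} (t : a ⟶ b), IsAffineHom (E.map t) :=
    fun t => isAffineHom_bcDiagram_map t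
  have hEqs : ∀ a, QuasiSeparatedSpace (E.obj a) := fun a => quasiSeparatedSpace_bcDiagram_obj a
  let J : cE.pt.IdealSheafData := h.ker
  refine ⟨j, imgDiagram E cE J, imgι E cE J ≫ bcι D g, imgCone E cE J, isLimitImgCone E cE J hcE,
    (asIso h.toImage).symm, ?_, ?_, ?_⟩
  · intro a b t
    infer_instance
  · intro a
    have : IsProper (pullback.snd g (D.map a.hom)) := inferInstance
    rw [NatTrans.comp_app]
    dsimp only [bcι]
    infer_instance
  · intro a
    rw [NatTrans.comp_app, ← Category.assoc, imgCone_π_app_imgι]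
    simp only [bcι, Category.assoc]
    have h1 : cE.π.app a ≫ pullback.snd g (D.map a.hom) = f ≫ c.π.app a.left := by
      simp [cE]
    rw [h1]
    have h2 : J.subschemeι = (asIso h.toImage).symm.hom ≫ h := by
      rw [Iso.symm_hom, asIso_inv, IsIso.eq_inv_comp]
      exact h.toImage_imageι
    rw [h2, Category.assoc]

end Groth.Agent.FlatA.ProperApprox
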