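import Groth.Agent.FlatA.InjTransfer

/-!
# Stacks 05U9 for maps linear over the base ring: reduction to the injectivity statement
-/

set_option autoImplicit false
set_option linter.style.haveILetI false
universe u

open TensorProduct IsLocalRing Function

namespace Groth.Agent.FlatA.AlinAssembly

open Flat2A Flat2A.ModInj Flat2A.ModInjFibre InjTransfer

/-- A finitely presented cover with the same closed fibre. -/
theorem exists_fp_cover {R S N : Type u} [CommRing R] [IsLocalRing R] [CommRing S] [IsLocalRing S]
    [Algebra R S] [IsLocalHom (algebraMap R S)] [Algebra.EssFiniteType R S] [AddCommGroup N] [Module R N]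
    [Module S N] [IsScalarTower R S N] [Module.Finite S N] :
    ∃ (N₀ : Type u) (_ : AddCommGroup N₀) (_ : Module S N₀) (_ : Module R N₀) (_ : IsScalarTower R S N₀)
      (p : N₀ →ₗ[S] N), Module.FinitePresentation S N₀ ∧ Surjective p ∧
      ∀ x : N₀, p x ∈ (maximalIdeal R • ⊤ : Submodule R N) → x ∈ (maximalIdeal R • ⊤ : Submodule R N₀) := by
  obtain ⟨n, φ, hφ⟩ := exists_presentation (R := R) (S := S)
  obtain ⟨r, e, he⟩ := Module.Finite.exists_fin (R := S) (M := N)
  obtain ⟨s, κ, t₀, ht₀, hrel, hK⟩ := Relations.exists_relations φ hφ e he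
  let K₀ : Submodule S (Fin r → S) := Submodule.span S (Set.range fun j => fun i => φ (κ j i))
  let π : (Fin r → S) →ₗ[S] N := Fintype.linearCombination S e
  have hπ : Function.Surjective π := by
    rw [← LinearMap.range_eq_top, Fintype.range_linearCombination, he]
  have hK₀ : K₀ ≤ LinearMap.ker π := by
    rw [Submodule.span_le]
    rintro _ ⟨j, rfl⟩
    rw [SetLike.mem_coe, LinearMap.mem_ker, Fintype.linearCombination_apply, hrel]
  have hfg : K₀.FG := Submodule.fg_span (Set.finite_range _)
  let N₀ := (Fin r → S) ⧸ K₀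
  let p : N₀ →ₗ[S] N := K₀.liftQ π hK₀
  have hp : ∀ x : N₀, p x ∈ (maximalIdeal R • ⊤ : Submodule R N) → x ∈ (maximalIdeal R • ⊤ : Submodule R N₀) := by
    intro x hx
    obtain ⟨f, rfl⟩ := K₀.mkQ_surjective x
    change π f ∈ _ at hx
    -- common denominator
    have hcd : ∃ (t : MvPolynomial (Fin n) R) (g : Fin r → MvPolynomial (Fin n) R), IsUnit (φ t) ∧
        ∀ i, f i * φ t = φ (g i) := by
      choose g t ht hg using fun i => hφ (f i)
      refine ⟨∏ i, t i, fun i => g i * ∏ j ∈ Finset.univ.erase i, t j, ?_, fun i => ?_⟩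
      · rw [map_prod]
        exact IsUnit.prod_univ_iff.2 ht
      · rw [map_mul, ← hg, ← Finset.mul_prod_erase _ _ (Finset.mem_univ i), map_mul, mul_assoc]
    obtain ⟨t, g, ht, hg⟩ := hcd
    have h1 : ∑ i, φ (g i) • e i ∈ (maximalIdeal R • ⊤ : Submodule R N) := by
      have : ∑ i, φ (g i) • e i = φ t • π f := by
        rw [Fintype.linearCombination_apply, Finset.smul_sum]
        refine Finset.sum_congr rfl fun i _ => ?_
        rw [smul_smul, ← hg, mul_comm]
      rw [this]
      refine Submodule.smul_induction_on hx ?_ ?_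
      · intro a ha y _
        rw [smul_comm]
        exact Submodule.smul_mem_smul ha trivial
      · intro x y hx hy
        rw [smul_add]
        exact add_mem hx hy
    obtain ⟨f', hf'⟩ := hK g h1
    -- `φ t₀ • φ t • f ∈ K₀ + m`
    have h2 : K₀.mkQ (fun i => φ (t₀ * g i - ∑ j, f' j * κ j i)) ∈
        (maximalIdeal R • ⊤ : Submodule R N₀) := by
      have h3 : (fun i => φ (t₀ * g i - ∑ j, f' j * κ j i)) =
          ∑ i, Pi.single i (φ (t₀ * g i - ∑ j, f' j * κ j i)) := by
        ext k
        rw [Finset.sum_apply, Finset.sum_eq_single k]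
        · simp
        · intro i _ hik
          simp [Pi.single_eq_of_ne (Ne.symm hik)]
        · simp
      rw [h3, map_sum]
      refine sum_mem fun i _ => ?_
      have h4 := hf' i
      generalize t₀ * g i - ∑ j, f' j * κ j i = z at h4
      refine Submodule.span_induction (p := fun z _ => K₀.mkQ (Pi.single i (φ z)) ∈
        (maximalIdeal R • ⊤ : Submodule R N₀)) ?_ ?_ ?_ ?_ h4
      · rintro _ ⟨a, ha, rfl⟩
        have : K₀.mkQ (Pi.single i (φ (MvPolynomial.C a))) = a • K₀.mkQ (Pi.single i (1 : S)) := by
          rw [← MvPolynomial.algebraMap_eq, AlgHom.commutes, ← algebraMap_smul S a, ← map_smul]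
          congr 1
          ext k
          by_cases hk : k = i
          · subst hk; simp
          · simp [Pi.single_eq_of_ne hk]
        rw [this]
        exact Submodule.smul_mem_smul ha trivial
      · simp
      · intro x y _ _ hx hy
        rw [map_add, Pi.single_add, map_add]
        exact add_mem hx hy
      · intro c x _ hx
        have : K₀.mkQ (Pi.single i (φ (c • x))) = φ c • K₀.mkQ (Pi.single i (φ x)) := by
          rw [← map_smul, smul_eq_mul, map_mul]
          congr 1
          ext k
          by_cases hk : k = i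
          · subst hk; simp
          · simp [Pi.single_eq_of_ne hk]
        rw [this]
        refine Submodule.smul_induction_on hx ?_ ?_
        · intro a ha y _
          rw [smul_comm]
          exact Submodule.smul_mem_smul ha trivial
        · intro x y hx hy
          rw [smul_add]
          exact add_mem hx hy
    have h5 : K₀.mkQ (fun i => φ (t₀ * g i - ∑ j, f' j * κ j i)) = φ (t₀ * t) • K₀.mkQ f := by
      rw [← map_smul, ← sub_eq_zero, ← map_sub, ← LinearMap.mem_ker, Submodule.ker_mkQ]
      have : (fun i => φ (t₀ * g i - ∑ j, f' j * κ j i)) - φ (t₀ * t) • f =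
          - ∑ j, φ (f' j) • (fun i => φ (κ j i)) := by
        ext i
        rw [Pi.sub_apply, Pi.smul_apply, Pi.neg_apply, Finset.sum_apply, map_sub, map_mul, ← hg,
          map_sum, map_mul, smul_eq_mul]
        simp only [Pi.smul_apply, smul_eq_mul, map_mul]
        ring
      rw [this]
      exact neg_mem (sum_mem fun j _ => Submodule.smul_mem _ _ (Submodule.subset_span ⟨j, rfl⟩))
    rw [h5] at h2
    obtain ⟨w, hw⟩ : IsUnit (φ (t₀ * t)) := by rw [map_mul]; exact ht₀.mul ht
    have h6 : K₀.mkQ f = ((w⁻¹ : Sˣ) : S) • (φ (t₀ * t) • K₀.mkQ f) := by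
      rw [← hw, smul_smul, Units.inv_mul, one_smul]
    rw [h6]
    refine Submodule.smul_induction_on h2 ?_ ?_
    · intro a ha y _
      rw [smul_comm]
      exact Submodule.smul_mem_smul ha trivial
    · intro x y hx hy
      rw [smul_add]
      exact add_mem hx hy
  have hps : Surjective p := by
    intro y
    obtain ⟨f, rfl⟩ := hπ y
    exact ⟨K₀.mkQ f, rfl⟩
  exact ⟨N₀, inferInstance, inferInstance, inferInstance, inferInstance, p,
    Module.finitePresentation_of_surjective K₀.mkQ K₀.mkQ_surjective (by
      rw [Submodule.ker_mkQ]; exact hfg), hps, hp⟩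

/-- injectivity on the closed fibre in terms of elements -/
theorem lTensor_residue_injective {R N M : Type u} [CommRing R] [IsLocalRing R] [AddCommGroup N]
    [Module R N] [AddCommGroup M] [Module R M] (p : N →ₗ[R] M)
    (h : ∀ x : N, p x ∈ (maximalIdeal R • ⊤ : Submodule R M) → x ∈ (maximalIdeal R • ⊤ : Submodule R N)) :
    Injective (p.lTensor (ResidueField R)) := by
  rw [injective_iff_map_eq_zero]
  intro z hz
  obtain ⟨x, rfl⟩ := TensorProduct.mk_surjective R N (ResidueField R) Ideal.Quotient.mk_surjective z
  have h1 : LinearMap.ker (TensorProduct.mk R (ResidueField R) M 1) =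
      (maximalIdeal R) • (⊤ : Submodule R M) := LinearMap.ker_tensorProductMk _
  have h2 : LinearMap.ker (TensorProduct.mk R (ResidueField R) N 1) =
      (maximalIdeal R) • (⊤ : Submodule R N) := LinearMap.ker_tensorProductMk _
  rw [← LinearMap.mem_ker, h2]
  apply h
  rw [← h1]
  exact hz

/-- The local polynomial case: `N` finite over a local ring essentially of finite presentation. -/
theorem flat_injective_of_essFP (H : InjStatement.{u}) {A B N M : Type u} [CommRing A] [IsLocalRing A]
    [CommRing B] [IsLocalRing B] [Algebra A B] [IsLocalHom (algebraMap A B)]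
    (hB : FlatCA.EssFinitePresentation A B)
    [AddCommGroup N] [Module A N] [Module B N] [IsScalarTower A B N] [Module.Finite B N]
    [AddCommGroup M] [Module A M] [Module.Flat A M] (u : N →ₗ[A] M)
    (h : Injective (u.lTensor (ResidueField A))) :
    Module.Flat A N ∧ ∀ (Q : Type u) [AddCommGroup Q] [Module A Q], Injective (u.lTensor Q) := by
  haveI : Algebra.EssFiniteType A B := Flat2A.EssFT.essFiniteType hB
  obtain ⟨N₀, _, _, _, _, p, hfp, hps, hp⟩ := exists_fp_cover (R := A) (S := B) (N := N)
  let p' : N₀ →ₗ[A] N := p.restrictScalars A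
  have hp' : Injective (p'.lTensor (ResidueField A)) := lTensor_residue_injective p' hp
  have h0 : Injective ((u ∘ₗ p').lTensor (ResidueField A)) := by
    rw [LinearMap.lTensor_comp]
    exact h.comp hp'
  have hflat : Module.Flat A N₀ := flat H hB (u ∘ₗ p') h0
  have hinj := fun (Q : Type u) [AddCommGroup Q] [Module A Q] => H A B N₀ M hB (u ∘ₗ p') h0 Q
  have hinj1 : Injective (u ∘ₗ p') := by
    intro x y hxy
    apply (TensorProduct.lid A N₀).symm.injective
    apply hinj A
    rw [TensorProduct.lid_symm_apply, TensorProduct.lid_symm_apply, LinearMap.lTensor_tmul,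
      LinearMap.lTensor_tmul, hxy]
  have hbij : Bijective p' := by
    refine ⟨?_, hps⟩
    rw [LinearMap.coe_comp] at hinj1
    exact hinj1.of_comp
  let e : N₀ ≃ₗ[A] N := LinearEquiv.ofBijective p' hbij
  refine ⟨Module.Flat.of_linearEquiv e.symm, fun Q _ _ => ?_⟩
  exact (S1266.lTensor_comp_equiv_injective_iff u e Q).1 (hinj Q)

/-- Stacks 05U9, given the injectivity statement for flat finitely presented modules. -/
theorem main (H : InjStatement.{u}) {A B M N : Type u} [CommRing A] [CommRing B] [IsLocalRing A]
    [IsLocalRing B] [Algebra A B] [IsLocalHom (algebraMap A B)] [Algebra.EssFiniteType A B]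
    [AddCommGroup M] [Module A M] [Module.Flat A M]
    [AddCommGroup N] [Module A N] [Module B N] [IsScalarTower A B N] [Module.Finite B N]
    (u : N →ₗ[A] M) (h : Function.Injective (LinearMap.lTensor (IsLocalRing.ResidueField A) u)) :
    (∀ (Q : Type u) [AddCommGroup Q] [Module A Q], Function.Injective (LinearMap.rTensor Q u)) ∧
      Module.FinitePresentation B N ∧ Module.Flat A N := by
  obtain ⟨n, φ, hφ⟩ := exists_presentation (R := A) (S := B)
  let P := MvPolynomial (Fin n) A
  let q : Ideal P := (maximalIdeal B).comap φ.toRingHom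
  haveI : q.IsPrime := Ideal.comap_isPrime _ _
  have hq : ∀ p, p ∉ q ↔ IsUnit (φ p) := by
    intro p
    change ¬ (φ p ∈ maximalIdeal B) ↔ _
    rw [IsLocalRing.mem_maximalIdeal, mem_nonunits_iff, not_not]
  let S := Localization.AtPrime q
  let ψ : S →+* B := IsLocalization.lift (M := q.primeCompl) (g := φ.toRingHom)
    (fun y => (hq _).1 y.2)
  have hψ : ∀ p : P, ψ (algebraMap P S p) = φ p := fun p => IsLocalization.lift_eq _ p
  have hψs : Surjective ψ := by
    intro s
    obtain ⟨p, t, ht, hs⟩ := hφ s
    have ht' : IsUnit (algebraMap P S t) :=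
      IsLocalization.map_units S (⟨t, (hq t).2 ht⟩ : q.primeCompl)
    obtain ⟨w, hw⟩ := ht'
    refine ⟨algebraMap P S p * ((w⁻¹ : Sˣ) : S), ?_⟩
    apply ht.mul_right_cancel
    rw [hs, ← hψ t, ← map_mul, ← hw, mul_assoc, Units.inv_mul, mul_one, hψ]
  letI : Module S N := Module.compHom N ψ
  letI : Algebra S B := ψ.toAlgebra
  haveI : IsScalarTower S B N := IsScalarTower.of_compHom _ _ _
  haveI : IsScalarTower A S B := IsScalarTower.of_algebraMap_eq fun a => by
    rw [IsScalarTower.algebraMap_apply A P S]
    exact ((hψ _).trans (φ.commutes a)).symm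
  haveI : IsScalarTower A S N := IsScalarTower.to₁₂₄ A S B N
  haveI : Module.Finite S B := Module.Finite.of_surjective (Algebra.linearMap S B) hψs
  haveI : Module.Finite S N := Module.Finite.trans B N
  haveI : IsLocalHom (algebraMap A S) := by
    refine ⟨fun a ha => ?_⟩
    have h1 : IsUnit (algebraMap S B (algebraMap A S a)) := ha.map _
    rw [← IsScalarTower.algebraMap_apply A S B] at h1
    exact (isUnit_map_iff (algebraMap A B) a).1 h1
  have hS : FlatCA.EssFinitePresentation A S :=
    ⟨P, inferInstance, inferInstance, inferInstance, inferInstance, q.primeCompl, inferInstance,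
      inferInstance⟩
  obtain ⟨h1, h2⟩ := flat_injective_of_essFP H hS u h
  refine ⟨fun Q _ _ => ?_, ?_, h1⟩
  · exact (LinearMap.lTensor_inj_iff_rTensor_inj Q u).1 (h2 Q)
  · refine (ModInj.main (R := A) (S := B) (N := N) (M := N) LinearMap.id ?_).2.2
    intro x y hxy
    simpa using hxy

end Groth.Agent.FlatA.AlinAssembly
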