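import Mathlib.RingTheory.Flat.Basic
import Mathlib.RingTheory.LocalRing.Module
import Mathlib.RingTheory.Nilpotent.Defs

set_option autoImplicit false
universe u
open TensorProduct IsLocalRing

namespace Groth.Agent.FlatA.NilpotentFree

/-- Nakayama for nilpotent ideals. -/
theorem eq_top_of_isNilpotent {R M : Type*} [CommRing R] [AddCommGroup M] [Module R M]
    (I : Ideal R) (hI : IsNilpotent I) (N : Submodule R M) (h : N ⊔ I • (⊤ : Submodule R M) = ⊤) :
    N = ⊤ := by
  obtain ⟨n, hn⟩ := hI
  have : ∀ n : ℕ, N ⊔ (I ^ n) • (⊤ : Submodule R M) = ⊤ := by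
    intro n
    induction n with
    | zero => simp
    | succ n ih =>
      rw [eq_top_iff]
      calc (⊤ : Submodule R M) = N ⊔ (I ^ n) • (⊤ : Submodule R M) := ih.symm
        _ = N ⊔ (I ^ n) • (N ⊔ I • (⊤ : Submodule R M)) := by rw [h]
        _ = N ⊔ ((I ^ n) • N ⊔ (I ^ n) • I • (⊤ : Submodule R M)) := by
          rw [Submodule.smul_sup]
        _ ≤ N ⊔ (I ^ (n + 1)) • (⊤ : Submodule R M) := by
          rw [← sup_assoc, pow_succ, Submodule.mul_smul]
          refine sup_le_sup (sup_le le_rfl Submodule.smul_le_right) le_rfl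
  have h2 := this n
  rw [hn] at h2
  simpa using h2

/-- Nakayama for nilpotent ideals, zero version. -/
theorem eq_bot_of_isNilpotent {R M : Type*} [CommRing R] [AddCommGroup M] [Module R M]
    (I : Ideal R) (hI : IsNilpotent I) (N : Submodule R M) (h : N ≤ I • N) :
    N = ⊥ := by
  obtain ⟨n, hn⟩ := hI
  have : ∀ n : ℕ, N ≤ (I ^ n) • N := by
    intro n
    induction n with
    | zero => simp
    | succ n ih =>
      calc N ≤ I • N := h
        _ ≤ I • (I ^ n) • N := Submodule.smul_mono le_rfl ih
        _ = (I ^ (n + 1)) • N := by rw [pow_succ', Submodule.mul_smul]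
  have h2 := this n
  rw [hn] at h2
  simpa using h2

/-- Over a local ring with nilpotent maximal ideal, lifts of a basis of `M/mM` span. -/
theorem exists_lift_basis {R M : Type u} [CommRing R] [IsLocalRing R]
    (hR : IsNilpotent (IsLocalRing.maximalIdeal R)) [AddCommGroup M] [Module R M] :
    ∃ (ι : Type u) (v : ι → M), LinearIndependent (ResidueField R)
      (TensorProduct.mk R (ResidueField R) M 1 ∘ v) ∧
      Submodule.span (ResidueField R) (Set.range (TensorProduct.mk R (ResidueField R) M 1 ∘ v)) = ⊤ ∧
      Submodule.span R (Set.range v) = ⊤ := by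
  let w := Module.Free.chooseBasis (ResidueField R) (ResidueField R ⊗[R] M)
  have ⟨v, eq⟩ := (TensorProduct.mk_surjective R M (ResidueField R)
    Ideal.Quotient.mk_surjective).comp_left w
  have eq : TensorProduct.mk R (ResidueField R) M 1 ∘ v = w := eq
  refine ⟨_, v, by rw [eq]; exact w.linearIndependent, by rw [eq]; exact w.span_eq, ?_⟩
  apply eq_top_of_isNilpotent _ hR
  rw [eq_top_iff]
  intro m _
  have h1 : (1 : ResidueField R) ⊗ₜ[R] m ∈
      Submodule.span (ResidueField R) (Set.range w) := by
    rw [w.span_eq]; trivial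
  rw [← Submodule.restrictScalars_mem R, Submodule.restrictScalars_span R (ResidueField R)
    Ideal.Quotient.mk_surjective, ← eq] at h1
  have h2 : TensorProduct.mk R (ResidueField R) M 1 m ∈
      (Submodule.span R (Set.range v)).map (TensorProduct.mk R (ResidueField R) M 1) := by
    rw [Submodule.map_span, ← Set.range_comp]
    exact h1
  obtain ⟨y, hy, hy2⟩ := h2
  have h3 : m - y ∈ LinearMap.ker (TensorProduct.mk R (ResidueField R) M 1) := by
    rw [LinearMap.mem_ker, map_sub, hy2, sub_self]
  have h4 : LinearMap.ker (TensorProduct.mk R (ResidueField R) M 1) =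
    (maximalIdeal R) • (⊤ : Submodule R M) := LinearMap.ker_tensorProductMk M
  rw [h4] at h3
  have : m = y + (m - y) := by abel
  rw [this]
  exact Submodule.add_mem_sup hy h3

theorem free_of_flat_of_isNilpotent {R M : Type u} [CommRing R] [IsLocalRing R]
    (hR : IsNilpotent (IsLocalRing.maximalIdeal R))
    [AddCommGroup M] [Module R M] [Module.Flat R M] : Module.Free R M := by
  obtain ⟨ι, v, hv, -, hs⟩ := exists_lift_basis (M := M) hR
  exact .of_basis <| .mk (Module.IsLocalRing.linearIndependent_of_flat _ hv) hs.ge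

end Groth.Agent.FlatA.NilpotentFree
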