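import Mathlib.RingTheory.Artinian.Ring
import Mathlib.RingTheory.Flat.Localization
import Mathlib.RingTheory.Localization.BaseChange
import Groth.Agent.FlatA.NilpotentFree
import Groth.Agent.FlatA.TorVanish

set_option autoImplicit false
universe u
open TensorProduct IsLocalRing

namespace Groth.Agent.FlatA.ArtinianDescent
open Groth.Agent.FlatA.TorVanish Groth.Agent.FlatA.NilpotentFree

variable {R A : Type u} [CommRing R] [CommRing A] [Algebra R A]

theorem cancelBaseChange_lTensor_baseChange {N F M : Type u} [AddCommGroup N]
    [Module R N] [Module A N] [IsScalarTower R A N] [AddCommGroup F] [Module R F]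
    [AddCommGroup M] [Module R M] (f : F →ₗ[R] M) (x : N ⊗[A] (A ⊗[R] F)) :
    f.lTensor N (AlgebraTensorModule.cancelBaseChange R A A N F x) =
      AlgebraTensorModule.cancelBaseChange R A A N M ((f.baseChange A).lTensor N x) := by
  induction x with
  | zero => simp
  | add a b ha hb => simp [ha, hb]
  | tmul a b =>
    induction b with
    | zero => simp
    | add c d hc hd => simp [tmul_add, hc, hd]
    | tmul c d => simp

/-- `f.lTensor N` is injective iff `(f.baseChange A).lTensor N` is, for an `A`-module `N`. -/
theorem lTensor_baseChange_injective_iff (A : Type u) [CommRing A] [Algebra R A]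
    {N F M : Type u} [AddCommGroup N]
    [Module R N] [Module A N] [IsScalarTower R A N] [AddCommGroup F] [Module R F]
    [AddCommGroup M] [Module R M] (f : F →ₗ[R] M) :
    Function.Injective ((f.baseChange A).lTensor N) ↔ Function.Injective (f.lTensor N) := by
  constructor
  · intro h
    rw [injective_iff_map_eq_zero]
    intro x hx
    obtain ⟨y, rfl⟩ := (AlgebraTensorModule.cancelBaseChange R A A N F).surjective x
    rw [cancelBaseChange_lTensor_baseChange] at hx
    have := (AlgebraTensorModule.cancelBaseChange R A A N M).injective (hx.trans (map_zero _).symm)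
    rw [h (this.trans (map_zero _).symm), map_zero]
  · intro h
    rw [injective_iff_map_eq_zero]
    intro x hx
    apply (AlgebraTensorModule.cancelBaseChange R A A N F).injective
    apply h
    rw [cancelBaseChange_lTensor_baseChange, hx]
    simp

/-- If `f : F → P` is `A`-linear surjective, `P` flat, `J` nilpotent, `A/J ⊗ F → A/J ⊗ P`
injective, then `f` is injective. -/
theorem injective_of_flat_of_nilpotent {F P : Type u} [AddCommGroup F] [Module A F]
    [AddCommGroup P] [Module A P] [Module.Flat A P] (f : F →ₗ[A] P) (hf : Function.Surjective f)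
    (J : Ideal A) (hJ : IsNilpotent J) (h : Function.Injective (f.lTensor (A ⧸ J))) :
    Function.Injective f := by
  have h1 : Function.Injective ((LinearMap.ker f).subtype.rTensor (A ⧸ J)) :=
    (TorVan.of_flat (M := A ⧸ J) P).rTensor_injective _ f Subtype.val_injective
      (LinearMap.exact_subtype_ker_map f) hf
  rw [← LinearMap.lTensor_inj_iff_rTensor_inj] at h1
  have h2 : ∀ x : (A ⧸ J) ⊗[A] LinearMap.ker f, x = 0 := by
    intro x
    apply h1
    apply h
    rw [← LinearMap.comp_apply, ← LinearMap.lTensor_comp,
      (LinearMap.exact_subtype_ker_map f).linearMap_comp_eq_zero]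
    simp
  have h3 : LinearMap.ker f ≤ J • LinearMap.ker f := by
    intro x hx
    have h4 : (⟨x, hx⟩ : LinearMap.ker f) ∈ LinearMap.ker (TensorProduct.mk A (A ⧸ J) (LinearMap.ker f) 1) :=
      h2 _
    rw [LinearMap.ker_tensorProductMk] at h4
    have h5 := Submodule.mem_map_of_mem (f := (LinearMap.ker f).subtype) h4
    rw [Submodule.map_smul''] at h5
    simpa using h5
  have := eq_bot_of_isNilpotent J hJ _ h3
  rwa [LinearMap.ker_eq_bot] at this

theorem lTensor_quotient_injective {R S F M : Type u} [CommRing R] [CommRing S]
    [IsLocalRing R] [Algebra R S] [AddCommGroup F] [Module R F] [AddCommGroup M] [Module R M]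
    (f : F →ₗ[R] M) (hf : Function.Injective (f.baseChange (ResidueField R))) :
    Function.Injective (f.lTensor (S ⧸ (maximalIdeal R).map (algebraMap R S))) := by
  let _ : Algebra (ResidueField R) (S ⧸ (maximalIdeal R).map (algebraMap R S)) :=
    inferInstanceAs (Algebra (R ⧸ maximalIdeal R) (S ⧸ (maximalIdeal R).map (algebraMap R S)))
  have : IsScalarTower R (ResidueField R) (S ⧸ (maximalIdeal R).map (algebraMap R S)) :=
    IsScalarTower.of_algebraMap_eq' rfl
  rw [← lTensor_baseChange_injective_iff (ResidueField R)]
  exact Module.Flat.lTensor_preserves_injective_linearMap _ hf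

/-- Stacks 051L, local case: `R` local with nilpotent maximal ideal, `R → S` injective,
`S ⊗ M` flat over `S` implies `M` flat (indeed free) over `R`. -/
theorem free_of_baseChange_flat_of_injective {R S M : Type u} [CommRing R] [CommRing S]
    [IsLocalRing R] (hR : IsNilpotent (maximalIdeal R)) [Algebra R S]
    (hinj : Function.Injective (algebraMap R S))
    [AddCommGroup M] [Module R M] [Module.Flat S (S ⊗[R] M)] : Module.Free R M := by
  classical
  obtain ⟨ι, v, hv, hs, hs'⟩ := exists_lift_basis (M := M) hR
  -- the presentation
  let f : (ι →₀ R) →ₗ[R] M := Finsupp.linearCombination R v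
  have hf : Function.Surjective f := by
    rw [← LinearMap.range_eq_top, Finsupp.range_linearCombination]
    exact hs'
  -- modulo the maximal ideal `f` is bijective
  have hk : Function.Injective (f.baseChange (ResidueField R)) := by
    let e := (TensorProduct.finsuppScalarRight R (ResidueField R) (ResidueField R) ι)
    have key : ∀ x, f.baseChange (ResidueField R) x =
        Finsupp.linearCombination (ResidueField R)
          (TensorProduct.mk R (ResidueField R) M 1 ∘ v) (e x) := by
      intro x
      induction x with
      | zero => simp
      | add a b ha hb => simp [ha, hb]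
      | tmul a b =>
        induction b using Finsupp.induction_linear with
        | zero => simp
        | add c d hc hd => simp [tmul_add, hc, hd]
        | single i r =>
          simp [e, f, TensorProduct.finsuppScalarRight_apply_tmul, TensorProduct.smul_tmul']
    rw [injective_iff_map_eq_zero]
    intro x hx
    rw [key] at hx
    exact e.injective ((hv (hx.trans (map_zero _).symm)).trans (map_zero _).symm)
  -- the ideal
  let J : Ideal S := (maximalIdeal R).map (algebraMap R S)
  have hJ : IsNilpotent J := by
    obtain ⟨n, hn⟩ := hR
    refine ⟨n, ?_⟩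
    rw [← Ideal.map_pow, hn]
    simp
  have h1 : Function.Injective (f.lTensor (S ⧸ J)) := lTensor_quotient_injective f hk
  rw [← lTensor_baseChange_injective_iff S] at h1
  have h2 : Function.Injective (f.baseChange S) :=
    injective_of_flat_of_nilpotent (f.baseChange S) (LinearMap.lTensor_surjective S hf) J hJ h1
  have h3 : Function.Injective f := by
    have h4 : Function.Injective (fun x : ι →₀ R => (1 : S) ⊗ₜ[R] x) := by
      have h5 : Function.Injective ((Algebra.linearMap R S).rTensor (ι →₀ R)) :=
        Module.Flat.rTensor_preserves_injective_linearMap _ hinj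
      intro x y hxy
      apply (TensorProduct.lid R (ι →₀ R)).symm.injective
      apply h5
      simpa using hxy
    intro x y hxy
    apply h4
    apply h2
    simp [hxy]
  exact Module.Free.of_equiv (LinearEquiv.ofBijective f ⟨h3, hf⟩)

attribute [local instance] Algebra.TensorProduct.rightAlgebra in
theorem free_baseChange_of_injective {R B S M : Type u} [CommRing R] [CommRing S] [CommRing B]
    [IsLocalRing B] (hB : IsNilpotent (maximalIdeal B)) [Algebra R B] [Module.Flat R B]
    [Algebra R S] (hinj : Function.Injective (algebraMap R S))
    [AddCommGroup M] [Module R M] [Module.Flat S (S ⊗[R] M)] : Module.Free B (B ⊗[R] M) := by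
  have h1 : Function.Injective (algebraMap B (B ⊗[R] S)) := by
    have h5 : Function.Injective ((Algebra.linearMap R S).lTensor B) :=
      Module.Flat.lTensor_preserves_injective_linearMap _ hinj
    intro x y hxy
    apply (TensorProduct.rid R B).symm.injective
    apply h5
    simpa [Algebra.TensorProduct.algebraMap_apply] using hxy
  have h2 : Module.Flat (B ⊗[R] S) ((B ⊗[R] S) ⊗[B] (B ⊗[R] M)) := by
    have h3 : Module.Flat (B ⊗[R] S) ((B ⊗[R] S) ⊗[S] (S ⊗[R] M)) := inferInstance
    refine Module.Flat.of_linearEquiv (M := (B ⊗[R] S) ⊗[S] (S ⊗[R] M)) ?_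
    exact (AlgebraTensorModule.cancelBaseChange R B (B ⊗[R] S) (B ⊗[R] S) M) ≪≫ₗ
      (AlgebraTensorModule.cancelBaseChange R S (B ⊗[R] S) (B ⊗[R] S) M).symm
  exact free_of_baseChange_flat_of_injective hB h1

/-- Stacks 051L. -/
theorem flat_of_baseChange_flat_of_injective {R S M : Type u} [CommRing R] [CommRing S]
    [IsArtinianRing R] [Algebra R S] (hinj : Function.Injective (algebraMap R S))
    [AddCommGroup M] [Module R M] [Module.Flat S (S ⊗[R] M)] : Module.Flat R M := by
  refine Module.flat_of_localized_maximal M fun P _ => ?_
  have hP : IsNilpotent (maximalIdeal (Localization.AtPrime P)) := by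
    have : IsArtinianRing (Localization.AtPrime P) := inferInstance
    have := IsArtinianRing.isNilpotent_jacobson_bot (R := Localization.AtPrime P)
    rwa [IsLocalRing.jacobson_eq_maximalIdeal] at this
    exact bot_ne_top
  have h3 : Module.Free (Localization.AtPrime P) (Localization.AtPrime P ⊗[R] M) :=
    free_baseChange_of_injective hP hinj
  have h4 : Module.Flat (Localization.AtPrime P) (LocalizedModule P.primeCompl M) :=
    Module.Flat.of_linearEquiv (M := Localization.AtPrime P ⊗[R] M)
      (LocalizedModule.equivTensorProduct P.primeCompl M)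
  exact (Module.flat_iff_of_isLocalization (Localization.AtPrime P) P.primeCompl _).1 h4

end Groth.Agent.FlatA.ArtinianDescent
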