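import Groth.Agent.FlatA.UnivHomeo
import Mathlib.AlgebraicGeometry.Morphisms.Finite
import Mathlib.AlgebraicGeometry.Morphisms.ClosedImmersion
import Mathlib.RingTheory.Nakayama

/-! # Closed immersions can be tested after a bijective closed base change (Stacks 0896) -/

set_option autoImplicit false
set_option backward.isDefEq.respectTransparency.types false
universe u

open AlgebraicGeometry CategoryTheory Limits TensorProduct

namespace Groth.Agent.FlatA.ClosedImmNil

/-- Nakayama: `R → S` finite, `I ≤ jacobson`, `R/I → S ⊗ R/I` surjective implies `R → S` surjective. -/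
theorem surjective_of_tensor {R S : Type u} [CommRing R] [CommRing S] [Algebra R S]
    [Module.Finite R S] (I : Ideal R) (hI : I ≤ Ideal.jacobson ⊥)
    (h : Function.Surjective (Algebra.TensorProduct.includeRight : (R ⧸ I) →ₐ[R] S ⊗[R] (R ⧸ I))) :
    Function.Surjective (algebraMap R S) := by
  have key : (⊤ : Submodule R S) ≤ (Algebra.linearMap R S).range := by
    refine Submodule.le_of_le_smul_of_le_jacobson_bot (Module.finite_def.mp inferInstance) hI ?_
    rintro s -
    obtain ⟨r, hr⟩ := h (s ⊗ₜ 1)
    obtain ⟨r, rfl⟩ := Ideal.Quotient.mk_surjective r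
    have h1 : (s - algebraMap R S r) ⊗ₜ[R] (1 : R ⧸ I) = 0 := by
      rw [TensorProduct.sub_tmul, sub_eq_zero, ← hr, Algebra.algebraMap_eq_smul_one,
        TensorProduct.smul_tmul]
      simp only [Algebra.TensorProduct.includeRight_apply]
      congr 1
      rw [Algebra.smul_def, mul_one]
      rfl
    have h2 : s - algebraMap R S r ∈ I • (⊤ : Submodule R S) := by
      have := congr(TensorProduct.tensorQuotEquivQuotSMul S I $h1)
      rw [map_zero] at this
      rw [← Submodule.Quotient.mk_eq_zero, ← this]
      have h3 : (1 : R ⧸ I) = Ideal.Quotient.mk I 1 := by simp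
      rw [h3, TensorProduct.tensorQuotEquivQuotSMul_tmul_mk, one_smul]
    have h3 : s = algebraMap R S r + (s - algebraMap R S r) := by ring
    rw [h3]
    exact Submodule.add_mem_sup ⟨r, rfl⟩ h2
  intro s
  obtain ⟨r, hr⟩ := key (Submodule.mem_top (x := s))
  exact ⟨r, hr⟩

/-- `Spec.map φ` is a closed immersion iff `φ` is surjective. -/
theorem surjective_of_isClosedImmersion_specMap {R S : CommRingCat.{u}} (φ : R ⟶ S)
    [IsClosedImmersion (Spec.map φ)] : Function.Surjective φ := by
  have h2 := (IsClosedImmersion.isAffine_surjective_of_isAffine (Spec.map φ)).2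
  intro x
  obtain ⟨y, hy⟩ := h2 ((Scheme.ΓSpecIso S).inv x)
  refine ⟨(Scheme.ΓSpecIso R).hom y, ?_⟩
  have h3 := congr($(Scheme.ΓSpecIso_naturality φ) y)
  rw [CommRingCat.comp_apply, CommRingCat.comp_apply] at h3
  rw [← h3, hy]
  simp

/-- Affine case of Stacks 0896. -/
theorem isClosedImmersion_of_affine {R S : Type u} [CommRing R] [CommRing S] [Algebra R S]
    [Module.Finite R S] (I : Ideal R) (hI : I ≤ Ideal.jacobson ⊥)
    (h : IsClosedImmersion (pullback.snd (Spec.map (CommRingCat.ofHom (algebraMap R S)))
      (Spec.map (CommRingCat.ofHom (algebraMap R (R ⧸ I)))))) :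
    IsClosedImmersion (Spec.map (CommRingCat.ofHom (algebraMap R S))) := by
  refine IsClosedImmersion.spec_of_surjective _ (surjective_of_tensor I hI ?_)
  have h1 : IsClosedImmersion (Spec.map (CommRingCat.ofHom (R := (R ⧸ I)) (S := S ⊗[R] (R ⧸ I))
      (Algebra.TensorProduct.includeRight : (R ⧸ I) →ₐ[R] S ⊗[R] (R ⧸ I)).toRingHom)) := by
    have := pullbackSpecIso_inv_snd R S (R ⧸ I)
    rw [AlgHom.toRingHom_eq_coe, ← this]
    infer_instance
  exact surjective_of_isClosedImmersion_specMap (CommRingCat.ofHom (R := (R ⧸ I)) (S := S ⊗[R] (R ⧸ I))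
      (Algebra.TensorProduct.includeRight : (R ⧸ I) →ₐ[R] S ⊗[R] (R ⧸ I)).toRingHom)

/-- The case of an affine target of Stacks 0896. -/
theorem isClosedImmersion_of_isFinite_of_affine {R : CommRingCat.{u}} {X X' S' : Scheme.{u}}
    {f : X ⟶ Spec R} {i : S' ⟶ Spec R}
    {f' : X' ⟶ S'} {i' : X' ⟶ X} (sq : IsPullback i' f' f i)
    [IsClosedImmersion i] [Surjective i] [IsFinite f]
    [IsClosedImmersion f'] : IsClosedImmersion f := by
  obtain ⟨I, e, rfl⟩ := IsClosedImmersion.Spec_iff.mp ‹IsClosedImmersion i›
  have : IsAffine X := isAffine_of_isAffineHom f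
  obtain ⟨φ, hφ⟩ := Spec.map_surjective (X.isoSpec.inv ≫ f)
  have hI : I ≤ Ideal.jacobson ⊥ := by
    intro x hx
    rw [Ideal.mem_jacobson_bot]
    intro y
    have : IsNilpotent (x * y) := by
      refine nilpotent_iff_mem_prime.mpr fun p hp => Ideal.mul_mem_right _ _ ?_
      obtain ⟨q, hq⟩ := (e.hom ≫ Spec.map (CommRingCat.ofHom (Ideal.Quotient.mk I))).surjective
        (⟨p, hp⟩ : PrimeSpectrum R)
      have h1 : (Spec.map (CommRingCat.ofHom (Ideal.Quotient.mk I))) (e.hom q) = (⟨p, hp⟩ : PrimeSpectrum R) := by
        simpa using hq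
      have h2 : Ideal.comap (Ideal.Quotient.mk I) (PrimeSpectrum.asIdeal (e.hom q)) = p :=
        congr(PrimeSpectrum.asIdeal $h1)
      rw [← h2, Ideal.mem_comap, Ideal.Quotient.eq_zero_iff_mem.mpr hx]
      exact Ideal.zero_mem _
    exact this.isUnit_add_one
  have hfin : φ.hom.Finite := by
    rw [← IsFinite.SpecMap_iff, hφ]
    infer_instance
  algebraize [φ.hom]
  have h : IsClosedImmersion (Spec.map φ) := by
    refine isClosedImmersion_of_affine I hI ?_
    have sq3 : IsPullback (i' ≫ X.isoSpec.hom) (f' ≫ e.hom) (Spec.map φ)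
        (Spec.map (CommRingCat.ofHom (algebraMap R (R ⧸ I)))) := by
      refine sq.of_iso (Iso.refl _) X.isoSpec e (Iso.refl _) (by simp) (by simp) ?_ ?_
      · rw [hφ]; simp
      · simp
    have sq4 := IsPullback.of_hasPullback (Spec.map φ) (Spec.map (CommRingCat.ofHom (algebraMap R (R ⧸ I))))
    have h5 := sq4.isoIsPullback_hom_snd _ _ sq3
    change IsClosedImmersion (pullback.snd (Spec.map φ) (Spec.map (CommRingCat.ofHom (algebraMap R (R ⧸ I)))))
    rw [← h5]
    infer_instance
  rw [hφ] at h
  have : f = X.isoSpec.hom ≫ (X.isoSpec.inv ≫ f) := by simp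
  rw [this]
  infer_instance

/-- A finite morphism whose base change along a surjective closed immersion is a
closed immersion is a closed immersion. -/
theorem isClosedImmersion_of_isFinite {X S X' S' : Scheme.{u}} {f : X ⟶ S} {i : S' ⟶ S}
    {f' : X' ⟶ S'} {i' : X' ⟶ X} (sq : IsPullback i' f' f i)
    [IsClosedImmersion i] [Surjective i] [IsFinite f]
    [IsClosedImmersion f'] : IsClosedImmersion f := by
  rw [IsZariskiLocalAtTarget.iff_of_openCover (P := @IsClosedImmersion) S.affineCover]
  intro j
  let φ : _ ⟶ S := S.affineCover.f j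
  change IsClosedImmersion (pullback.snd f φ)
  have sq1 : IsPullback (pullback.fst (pullback.snd f φ) (pullback.snd i φ) ≫ pullback.fst f φ)
      (pullback.snd (pullback.snd f φ) (pullback.snd i φ)) f (pullback.fst i φ ≫ i) := by
    rw [pullback.condition]
    exact (IsPullback.of_hasPullback (pullback.snd f φ) (pullback.snd i φ)).flip.paste_vert
      (IsPullback.of_hasPullback f φ).flip |>.flip
  have sq2 := IsPullback.of_right' sq1 sq
  have : IsClosedImmersion (pullback.snd (pullback.snd f φ) (pullback.snd i φ)) :=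
    MorphismProperty.of_isPullback sq2 inferInstance
  have h2 : Surjective (pullback.snd i φ) := MorphismProperty.pullback_snd i φ inferInstance
  have h3 : IsClosedImmersion (pullback.snd i φ) := MorphismProperty.pullback_snd i φ inferInstance
  have h4 : IsFinite (pullback.snd f φ) := MorphismProperty.pullback_snd f φ inferInstance
  exact @isClosedImmersion_of_isFinite_of_affine _ _ _ _ _ _ _ _
    (IsPullback.of_hasPullback (pullback.snd f φ) (pullback.snd i φ)) h3 h2 h4 this

/-- **Stacks 0896**: `f` of finite type whose base change along a bijective closed immersion is a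
closed immersion is a closed immersion. -/
theorem isClosedImmersion_of_bijective {X S S' : Scheme.{u}} (f : X ⟶ S) (i : S' ⟶ S)
    [IsClosedImmersion i] [Surjective i] [LocallyOfFiniteType f]
    [IsClosedImmersion (pullback.snd f i)] : IsClosedImmersion f := by
  have hs : Surjective (pullback.fst f i) := MorphismProperty.pullback_fst f i inferInstance
  have hc : pullback.fst f i ≫ f = pullback.snd f i ≫ i := pullback.condition
  have h1 : UniversallyClosed f := by
    have : UniversallyClosed (pullback.fst f i ≫ f) := by rw [hc]; infer_instance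
    exact UniversallyClosed.of_comp_surjective (pullback.fst f i) f
  have hi : IsHomeomorph (pullback.fst f i) := by
    have : IsClosedImmersion (pullback.fst f i) := inferInstance
    exact isHomeomorph_iff_isEmbedding_surjective.mpr
      ⟨(pullback.fst f i).isClosedEmbedding.isEmbedding, hs.surj⟩
  have h2 : Topology.IsClosedEmbedding f := by
    have h3 : Topology.IsClosedEmbedding (pullback.fst f i ≫ f) := by
      rw [hc]
      exact (pullback.snd f i ≫ i).isClosedEmbedding
    have h4 : (f : X → S) = (pullback.fst f i ≫ f : _ ⟶ _) ∘ hi.homeomorph.symm := by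
      funext y
      obtain ⟨x, rfl⟩ := hi.surjective y
      have : hi.homeomorph.symm ((pullback.fst f i) x) = x := hi.homeomorph.symm_apply_apply x
      simp [this]
    rw [h4]
    exact h3.comp hi.homeomorph.symm.isClosedEmbedding
  have h3 : IsAffineHom f := isAffineHom_of_isInducing f h2.isInducing h2.isClosed_range
  have h4 : IsIntegralHom f := IsIntegralHom.iff_universallyClosed_and_isAffineHom.mpr ⟨h1, h3⟩
  have h5 : IsFinite f := (IsFinite.iff_isIntegralHom_and_locallyOfFiniteType f).mpr ⟨h4, inferInstance⟩
  exact isClosedImmersion_of_isFinite (IsPullback.of_hasPullback f i)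

end Groth.Agent.FlatA.ClosedImmNil
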