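import Groth.Agent.FlatA.FlatDomain
import Groth.Agent.Flat2A.ModInj
import Mathlib.RingTheory.Nakayama
import Mathlib.RingTheory.Flat.TorsionFree

/-!
# Divisible submodules of finite flat modules over local algebras essentially of finite type
-/

set_option autoImplicit false
set_option linter.style.haveILetI false
universe u

open TensorProduct Function IsLocalRing

namespace Groth.Agent.FlatA.DivisibleFlat

/-- `Y` divisible in a torsion-free `N`: the quotient is torsion-free. -/
theorem torsionFree_quotient {D B N : Type*} [CommRing D] [CommRing B] [Algebra D B]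
    [AddCommGroup N] [Module D N] [Module B N] [IsScalarTower D B N]
    (htf : ∀ (a : D) (x : N), a ≠ 0 → a • x = 0 → x = 0) (Y : Submodule B N)
    (hY : ∀ a : D, a ≠ 0 → ∀ x ∈ Y, ∃ y ∈ Y, a • y = x) (a : D) (x : N ⧸ Y) (ha : a ≠ 0)
    (hx : a • x = 0) : x = 0 := by
  obtain ⟨x, rfl⟩ := Submodule.Quotient.mk_surjective _ x
  rw [← Submodule.Quotient.mk_smul, Submodule.Quotient.mk_eq_zero] at hx
  obtain ⟨y, hy, hyx⟩ := hY a ha _ hx
  have h1 : a • (x - y) = 0 := by rw [smul_sub, hyx, sub_self]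
  have h2 := htf a _ ha h1
  rw [sub_eq_zero] at h2
  rw [Submodule.Quotient.mk_eq_zero, h2]
  exact hy

/-- `(D ⧸ c) ⊗ (N ⧸ Y)` is flat over `D ⧸ c` when `(D ⧸ c) ⊗ N` is and `Y ⊆ c N`. -/
theorem flat_quotient_tensor {D N : Type u} [CommRing D]
    [AddCommGroup N] [Module D N] (c : Ideal D) (h : Module.Flat (D ⧸ c) ((D ⧸ c) ⊗[D] N))
    (Y : Submodule D N) (hY : Y ≤ c • (⊤ : Submodule D N)) :
    Module.Flat (D ⧸ c) ((D ⧸ c) ⊗[D] (N ⧸ Y)) := by
  let f : ((D ⧸ c) ⊗[D] N) →ₗ[D ⧸ c] ((D ⧸ c) ⊗[D] (N ⧸ Y)) :=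
    AlgebraTensorModule.lTensor (D ⧸ c) (D ⧸ c) Y.mkQ
  have hsurj : Surjective f := LinearMap.lTensor_surjective _ Y.mkQ_surjective
  have hinj : Injective f := by
    rw [injective_iff_map_eq_zero]
    intro z hz
    have hex := lTensor_exact (D ⧸ c) (f := Y.subtype) (g := Y.mkQ)
      (LinearMap.exact_subtype_mkQ Y) Y.mkQ_surjective
    obtain ⟨w, rfl⟩ := (hex z).mp hz
    induction w using TensorProduct.induction_on with
    | zero => simp
    | tmul r y =>
      rw [LinearMap.lTensor_tmul]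
      have hy := hY y.2
      change r ⊗ₜ[D] (y : N) = 0
      refine Submodule.smul_induction_on (p := fun y => r ⊗ₜ[D] y = 0) hy ?_ ?_
      · intro a ha n _
        rw [← smul_tmul]
        have : a • r = 0 := by
          obtain ⟨r, rfl⟩ := Ideal.Quotient.mk_surjective r
          change Ideal.Quotient.mk c (a * r) = 0
          exact Ideal.Quotient.eq_zero_iff_mem.mpr (c.mul_mem_right _ ha)
        rw [this, zero_tmul]
      · intro y y' h h'
        rw [tmul_add, h, h', add_zero]
    | add x y hx hy =>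
      have h1 : ∀ w, f ((Y.subtype.lTensor (D ⧸ c)) w) = 0 := by
        intro w
        exact (hex _).mpr ⟨w, rfl⟩
      rw [map_add, hx (h1 _), hy (h1 _), add_zero]
  exact Module.Flat.of_linearEquiv (LinearEquiv.ofBijective f ⟨hinj, hsurj⟩).symm

/-- `D` a local domain, `B` local and essentially of finite type over `D` (local homomorphism), `N` a finite
`B`-module and `Y` a `B`-submodule with `aY = Y` for all `a ≠ 0` in `D`, `N ⧸ Y` flat over `D`, and `D` not a
field. Then `Y = 0`. -/
theorem eq_bot_of_divisible_of_flat {D B N : Type u} [CommRing D] [IsLocalRing D] [CommRing B]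
    [IsLocalRing B] [Algebra D B] [IsLocalHom (algebraMap D B)] [Algebra.EssFiniteType D B]
    [AddCommGroup N] [Module D N] [Module B N] [IsScalarTower D B N] [Module.Finite B N]
    (Y : Submodule B N) [Module.Flat D (N ⧸ Y)] (b : D) (hb : b ∈ maximalIdeal D)
    (hY : ∀ x ∈ Y, ∃ y ∈ Y, b • y = x) : Y = ⊥ := by
  have hfp : Module.FinitePresentation B (N ⧸ Y) := by
    refine (Flat2A.ModInj.main (R := D) (S := B) (N := N ⧸ Y) (M := N ⧸ Y) LinearMap.id ?_).2.2
    change Injective (LinearMap.lTensor (ResidueField D) (LinearMap.id : (N ⧸ Y) →ₗ[D] (N ⧸ Y)))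
    rw [LinearMap.lTensor_id]
    exact injective_id
  have hYfg : Y.FG := by
    have := Module.FinitePresentation.fg_ker Y.mkQ Y.mkQ_surjective
    rwa [Submodule.ker_mkQ] at this
  refine Submodule.eq_bot_of_le_smul_of_le_jacobson_bot (maximalIdeal B) Y hYfg ?_ (maximalIdeal_le_jacobson _)
  intro x hx
  obtain ⟨y, hy, rfl⟩ := hY x hx
  rw [← algebraMap_smul B b y]
  exact Submodule.smul_mem_smul (map_nonunit (algebraMap D B) b hb) hy

/-- `D` a local domain, `B` local and essentially of finite type over `D` (local homomorphism), `N` a finite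
`B`-module which is flat over `D`, `b ≠ 0` in the maximal ideal of `D`. A `D`-submodule `X` of `N` with
`aX = X` for all `a ≠ 0` in `D` vanishes. -/
theorem eq_zero_of_divisible {D B N : Type u} [CommRing D] [IsDomain D] [IsLocalRing D] [CommRing B]
    [IsLocalRing B] [Algebra D B] [IsLocalHom (algebraMap D B)] [Algebra.EssFiniteType D B]
    [AddCommGroup N] [Module D N] [Module B N] [IsScalarTower D B N] [Module.Finite B N]
    [Module.Flat D N] (b : D) (hb0 : b ≠ 0)
    (hb : b ∈ maximalIdeal D) (X : Submodule D N)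
    (hX : ∀ a : D, a ≠ 0 → ∀ x ∈ X, ∃ y ∈ X, a • y = x) : ∀ x ∈ X, x = 0 := by
  have htf : ∀ (a : D) (x : N), a ≠ 0 → a • x = 0 → x = 0 := by
    intro a x ha hx
    have h1 : (Submodule.torsion D N) = ⊥ := Module.Flat.torsion_eq_bot
    have h2 : x ∈ Submodule.torsion D N := (Submodule.mem_torsion_iff _).mpr
      ⟨⟨a, mem_nonZeroDivisors_of_ne_zero ha⟩, hx⟩
    rw [h1] at h2
    exact h2
  let Y : Submodule B N := Submodule.span B (X : Set N)
  have hXY : ∀ x ∈ X, x ∈ Y := fun x hx => Submodule.subset_span hx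
  have hY : ∀ a : D, a ≠ 0 → ∀ x ∈ Y, ∃ y ∈ Y, a • y = x := by
    intro a ha x hx
    refine Submodule.span_induction (p := fun x _ => ∃ y ∈ Y, a • y = x) ?_ ?_ ?_ ?_ hx
    · intro x hx
      obtain ⟨y, hy, hyx⟩ := hX a ha x hx
      exact ⟨y, hXY y hy, hyx⟩
    · exact ⟨0, zero_mem _, smul_zero _⟩
    · rintro _ _ _ _ ⟨y, hy, rfl⟩ ⟨y', hy', rfl⟩
      exact ⟨y + y', add_mem hy hy', smul_add _ _ _⟩
    · rintro c _ _ ⟨y, hy, rfl⟩
      exact ⟨c • y, Y.smul_mem c hy, (smul_comm c a y).symm⟩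
  haveI hflat : Module.Flat D (N ⧸ Y) := by
    refine FlatDomain.flat_of_quotients (fun a x ha hx => torsionFree_quotient htf Y hY a x ha hx) ?_
    intro a ha
    have h1 : Module.Flat (D ⧸ Ideal.span {a}) ((D ⧸ Ideal.span {a}) ⊗[D] N) := inferInstance
    have h2 := flat_quotient_tensor (Ideal.span {a}) h1 (Y.restrictScalars D) (by
      intro x hx
      obtain ⟨y, hy, rfl⟩ := hY a ha x hx
      exact Submodule.smul_mem_smul (Ideal.mem_span_singleton_self a) trivial)
    let e : (N ⧸ Y.restrictScalars D) ≃ₗ[D] (N ⧸ Y) := Submodule.Quotient.restrictScalarsEquiv D Y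
    exact Module.Flat.of_linearEquiv (AlgebraTensorModule.congr (LinearEquiv.refl (D ⧸ Ideal.span {a}) _) e).symm
  have hbot := eq_bot_of_divisible_of_flat (D := D) Y b hb (hY b hb0)
  intro x hx
  have h3 := hXY x hx
  rw [hbot] at h3
  exact h3

end Groth.Agent.FlatA.DivisibleFlat
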