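import Groth.Agent.CalgB.NagataFP2
import Mathlib.RingTheory.Valuation.LocalSubring
import Mathlib.RingTheory.Localization.FractionRing
import Mathlib.RingTheory.Ideal.AssociatedPrime.Basic
import Mathlib.RingTheory.Flat.TorsionFree
import Mathlib.RingTheory.Nakayama
import Mathlib.RingTheory.LocalRing.ResidueField.Ideal

/-!
# Divisible submodules of finite modules over an essentially finite type local algebra over a domain

`D` a local domain which is not a field, `B` a local `D`-algebra essentially of finite type with `D → B` local,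
`N` a finite `B`-module which is torsion free over `D`.  A `D`-submodule `X ⊆ N` with `a X = X` for all
nonzero `a` in `D` is zero.
-/

set_option autoImplicit false
set_option linter.style.haveILetI false
universe u

open TensorProduct IsLocalRing

namespace Groth.Agent.FlatA.DivisibleZero

/-- The key step over a valuation ring: `W` a valuation ring, `C` an essentially finite type `W`-algebra, `N` a finite
`C`-module without `W`-torsion.  If `x ∈ N` is divisible by all nonzero elements of `W` then for each nonzero `b` of `W`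
there is `c` in `C` with `(1 - b c) x = 0`. -/
theorem exists_smul_eq_zero {W C N : Type*} [CommRing W] [IsDomain W] [ValuationRing W] [CommRing C] [Algebra W C]
    [Algebra.EssFiniteType W C] [AddCommGroup N] [Module C N] [Module W N] [IsScalarTower W C N] [Module.Finite C N]
    (htf : ∀ (a : W) (n : N), a • n = 0 → a = 0 ∨ n = 0) (x : N) (hx : ∀ a : W, a ≠ 0 → ∃ y : N, a • y = x)
    (b : W) (hb : b ≠ 0) : ∃ c : C, (1 - algebraMap W C b * c) • x = 0 := by
  classical
  -- the submodule of divisible elements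
  let Y : Submodule C N :=
    { carrier := {n | ∀ a : W, a ≠ 0 → ∃ y : N, a • y = n}
      add_mem' := by
        intro m n hm hn a ha
        obtain ⟨y, hy⟩ := hm a ha
        obtain ⟨z, hz⟩ := hn a ha
        exact ⟨y + z, by rw [smul_add, hy, hz]⟩
      zero_mem' := fun a _ => ⟨0, smul_zero a⟩
      smul_mem' := by
        intro c n hn a ha
        obtain ⟨y, hy⟩ := hn a ha
        refine ⟨c • y, ?_⟩
        rw [← hy, ← algebraMap_smul C a (c • y), ← algebraMap_smul C a y, smul_smul, smul_smul, mul_comm] }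
  have hY : ∀ n : N, n ∈ Y ↔ ∀ a : W, a ≠ 0 → ∃ y : N, a • y = n := fun n => Iff.rfl
  have hcancel : ∀ (a : W) (n n' : N), a ≠ 0 → a • n = a • n' → n = n' := by
    intro a n n' ha h
    have h1 : a • (n - n') = 0 := by rw [smul_sub, h, sub_self]
    rcases htf a _ h1 with h2 | h2
    · exact absurd h2 ha
    · exact sub_eq_zero.mp h2
  have hYdiv : ∀ (a : W) (n : N), a ≠ 0 → a • n ∈ Y → n ∈ Y := by
    intro a n ha hn d hd
    obtain ⟨y, hy⟩ := hn (a * d) (mul_ne_zero ha hd)
    refine ⟨y, hcancel a _ _ ha ?_⟩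
    rw [smul_smul, hy]
  -- the quotient is torsion free, so flat
  have hflat : Module.Flat W (N ⧸ Y) := by
    rw [Module.Flat.flat_iff_torsion_eq_bot_of_isBezout, eq_bot_iff]
    intro q hq
    rw [Submodule.mem_torsion_iff] at hq
    obtain ⟨a, ha⟩ := hq
    obtain ⟨n, rfl⟩ := Submodule.Quotient.mk_surjective Y q
    rw [Submodule.mem_bot, Submodule.Quotient.mk_eq_zero]
    have ha' : (a : W) • (Submodule.Quotient.mk n : N ⧸ Y) = 0 := ha
    rw [← Submodule.Quotient.mk_smul, Submodule.Quotient.mk_eq_zero] at ha'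
    exact hYdiv a n (nonZeroDivisors.ne_zero a.2) ha'
  have hfp : Module.FinitePresentation C (N ⧸ Y) :=
    Groth.Agent.CalgB.NagataFP.finitePresentation_of_flat_essFiniteType (A := W)
  have hfg : Y.FG := by
    have h1 := Module.FinitePresentation.fg_ker Y.mkQ (Submodule.mkQ_surjective Y)
    rwa [Submodule.ker_mkQ] at h1
  -- `Y = b Y`
  have hbY : Y ≤ Ideal.span {algebraMap W C b} • Y := by
    intro n hn
    obtain ⟨y, hy⟩ := hn b hb
    have hyY : y ∈ Y := hYdiv b y hb (by rw [hy]; exact hn)
    rw [← hy, ← algebraMap_smul C b y]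
    exact Submodule.smul_mem_smul (Ideal.mem_span_singleton_self _) hyY
  obtain ⟨r, hr, hr0⟩ := Submodule.exists_sub_one_mem_and_smul_eq_zero_of_fg_of_le_smul _ Y hfg hbY
  obtain ⟨c, hc⟩ := Ideal.mem_span_singleton'.mp hr
  refine ⟨-c, ?_⟩
  have h2 : 1 - algebraMap W C b * -c = r := by
    have : r = 1 + c * algebraMap W C b := by rw [hc]; ring
    rw [this]; ring
  rw [h2]
  exact hr0 x hx

/-- **Lemma 4.** `D` a local domain which is not a field, `B` a local `D`-algebra essentially of finite type with
`D → B` local, `N` a finite `B`-module without `D`-torsion.  A `D`-submodule `X` of `N` with `a X = X` for all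
`a ≠ 0` in `D` is zero. -/
theorem eq_bot {D B N : Type u} [CommRing D] [IsDomain D] [IsLocalRing D] (hD : ¬ IsField D)
    [CommRing B] [IsLocalRing B] [Algebra D B] [IsLocalHom (algebraMap D B)] [Algebra.EssFiniteType D B]
    [AddCommGroup N] [Module B N] [Module D N] [IsScalarTower D B N] [Module.Finite B N]
    (htf : ∀ (a : D) (n : N), a • n = 0 → a = 0 ∨ n = 0)
    (X : Submodule D N) (hX : ∀ a : D, a ≠ 0 → ∀ x ∈ X, ∃ y ∈ X, a • y = x) : X = ⊥ := by
  classical
  by_contra hne
  obtain ⟨x, hxX, hx0⟩ := (Submodule.ne_bot_iff X).mp hne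
  -- a prime `Q` of `B` containing the annihilator of `x` and lying over `0`
  let S : Submonoid B := Submonoid.map (algebraMap D B) (nonZeroDivisors D)
  have hdisj : Disjoint ((Ideal.torsionOf B N x : Ideal B) : Set B) (S : Set B) := by
    rw [Set.disjoint_left]
    rintro b hb ⟨a, ha, rfl⟩
    have h1 : (algebraMap D B a) • x = 0 := hb
    rw [algebraMap_smul] at h1
    rcases htf a x h1 with h2 | h2
    · exact nonZeroDivisors.ne_zero ha h2
    · exact hx0 h2
  obtain ⟨Q, hQ, hIQ, hQS⟩ := Ideal.exists_le_prime_disjoint _ S hdisj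
  let L := Localization.AtPrime Q
  let κ := Q.ResidueField
  let NQ := LocalizedModule Q.primeCompl N
  let ι : N →ₗ[B] NQ := LocalizedModule.mkLinearMap Q.primeCompl N
  have hx1 : ∀ l : L, IsUnit l → l • ι x ≠ 0 := by
    intro l hl h0
    have h1 : ι x = 0 := by
      have := congrArg (fun z => (hl.unit⁻¹ : Lˣ) • z) h0
      simpa [Units.smul_def, smul_smul] using this
    rw [LocalizedModule.mkLinearMap_apply, ← LocalizedModule.zero_mk 1, LocalizedModule.mk_eq] at h1
    obtain ⟨u, hu⟩ := h1
    have h2 : (u : B) • x = 0 := by simpa [Submonoid.smul_def] using hu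
    exact u.2 (hIQ ((Ideal.mem_torsionOf_iff x (u : B)).mpr h2))
  -- the valuation ring
  obtain ⟨V, hV, hVloc⟩ := IsLocalRing.exists_factor_valuationRing (algebraMap B κ)
  have hunitD : ∀ a : nonZeroDivisors D, IsUnit (algebraMap D L a) := by
    intro a
    rw [IsScalarTower.algebraMap_apply D B L]
    refine IsLocalization.map_units L (⟨algebraMap D B a, fun h => ?_⟩ : Q.primeCompl)
    exact Set.disjoint_left.mp hQS h ⟨a, a.2, rfl⟩
  let F := FractionRing D
  let ιL : F →+* L := IsLocalization.lift (M := nonZeroDivisors D) (g := algebraMap D L) hunitD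
  have hιL : ∀ a : D, ιL (algebraMap D F a) = algebraMap D L a := fun a => IsLocalization.lift_eq _ a
  let W : ValuationSubring F := V.comap ((algebraMap L κ).comp ιL)
  have hW : ∀ a : D, algebraMap D F a ∈ W := by
    intro a
    rw [ValuationSubring.mem_comap, RingHom.comp_apply, hιL, ← IsScalarTower.algebraMap_apply D L κ,
      IsScalarTower.algebraMap_apply D B κ]
    exact hV _
  letI : Algebra D W := ((algebraMap D F).codRestrict W.toSubring hW).toAlgebra
  letI : Algebra W L := (ιL.comp W.subtype).toAlgebra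
  haveI : IsScalarTower D W L := IsScalarTower.of_algebraMap_eq fun a => (hιL a).symm
  let ψ : W ⊗[D] B →ₐ[W] L := Algebra.TensorProduct.lift (Algebra.ofId W L) (IsScalarTower.toAlgHom D B L)
    (fun _ _ => Commute.all _ _)
  letI : Algebra (W ⊗[D] B) L := ψ.toRingHom.toAlgebra
  letI : Module (W ⊗[D] B) NQ := Module.compHom NQ ψ.toRingHom
  letI : Module W NQ := Module.compHom NQ (algebraMap W L)
  have hsmulC : ∀ (c : W ⊗[D] B) (m : NQ), c • m = ψ c • m := fun _ _ => rfl
  have hsmulW : ∀ (w : W) (m : NQ), w • m = (ιL (w : F)) • m := fun _ _ => rfl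
  haveI : IsScalarTower W (W ⊗[D] B) NQ := by
    refine ⟨fun w c m => ?_⟩
    rw [hsmulC, hsmulC, hsmulW, smul_smul, map_smul]
    rw [Algebra.smul_def]
    rfl
  let N' : Submodule (W ⊗[D] B) NQ := Submodule.span (W ⊗[D] B) (Set.range ι)
  have hιC : ∀ (b : B) (n : N), ι (b • n) = ((1 : W) ⊗ₜ[D] b : W ⊗[D] B) • ι n := by
    intro b n
    rw [map_smul, hsmulC]
    have : ψ ((1 : W) ⊗ₜ[D] b) = algebraMap B L b := by
      simp [ψ]
    rw [this, algebraMap_smul]
  have hfin : Module.Finite (W ⊗[D] B) N' := by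
    obtain ⟨s, hs⟩ := Module.Finite.fg_top (R := B) (M := N)
    rw [Module.Finite.iff_fg]
    refine ⟨s.image ι, le_antisymm (Submodule.span_mono ?_) (Submodule.span_le.mpr ?_)⟩
    · intro z hz
      obtain ⟨n, -, rfl⟩ := Finset.mem_image.mp (Finset.mem_coe.mp hz)
      exact ⟨n, rfl⟩
    · rintro _ ⟨n, rfl⟩
      have hn : n ∈ Submodule.span B (s : Set N) := by rw [hs]; trivial
      induction hn using Submodule.span_induction with
      | mem z hz => exact Submodule.subset_span (Finset.mem_coe.mpr (Finset.mem_image_of_mem ι hz))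
      | zero => rw [map_zero]; exact Submodule.zero_mem _
      | add y z _ _ hy hz => rw [map_add]; exact Submodule.add_mem _ hy hz
      | smul b z _ hz => rw [SetLike.mem_coe, hιC]; exact Submodule.smul_mem _ _ hz
  have hιLunit : ∀ w : F, w ≠ 0 → IsUnit (ιL w) := fun w hw => (isUnit_iff_ne_zero.mpr hw).map ιL
  have htf' : ∀ (a : W) (n : N'), a • n = 0 → a = 0 ∨ n = 0 := by
    intro a n h
    by_cases ha : a = 0
    · exact Or.inl ha
    right
    have ha' : (a : F) ≠ 0 := fun h' => ha (Subtype.ext h')
    have h1 : (ιL (a : F)) • (n : NQ) = 0 := by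
      have := congrArg (Subtype.val) h
      exact this
    have h2 := congrArg (fun z => (((hιLunit _ ha').unit⁻¹ : Lˣ) : L) • z) h1
    simp only [smul_smul, IsUnit.val_inv_mul, one_smul, smul_zero] at h2
    exact Subtype.ext h2
  let x' : N' := ⟨ι x, Submodule.subset_span ⟨x, rfl⟩⟩
  have hdiv : ∀ a : W, a ≠ 0 → ∃ y : N', a • y = x' := by
    intro a ha
    have ha' : (a : F) ≠ 0 := fun h' => ha (Subtype.ext h')
    obtain ⟨s, t, ht, hst⟩ := IsFractionRing.div_surjective (A := D) (a : F)
    have ht0 : t ≠ 0 := nonZeroDivisors.ne_zero ht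
    have hs0 : s ≠ 0 := by
      rintro rfl
      rw [map_zero, zero_div] at hst
      exact ha' hst.symm
    have htF : algebraMap D F t ≠ 0 := fun h => ht0 ((IsFractionRing.injective D F) (by rw [h, map_zero]))
    have hats : (a : F) * algebraMap D F t = algebraMap D F s := by
      rw [← hst, div_mul_cancel₀ _ htF]
    obtain ⟨y, hyX, hy⟩ := hX s hs0 x hxX
    refine ⟨⟨ι (t • y), Submodule.subset_span ⟨_, rfl⟩⟩, Subtype.ext ?_⟩
    change (ιL (a : F)) • ι (t • y) = ι x
    have h1 : ∀ (d : D) (n : N), ι (d • n) = ιL (algebraMap D F d) • ι n := by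
      intro d n
      rw [hιL, ← algebraMap_smul B d n, map_smul, IsScalarTower.algebraMap_apply D B L,
        algebraMap_smul L (algebraMap D B d) (ι n)]
    rw [h1, smul_smul, ← map_mul, hats, ← h1, hy]
  -- a nonzero nonunit of `D`
  obtain ⟨b, hb, hb0⟩ := (Submodule.ne_bot_iff _).mp
    (fun h => hD (IsLocalRing.isField_iff_maximalIdeal_eq.mpr h))
  let b' : W := algebraMap D W b
  have hb'0 : b' ≠ 0 := by
    intro h
    have h2 : algebraMap D F b = 0 := congrArg Subtype.val h
    exact hb0 ((IsFractionRing.injective D F) (by rw [h2, map_zero]))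
  obtain ⟨c, hc⟩ := exists_smul_eq_zero (C := W ⊗[D] B) htf' x' hdiv b' hb'0
  have hρ : ∀ c : W ⊗[D] B, algebraMap L κ (ψ c) ∈ V := by
    intro c
    induction c using TensorProduct.induction_on with
    | zero => rw [map_zero, map_zero]; exact V.zero_mem
    | add c d hc hd => rw [map_add, map_add]; exact V.add_mem _ _ hc hd
    | tmul w g =>
      have h1 : ψ (w ⊗ₜ[D] g) = ιL (w : F) * algebraMap B L g := by
        simp [ψ]
        rfl
      rw [h1, map_mul]
      refine V.mul_mem _ _ w.2 ?_
      rw [← IsScalarTower.algebraMap_apply B L κ]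
      exact hV g
  have hbB : algebraMap D B b ∈ maximalIdeal B := by
    rw [IsLocalRing.mem_maximalIdeal, mem_nonunits_iff] at hb ⊢
    exact fun h => hb (isUnit_of_map_unit (algebraMap D B) b h)
  have hbV : algebraMap B κ (algebraMap D B b) ∈ V.nonunits := by
    have h1 : (⟨algebraMap B κ (algebraMap D B b), hV _⟩ : V) ∈ maximalIdeal V := by
      rw [IsLocalRing.mem_maximalIdeal, mem_nonunits_iff] at hbB ⊢
      exact fun h => hbB (hVloc.map_nonunit _ h)
    exact V.coe_mem_nonunits_iff.mpr h1
  have hbn : algebraMap L κ (ψ (algebraMap W (W ⊗[D] B) b')) ∈ V.nonunits := by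
    have h1 : ψ (algebraMap W (W ⊗[D] B) b') = algebraMap B L (algebraMap D B b) := by
      rw [AlgHom.commutes]
      change ιL (algebraMap D F b) = _
      rw [hιL, IsScalarTower.algebraMap_apply D B L]
    rw [h1, ← IsScalarTower.algebraMap_apply B L κ]
    exact hbV
  have hunit : IsUnit (ψ (1 - algebraMap W (W ⊗[D] B) b' * c)) := by
    have h1 : algebraMap L κ (ψ (1 - algebraMap W (W ⊗[D] B) b' * c)) ≠ 0 := by
      intro h0
      rw [map_sub, map_one, map_mul, map_sub, map_one, map_mul, sub_eq_zero] at h0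
      have h2 : (1 : κ) ∈ V.nonunits := by
        rw [h0]
        rw [ValuationSubring.mem_nonunits_iff] at hbn ⊢
        rw [map_mul]
        have h3 : V.valuation (algebraMap L κ (ψ c)) ≤ 1 := (V.valuation_le_one_iff _).mpr (hρ c)
        calc _ ≤ V.valuation (algebraMap L κ (ψ (algebraMap W (W ⊗[D] B) b'))) * 1 := by gcongr
          _ < 1 := by rw [mul_one]; exact hbn
      rw [ValuationSubring.mem_nonunits_iff, map_one] at h2
      exact lt_irrefl _ h2
    exact (IsLocalRing.residue_ne_zero_iff_isUnit _).mp h1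
  refine hx1 _ hunit ?_
  exact congrArg Subtype.val hc

end Groth.Agent.FlatA.DivisibleZero
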