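import Mathlib.RingTheory.Ideal.Maps
import Groth.Agent.FlatA.TorVanish

set_option autoImplicit false
universe u
open TensorProduct

namespace Groth.Agent.FlatA.FibreNilpotent
open Groth.Agent.FlatA.TorVanish

variable {R S M : Type u} [CommRing R] [CommRing S] [Algebra R S]
  [AddCommGroup M] [Module S M] [Module R M] [IsScalarTower R S M]

/-- the map `I ⊗[R] M → IS ⊗[S] M`. -/
noncomputable def idealMap (M : Type u) [AddCommGroup M] [Module S M] [Module R M]
    [IsScalarTower R S M] (I : Ideal R) :
    I ⊗[R] M →ₗ[R] (I.map (algebraMap R S)) ⊗[S] M :=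
  TensorProduct.lift
    { toFun := fun i => ((TensorProduct.mk S (I.map (algebraMap R S)) M)
        ⟨algebraMap R S i, Ideal.mem_map_of_mem _ i.2⟩).restrictScalars R
      map_add' := fun i j => by
        ext m
        simp only [LinearMap.coe_restrictScalars, mk_apply, LinearMap.add_apply]
        rw [← TensorProduct.add_tmul]
        congr 1
        ext
        simp
      map_smul' := fun r i => by
        ext m
        simp only [LinearMap.coe_restrictScalars, mk_apply, RingHom.id_apply,
          LinearMap.smul_apply]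
        rw [TensorProduct.smul_tmul']
        congr 1
        ext
        simp [Algebra.smul_def] }

theorem idealMap_tmul (I : Ideal R) (i : I) (m : M) :
    idealMap (S := S) M I (i ⊗ₜ m) =
      (⟨algebraMap R S i, Ideal.mem_map_of_mem _ i.2⟩ : I.map (algebraMap R S)) ⊗ₜ[S] m := rfl

theorem idealMap_surjective (I : Ideal R) :
    Function.Surjective (idealMap (S := S) M I) := by
  intro x
  induction x with
  | zero => exact ⟨0, map_zero _⟩
  | add a b ha hb =>
    obtain ⟨a, rfl⟩ := ha
    obtain ⟨b, rfl⟩ := hb
    exact ⟨a + b, map_add _ _ _⟩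
  | tmul s m =>
    obtain ⟨s, hs⟩ := s
    have hs' := hs
    induction hs' using Submodule.span_induction generalizing m with
    | mem x h =>
      obtain ⟨i, hi, rfl⟩ := h
      exact ⟨(⟨i, hi⟩ : I) ⊗ₜ m, rfl⟩
    | zero => exact ⟨0, by rw [map_zero]; exact (TensorProduct.zero_tmul _ _).symm⟩
    | add x y hx hy hx1 hy1 =>
      obtain ⟨a, ha⟩ := hx1 m hx
      obtain ⟨b, hb⟩ := hy1 m hy
      refine ⟨a + b, ?_⟩
      rw [map_add, ha, hb, ← TensorProduct.add_tmul]
      rfl
    | smul t x hx hx1 =>
      obtain ⟨a, ha⟩ := hx1 (t • m) hx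
      refine ⟨a, ?_⟩
      rw [ha, ← TensorProduct.smul_tmul]
      rfl

/-- `M` flat over `R` implies `IS ⊗[S] M → M` injective. -/
theorem rTensor_map_injective [Module.Flat R M] (I : Ideal R) :
    Function.Injective ((I.map (algebraMap R S)).subtype.rTensor M) := by
  rw [injective_iff_map_eq_zero]
  intro x hx
  obtain ⟨y, rfl⟩ := idealMap_surjective I x
  have h1 : Function.Injective (I.subtype.rTensor M) :=
    Module.Flat.rTensor_preserves_injective_linearMap _ Subtype.val_injective
  have h2 : ∀ y, TensorProduct.lid S M ((I.map (algebraMap R S)).subtype.rTensor M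
      (idealMap (S := S) M I y)) = TensorProduct.lid R M (I.subtype.rTensor M y) := by
    intro y
    induction y with
    | zero => simp
    | add a b ha hb => simp [ha, hb]
    | tmul i m => simp [idealMap_tmul]
  have h3 : y = 0 := by
    apply h1
    apply (TensorProduct.lid R M).injective
    rw [← h2, hx]
    simp
  rw [h3, map_zero]

/-- Stacks 06A5. -/
theorem flat_of_isNilpotent_of_fibre (I : Ideal R) (hI : IsNilpotent I) [Module.Flat R M]
    (h : Module.Flat (S ⧸ I.map (algebraMap R S)) ((S ⧸ I.map (algebraMap R S)) ⊗[S] M)) :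
    Module.Flat S M := by
  refine flat_of_isNilpotent (J := I.map (algebraMap R S)) ?_ (rTensor_map_injective I)
  obtain ⟨n, hn⟩ := hI
  refine ⟨n, ?_⟩
  rw [← Ideal.map_pow, hn]
  simp

end Groth.Agent.FlatA.FibreNilpotent
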