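import Groth.Agent.FlatA.FibreDim

/-!
Topological comparison of fibres over an affine chart.
-/

set_option autoImplicit false

open Topology TopologicalSpace AlgebraicGeometry CategoryTheory

namespace Groth.Agent.FlatA.FibreTop

section

variable {X Y A B : Type*} [TopologicalSpace X] [TopologicalSpace A]

theorem dim_fibre_le {j : A → X} (hj : IsInducing j) {i : B → Y} {f : X → Y} {g : A → B}
    (h : ∀ a, f (j a) = i (g a)) (b : B) :
    topologicalKrullDim (g ⁻¹' {b}) ≤ topologicalKrullDim (f ⁻¹' {i b}) := by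
  let k : ↥(g ⁻¹' {b}) → ↥(f ⁻¹' {i b}) := fun z ↦ ⟨j z.1, by
    have h1 : g z.1 = b := z.2
    rw [Set.mem_preimage, h, h1]
    rfl⟩
  have hk : IsInducing k :=
    (IsInducing.subtypeVal.of_comp_iff).mp (hj.comp IsInducing.subtypeVal)
  exact hk.topologicalKrullDim_le

theorem dim_le_dim_fibre {j : A → X} (hj : IsInducing j) {i : B → Y} (hi : Function.Injective i)
    {f : X → Y} {g : A → B} (h : ∀ a, f (j a) = i (g a)) (b : B) (W : Set ↥(f ⁻¹' {i b}))
    (hW : ∀ z ∈ W, z.1 ∈ Set.range j) :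
    topologicalKrullDim W ≤ topologicalKrullDim (g ⁻¹' {b}) := by
  have hsurj : ∀ z : ↥W, ∃ w : ↥(g ⁻¹' {b}), j w.1 = z.1.1 := by
    rintro ⟨⟨z, hz⟩, hzU⟩
    obtain ⟨w, hw⟩ := hW _ hzU
    refine ⟨⟨w, ?_⟩, hw⟩
    apply hi
    rw [← h, hw]
    exact hz
  choose k hk using hsurj
  have hkind : IsInducing k := by
    have h1 : IsInducing (fun w : ↥(g ⁻¹' {b}) ↦ j w.1) := hj.comp IsInducing.subtypeVal
    refine (h1.of_comp_iff).mp ?_
    have h2 : ((fun w : ↥(g ⁻¹' {b}) ↦ j w.1) ∘ k) = (fun z ↦ z.1.1) := by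
      ext z
      exact hk z
    rw [h2]
    exact IsInducing.subtypeVal.comp IsInducing.subtypeVal
  exact hkind.topologicalKrullDim_le

end

universe u

variable {X Y : Scheme.{u}} (f : X ⟶ Y) {V : Y.Opens} (hV : IsAffineOpen V)
    {U : X.Opens} (hU : IsAffineOpen U) (e : U ≤ f ⁻¹ᵁ V)

include hU hV

theorem apply_fromSpec (q : PrimeSpectrum Γ(X, U)) :
    f (hU.fromSpec q) = hV.fromSpec (PrimeSpectrum.comap (f.appLE V U e).hom q) := by
  have := IsAffineOpen.SpecMap_appLE_fromSpec f hV hU e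
  have h2 := congr($this q)
  exact h2.symm

/-- The dimension of the fibre over `p` of the affine chart is at most the dimension of the fibre. -/
theorem dim_chart_le (p : PrimeSpectrum Γ(Y, V)) :
    topologicalKrullDim (PrimeSpectrum.comap (f.appLE V U e).hom ⁻¹' {p}) ≤
      topologicalKrullDim (f.fiber (hV.fromSpec p)) := by
  rw [FibreDim.topologicalKrullDim_fiber_eq]
  exact dim_fibre_le (j := (hU.fromSpec : PrimeSpectrum Γ(X, U) → X))
    (i := (hV.fromSpec : PrimeSpectrum Γ(Y, V) → Y))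
    (f := (f : X → Y)) (g := PrimeSpectrum.comap (f.appLE V U e).hom)
    hU.fromSpec.isOpenEmbedding.isInducing (apply_fromSpec f hV hU e) p

/-- An open part of a fibre contained in the chart has dimension at most that of the fibre of the
chart. -/
theorem le_dim_chart (p : PrimeSpectrum Γ(Y, V)) (y : Y) (hy : hV.fromSpec p = y)
    (W : Set ↥((f : X → Y) ⁻¹' {y})) (hW : ∀ z ∈ W, z.1 ∈ U) :
    topologicalKrullDim W ≤
      topologicalKrullDim (PrimeSpectrum.comap (f.appLE V U e).hom ⁻¹' {p}) := by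
  subst hy
  refine dim_le_dim_fibre (j := (hU.fromSpec : PrimeSpectrum Γ(X, U) → X))
    (i := (hV.fromSpec : PrimeSpectrum Γ(Y, V) → Y))
    (f := (f : X → Y)) (g := PrimeSpectrum.comap (f.appLE V U e).hom)
    hU.fromSpec.isOpenEmbedding.isInducing hV.fromSpec.isOpenEmbedding.injective
    (apply_fromSpec f hV hU e) p W ?_
  intro z hz
  have h1 := hW z hz
  have h2 : z.1 ∈ Set.range (hU.fromSpec : PrimeSpectrum Γ(X, U) → X) := by
    have h3 := hU.range_fromSpec
    exact h3.symm ▸ h1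
  exact h2

end Groth.Agent.FlatA.FibreTop
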