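import Mathlib.AlgebraicGeometry.PullbackCarrier
import Mathlib.AlgebraicGeometry.Morphisms.Finite
import Mathlib.RingTheory.AdjoinRoot
import Mathlib.RingTheory.Spectrum.Prime.Chevalley
import Mathlib.RingTheory.Finiteness.ModuleFinitePresentation

/-!
Images of nowhere dense closed subsets under finite morphisms are nowhere dense (Stacks 03J2).
-/

set_option autoImplicit false
universe u

open AlgebraicGeometry CategoryTheory Limits TensorProduct Polynomial

namespace Groth.Agent.FlatA.NowhereDense

/-- Topological lemma: if `g` is a closed map and `Z` is a finite union of closed sets on which `g`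
is injective, then the image of a closed set with empty interior has empty interior. -/
theorem interior_image_eq_empty {Z X : Type*} [TopologicalSpace Z] [TopologicalSpace X]
    (g : Z → X) (hg : IsClosedMap g) (hgc : Continuous g) {J : Type*} [Finite J]
    (F : J → Set Z) (hF : ∀ j, IsClosed (F j)) (hcov : ∀ z, ∃ j, z ∈ F j)
    (hinj : ∀ j, Set.InjOn g (F j)) (T : Set Z) (hT : IsClosed T) (hint : interior T = ∅) :
    interior (g '' T) = ∅ := by
  by_contra hne
  obtain ⟨u₀, hu₀⟩ := Set.nonempty_iff_ne_empty.mpr hne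
  let K : X → Set J := fun u ↦ {j | u ∈ g '' (T ∩ F j)}
  obtain ⟨⟨u, hu⟩, -, hmin⟩ := WellFounded.has_min
    (InvImage.wf (fun v : interior (g '' T) ↦ (K v.1).ncard) wellFounded_lt) Set.univ
    ⟨⟨u₀, hu₀⟩, trivial⟩
  have hmin' : ∀ v ∈ interior (g '' T), K v ⊆ K u → K v = K u := by
    intro v hv hle
    refine Set.eq_of_subset_of_ncard_le hle ?_ (Set.toFinite _)
    have := hmin ⟨v, hv⟩ trivial
    simpa [InvImage] using this
  let U : Set X := interior (g '' T) ∩ (⋃ j ∈ (K u)ᶜ, g '' (T ∩ F j))ᶜ
  have hU : IsOpen U := by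
    refine isOpen_interior.inter ?_
    rw [isOpen_compl_iff]
    exact (Set.toFinite _).isClosed_biUnion fun j _ ↦ hg _ (hT.inter (hF j))
  have hKU : ∀ v ∈ U, K v = K u := by
    rintro v ⟨hv, hv'⟩
    refine hmin' v hv fun j hj ↦ ?_
    by_contra hju
    exact hv' (Set.mem_biUnion hju hj)
  have huU : u ∈ U := by
    refine ⟨hu, fun h ↦ ?_⟩
    obtain ⟨j, hj, h⟩ := Set.mem_iUnion₂.mp h
    exact hj h
  let O : Set Z := g ⁻¹' U ∩ (⋃ j ∈ (K u)ᶜ, F j)ᶜ
  have hO : IsOpen O := by
    refine (hU.preimage hgc).inter ?_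
    rw [isOpen_compl_iff]
    exact (Set.toFinite _).isClosed_biUnion fun j _ ↦ hF j
  have hOT : O ⊆ T := by
    rintro z ⟨hz, hz'⟩
    obtain ⟨j, hj⟩ := hcov z
    have hjK : j ∈ K u := by
      by_contra hjK
      exact hz' (Set.mem_biUnion hjK hj)
    rw [← hKU _ hz] at hjK
    obtain ⟨z', ⟨hz'T, hz'F⟩, e⟩ := hjK
    exact hinj j hz'F hj e ▸ hz'T
  obtain ⟨t, ht, rfl⟩ := interior_subset hu
  have htO : t ∈ O := by
    refine ⟨huU, fun h ↦ ?_⟩
    obtain ⟨j, hj, h⟩ := Set.mem_iUnion₂.mp h
    exact hj ⟨t, ⟨ht, h⟩, rfl⟩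
  have : t ∈ interior T := mem_interior.mpr ⟨O, hOT, hO, htO⟩
  rw [hint] at this
  exact this

theorem exists_prime_tensor {R S T : Type u} [CommRing R] [CommRing S] [CommRing T] [Algebra R S]
    [Algebra R T] (p : PrimeSpectrum S) (q : PrimeSpectrum T)
    (h : PrimeSpectrum.comap (algebraMap R S) p = PrimeSpectrum.comap (algebraMap R T) q) :
    ∃ z : PrimeSpectrum (S ⊗[R] T), PrimeSpectrum.comap (algebraMap S (S ⊗[R] T)) z = p ∧
      PrimeSpectrum.comap (Algebra.TensorProduct.includeRight (R := R) (A := S) (B := T)).toRingHom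
        z = q := by
  obtain ⟨z, h1, h2⟩ := Scheme.Pullback.exists_preimage_pullback
    (f := Spec.map (CommRingCat.ofHom (algebraMap R S)))
    (g := Spec.map (CommRingCat.ofHom (algebraMap R T))) p q h
  refine ⟨(pullbackSpecIso R S T).hom z, ?_, ?_⟩
  · rw [← h1, ← pullbackSpecIso_hom_fst' R S T, Scheme.Hom.comp_apply]
    rfl
  · rw [← h2, ← pullbackSpecIso_hom_snd R S T, Scheme.Hom.comp_apply]
    rfl

set_option maxHeartbeats 1000000 in
/-- The image of a nowhere dense closed set under a finite ring map is nowhere dense. -/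
theorem interior_image_comap {R B : Type u} [CommRing R] [CommRing B] [Algebra R B]
    [Module.Finite R B] (T : Set (PrimeSpectrum B)) (hT : IsClosed T) (hint : interior T = ∅) :
    interior (PrimeSpectrum.comap (algebraMap R B) '' T) = ∅ := by
  classical
  cases subsingleton_or_nontrivial R
  · exact Set.eq_empty_of_isEmpty _
  obtain ⟨s, hs⟩ := (inferInstance : Algebra.FiniteType R B).out
  have hint' : ∀ b : B, IsIntegral R b := fun b ↦ Algebra.IsIntegral.isIntegral b
  choose P hPm hP using hint'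
  let Q : R[X] := ∏ b ∈ s, P b
  have hQm : Q.Monic := Polynomial.monic_prod_of_monic _ _ fun b _ ↦ hPm b
  have hQ : ∀ b ∈ s, aeval b Q = 0 := by
    intro b hb
    rw [map_prod]
    exact Finset.prod_eq_zero hb (hP b)
  obtain ⟨R', _, _, _, _, _, hsplit⟩ := hQm.exists_splits_map
  obtain ⟨m, hm⟩ := splits_iff_exists_multiset'.mp hsplit
  rw [(hQm.map _).leadingCoeff, map_one, one_mul] at hm
  let B' := B ⊗[R] R'
  let ι : R' →ₐ[R] B' := Algebra.TensorProduct.includeRight
  let h : PrimeSpectrum R' → PrimeSpectrum R := PrimeSpectrum.comap (algebraMap R R')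
  let g' : PrimeSpectrum B' → PrimeSpectrum R' := PrimeSpectrum.comap ι.toRingHom
  let h' : PrimeSpectrum B' → PrimeSpectrum B := PrimeSpectrum.comap (algebraMap B B')
  have hh : Function.Surjective h := PrimeSpectrum.comap_surjective_of_faithfullyFlat
  have hh' : IsOpenMap h' := by
    have : Module.FinitePresentation R R' := Module.finitePresentation_of_projective R R'
    have : Algebra.FinitePresentation R R' := inferInstance
    have : Algebra.FinitePresentation B B' := Algebra.FinitePresentation.baseChange B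
    exact PrimeSpectrum.isOpenMap_comap_of_hasGoingDown_of_finitePresentation
  have hg' : IsClosedMap g' := by
    apply PrimeSpectrum.isClosedMap_comap_of_isIntegral
    have h1 : (algebraMap R' (R' ⊗[R] B)).IsIntegral := algebraMap_isIntegral_iff.mpr inferInstance
    have h2 : (Algebra.TensorProduct.comm R R' B).toRingHom.IsIntegral :=
      RingHom.IsIntegral.of_finite (.of_surjective _ (Algebra.TensorProduct.comm R R' B).surjective)
    have h3 := RingHom.IsIntegral.trans _ _ h1 h2
    have e : ι.toRingHom = (Algebra.TensorProduct.comm R R' B).toRingEquiv.toRingHom.comp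
        (algebraMap R' (R' ⊗[R] B)) := by
      ext r
      rfl
    rw [e]
    exact h3
  -- the closed sets
  let J := s → m.toFinset
  let K : J → Set B' := fun j ↦ {x | ∃ b : s, x = (b.1 ⊗ₜ[R] (1 : R') + ι (j b).1 : B')}
  let F : J → Set (PrimeSpectrum B') := fun j ↦ PrimeSpectrum.zeroLocus (K j)
  have hcov : ∀ z : PrimeSpectrum B', ∃ j, z ∈ F j := by
    intro z
    have h1 : ∀ b : s, ∃ a : m.toFinset, (b.1 ⊗ₜ[R] (1 : R') + ι a.1 : B') ∈ z.asIdeal := by
      intro b
      have h2 : aeval (algebraMap B B' b.1) Q = 0 := by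
        rw [aeval_algebraMap_apply, hQ b.1 b.2, map_zero]
      have h3 : Polynomial.eval₂ ι.toRingHom (algebraMap B B' b.1) (Q.map (algebraMap R R')) = 0 := by
        rw [Polynomial.eval₂_map, ← h2, aeval_def]
        congr 1
        exact ι.comp_algebraMap
      rw [hm, Polynomial.eval₂_multiset_prod, Multiset.map_map] at h3
      have h4 : (Multiset.map ((Polynomial.eval₂ ι.toRingHom (algebraMap B B' b.1)) ∘
          (fun x ↦ X + C x)) m).prod ∈ z.asIdeal := by
        rw [h3]; exact zero_mem _
      obtain ⟨_, hx, hx'⟩ := (Ideal.IsPrime.multiset_prod_mem_iff_exists_mem z.2 _).mp h4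
      obtain ⟨a, ha, rfl⟩ := Multiset.mem_map.mp hx
      refine ⟨⟨a, Multiset.mem_toFinset.mpr ha⟩, ?_⟩
      have hx'' : algebraMap B B' b.1 + ι a ∈ z.asIdeal := by simpa using hx'
      exact hx''
    choose j hj using h1
    refine ⟨j, ?_⟩
    rintro _ ⟨b, rfl⟩
    exact hj b
  have hsurj : ∀ (j : J) (x : B'), ∃ r : R', x - ι r ∈ Ideal.span (K j) := by
    intro j x
    induction x using TensorProduct.induction_on with
    | zero => exact ⟨0, by simp⟩
    | add x y hx hy =>
      obtain ⟨r, hr⟩ := hx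
      obtain ⟨r', hr'⟩ := hy
      refine ⟨r + r', ?_⟩
      have := add_mem hr hr'
      rw [map_add]
      convert this using 1
      ring
    | tmul b r =>
      have hb : b ∈ Algebra.adjoin R (s : Set B) := hs ▸ Algebra.mem_top
      suffices ∃ r : R', (b ⊗ₜ[R] (1 : R') : B') - ι r ∈ Ideal.span (K j) by
        obtain ⟨r', hr'⟩ := this
        refine ⟨r' * r, ?_⟩
        have := Ideal.mul_mem_right (ι r) _ hr'
        have e : (b ⊗ₜ[R] r : B') - ι (r' * r) = ((b ⊗ₜ[R] (1 : R') : B') - ι r') * ι r := by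
          rw [sub_mul, map_mul]
          congr 1
          simp [ι, B']
        rw [e]
        exact this
      induction hb using Algebra.adjoin_induction with
      | mem b hb =>
        refine ⟨- (j ⟨b, hb⟩).1, Ideal.subset_span ⟨⟨b, hb⟩, ?_⟩⟩
        rw [map_neg, sub_neg_eq_add]
      | algebraMap r =>
        refine ⟨algebraMap R R' r, ?_⟩
        have : (algebraMap R B r ⊗ₜ[R] (1 : R') : B') - ι (algebraMap R R' r) = 0 := by
          rw [sub_eq_zero]
          change (algebraMap R B r ⊗ₜ[R] (1 : R') : B ⊗[R] R') = 1 ⊗ₜ[R] algebraMap R R' r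
          rw [Algebra.algebraMap_eq_smul_one, Algebra.algebraMap_eq_smul_one,
            TensorProduct.smul_tmul]
        rw [this]
        exact zero_mem _
      | add b b' _ _ h1 h2 =>
        obtain ⟨r, hr⟩ := h1
        obtain ⟨r', hr'⟩ := h2
        refine ⟨r + r', ?_⟩
        have := add_mem hr hr'
        rw [map_add, TensorProduct.add_tmul]
        convert this using 1
        ring
      | mul b b' _ _ h1 h2 =>
        obtain ⟨r, hr⟩ := h1
        obtain ⟨r', hr'⟩ := h2
        refine ⟨r * r', ?_⟩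
        have e1 := Ideal.mul_mem_right ((b' ⊗ₜ[R] (1 : R') : B')) _ hr
        have e2 := Ideal.mul_mem_left _ (ι r) hr'
        have := add_mem e1 e2
        convert this using 1
        have : ((b * b') ⊗ₜ[R] (1 : R') : B') = (b ⊗ₜ[R] (1 : R') : B') * (b' ⊗ₜ[R] (1 : R') : B') := by
          simp
        rw [this, map_mul]
        ring
  have hinj : ∀ j, Set.InjOn g' (F j) := by
    intro j z hz z' hz' e
    have key : ∀ (w : PrimeSpectrum B') (hw : w ∈ F j) (x : B') (r : R')
        (hr : x - ι r ∈ Ideal.span (K j)), x ∈ w.asIdeal ↔ r ∈ (g' w).asIdeal := by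
      intro w hw x r hr
      have h1 : x - ι r ∈ w.asIdeal := Ideal.span_le.mpr hw hr
      have h2 : r ∈ (g' w).asIdeal ↔ ι r ∈ w.asIdeal := Iff.rfl
      rw [h2]
      constructor
      · intro hx
        have := sub_mem hx h1
        simpa using this
      · intro hx
        have := add_mem h1 hx
        simpa using this
    ext x
    obtain ⟨r, hr⟩ := hsurj j x
    rw [key z hz x r hr, key z' hz' x r hr, e]
  have hF : ∀ j, IsClosed (F j) := fun j ↦ PrimeSpectrum.isClosed_zeroLocus _
  let T' : Set (PrimeSpectrum B') := h' ⁻¹' T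
  have hT' : IsClosed T' := hT.preimage (PrimeSpectrum.continuous_comap _)
  have hint' : interior T' = ∅ := by
    have h1 : h' '' interior T' ⊆ interior T := by
      refine interior_maximal ?_ (hh' _ isOpen_interior)
      rintro _ ⟨z, hz, rfl⟩
      exact (interior_subset hz : z ∈ T')
    rw [hint, Set.subset_empty_iff, Set.image_eq_empty] at h1
    exact h1
  have hres := interior_image_eq_empty g' hg' (PrimeSpectrum.continuous_comap _) F hF hcov hinj
    T' hT' hint'
  have h1 : h ⁻¹' (interior (PrimeSpectrum.comap (algebraMap R B) '' T)) ⊆ interior (g' '' T') := by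
    refine interior_maximal ?_ (isOpen_interior.preimage (PrimeSpectrum.continuous_comap _))
    intro p hp
    obtain ⟨t, ht, e⟩ := interior_subset hp
    obtain ⟨z, hz1, hz2⟩ := exists_prime_tensor t p e
    have hz1' : h' z = t := hz1
    exact ⟨z, by change h' z ∈ T; rw [hz1']; exact ht, hz2⟩
  rw [hres, Set.subset_empty_iff] at h1
  by_contra hne
  obtain ⟨x, hx⟩ := Set.nonempty_iff_ne_empty.mpr hne
  obtain ⟨y, rfl⟩ := hh x
  have : y ∈ h ⁻¹' (interior (PrimeSpectrum.comap (algebraMap R B) '' T)) := hx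
  rw [h1] at this
  exact this

theorem interior_image_Spec {R B : CommRingCat.{u}} (φ : R ⟶ B) (hφ : φ.hom.Finite)
    (T : Set (Spec B)) (hT : IsClosed T) (hint : interior T = ∅) :
    interior (Spec.map φ '' T) = ∅ := by
  algebraize [φ.hom]
  exact interior_image_comap (R := R) (B := B) T hT hint

theorem interior_image_of_isFinite_of_isAffine {Z X : Scheme.{u}} (g : Z ⟶ X) [IsAffine X]
    [IsFinite g] (T : Set Z) (hT : IsClosed T) (hint : interior T = ∅) :
    interior (g '' T) = ∅ := by
  have : IsAffine Z := isAffine_of_isAffineHom g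
  let eZ := Z.isoSpec.hom.homeomorph
  let eX := X.isoSpec.hom.homeomorph
  have hint' : interior (eZ '' T) = ∅ := by rw [← eZ.image_interior, hint, Set.image_empty]
  have h1 := interior_image_Spec g.appTop g.finite_appTop (eZ '' T) (eZ.isClosedMap _ hT) hint'
  have h2 : Spec.map g.appTop '' (eZ '' T) = eX '' (g '' T) := by
    rw [← Set.image_comp, ← Set.image_comp]
    congr 1
    funext z
    change (Z.isoSpec.hom ≫ Spec.map g.appTop) z = (g ≫ X.isoSpec.hom) z
    rw [Scheme.isoSpec_hom_naturality]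
  rw [h2, ← eX.image_interior, Set.image_eq_empty] at h1
  exact h1

/-- Stacks 03J2: the image of a nowhere dense closed subset under a finite morphism is nowhere
dense. -/
theorem interior_image_of_isFinite {Z X : Scheme.{u}} (g : Z ⟶ X)
    [IsFinite g] (T : Set Z) (hT : IsClosed T) (hint : interior T = ∅) :
    interior (g '' T) = ∅ := by
  by_contra hne
  obtain ⟨x, hx⟩ := Set.nonempty_iff_ne_empty.mpr hne
  obtain ⟨_, ⟨U', hU, rfl⟩, hxU, -⟩ := X.isBasis_affineOpens.exists_subset_of_mem_open
    (Set.mem_univ x) isOpen_univ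
  let U : X.Opens := U'
  have : IsAffine U := hU
  let T' : Set (g ⁻¹ᵁ U) := (g ⁻¹ᵁ U).ι ⁻¹' T
  have hT' : IsClosed T' := hT.preimage (g ⁻¹ᵁ U).ι.continuous
  have hint' : interior T' = ∅ := by
    have h1 : (g ⁻¹ᵁ U).ι '' interior T' ⊆ interior T := by
      refine interior_maximal ?_ ((g ⁻¹ᵁ U).ι.isOpenEmbedding.isOpenMap _ isOpen_interior)
      rintro _ ⟨z, hz, rfl⟩
      exact (interior_subset hz : z ∈ T')
    rw [hint, Set.subset_empty_iff, Set.image_eq_empty] at h1
    exact h1
  have h2 := interior_image_of_isFinite_of_isAffine (g ∣_ U) T' hT' hint'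
  have h3 : U.ι ⁻¹' interior (g '' T) ⊆ interior ((g ∣_ U) '' T') := by
    refine interior_maximal ?_ (isOpen_interior.preimage U.ι.continuous)
    intro y hy
    obtain ⟨t, ht, e⟩ := interior_subset hy
    have htU : t ∈ g ⁻¹ᵁ U := by
      change g t ∈ U
      rw [e]
      exact y.2
    refine ⟨⟨t, htU⟩, ht, ?_⟩
    apply U.ι.isOpenEmbedding.injective
    have e2 : ((g ∣_ U) ≫ U.ι) (⟨t, htU⟩ : (g ⁻¹ᵁ U).toScheme) = ((g ⁻¹ᵁ U).ι ≫ g) ⟨t, htU⟩ := by
      rw [morphismRestrict_ι]
    exact e2.trans e
  rw [h2, Set.subset_empty_iff] at h3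
  have : (⟨x, hxU⟩ : U) ∈ U.ι ⁻¹' interior (g '' T) := hx
  rw [h3] at this
  exact this

end Groth.Agent.FlatA.NowhereDense
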