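import Groth.Agent.FlatA.ZMTFactor
import Groth.Agent.FlatA.NowhereDense

/-!
A quasi-finite morphism is finite over a dense open (Stacks 03I1).
-/

set_option autoImplicit false
universe u

open AlgebraicGeometry CategoryTheory Limits

namespace Groth.Agent.FlatA.FiniteDenseOpen

set_option backward.isDefEq.respectTransparency false in
theorem isZariskiLocalAtTarget_isFinite :
    IsZariskiLocalAtTarget (@IsFinite : MorphismProperty Scheme.{u}) := inferInstance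

set_option backward.isDefEq.respectTransparency false in
theorem respectsIso_isFinite :
    MorphismProperty.RespectsIso (@IsFinite : MorphismProperty Scheme.{u}) := inferInstance

attribute [local instance] isZariskiLocalAtTarget_isFinite respectsIso_isFinite

/-- Restriction to a smaller open. -/
theorem restrict_of_le (P : MorphismProperty Scheme.{u}) [IsZariskiLocalAtTarget P]
    {X S : Scheme.{u}} (f : X ⟶ S) {U V : S.Opens} (h : U ≤ V) (H : P (f ∣_ V)) : P (f ∣_ U) := by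
  have h1 := IsZariskiLocalAtTarget.restrict (P := P) H (V.ι ⁻¹ᵁ U)
  rw [P.arrow_mk_iso_iff (morphismRestrictRestrict _ _ _)] at h1
  have e : V.ι ''ᵁ (V.ι ⁻¹ᵁ U) = U := by
    rw [Scheme.Hom.image_preimage_eq_opensRange_inf, Scheme.Opens.opensRange_ι]
    exact inf_eq_right.mpr h
  rwa [P.arrow_mk_iso_iff (morphismRestrictEq _ e)] at h1

set_option backward.isDefEq.respectTransparency false in
/-- `Y` is covered by two opens finite over `X` whose intersection is closed in the second one. -/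
theorem isFinite_of_cover {Y₁ Y₂ Y X : Scheme.{u}} (f : Y ⟶ X) (i₁ : Y₁ ⟶ Y) (i₂ : Y₂ ⟶ Y)
    [IsOpenImmersion i₁] [IsOpenImmersion i₂]
    (hcov : ∀ y : Y, y ∈ Set.range i₁ ∨ y ∈ Set.range i₂)
    [IsFinite (i₁ ≫ f)] [IsFinite (i₂ ≫ f)] (hW : IsClosed (i₂ ⁻¹' Set.range i₁)) :
    IsFinite f := by
  let C : Y₂.Opens := ⟨(i₂ ⁻¹' Set.range i₁)ᶜ, hW.isOpen_compl⟩
  have hC : IsClosed (C : Set Y₂) :=
    (i₁.isOpenEmbedding.isOpen_range.preimage i₂.continuous).isClosed_compl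
  have : IsClosedImmersion C.ι := .of_isPreimmersion _ (by simpa using hC)
  let k : C.toScheme ⟶ Y := C.ι ≫ i₂
  have hcompl : IsCompl i₁.opensRange k.opensRange := by
    constructor
    · rw [disjoint_iff, eq_bot_iff]
      rintro y ⟨h1, c, rfl⟩
      refine c.2 ?_
      exact h1
    · rw [codisjoint_iff, eq_top_iff]
      rintro y -
      by_cases h1 : y ∈ Set.range i₁
      · exact Or.inl h1
      · right
        obtain ⟨z, rfl⟩ := (hcov y).resolve_left h1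
        exact ⟨⟨z, h1⟩, rfl⟩
  obtain ⟨H⟩ := nonempty_isColimit_binaryCofanMk_of_isCompl i₁ k hcompl
  let e : Y₁ ⨿ C.toScheme ≅ Y := (coprodIsCoprod Y₁ C.toScheme).coconePointUniqueUpToIso H
  have he1 : coprod.inl ≫ e.hom = i₁ :=
    (coprodIsCoprod Y₁ C.toScheme).comp_coconePointUniqueUpToIso_hom H ⟨.left⟩
  have he2 : coprod.inr ≫ e.hom = k :=
    (coprodIsCoprod Y₁ C.toScheme).comp_coconePointUniqueUpToIso_hom H ⟨.right⟩
  rw [← MorphismProperty.cancel_left_of_respectsIso @IsFinite e.hom]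
  have h2 : e.hom ≫ f = coprod.desc (i₁ ≫ f) (C.ι ≫ (i₂ ≫ f)) := by
    apply coprod.hom_ext
    · rw [coprod.inl_desc, reassoc_of% he1]
    · rw [coprod.inr_desc, reassoc_of% he2]
      simp [k]
  rw [h2]
  infer_instance

/-- Every nonempty open of the target contains a nonempty open over which `f` is finite. -/
def Good {Y X : Scheme.{u}} (f : Y ⟶ X) : Prop :=
  ∀ O : X.Opens, (O : Set X).Nonempty → ∃ U : X.Opens, U ≤ O ∧ (U : Set X).Nonempty ∧
    IsFinite (f ∣_ U)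

set_option backward.isDefEq.respectTransparency false in
theorem good_of_isAffine_of_isSeparated {Y X : Scheme.{u}} (f : Y ⟶ X) [IsAffine X]
    [LocallyQuasiFinite f] [LocallyOfFiniteType f] [QuasiCompact f] [IsSeparated f] : Good f := by
  obtain ⟨T, j, π, -, hj, hjd, hπ, hjπ⟩ := ZMTFactor.exists_factor_of_isAffine f
  intro O hO
  let Z : Set T := (Set.range j)ᶜ
  have hZ : IsClosed Z := j.isOpenEmbedding.isOpen_range.isClosed_compl
  have hZint : interior Z = ∅ := by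
    have : Dense (Set.range j) := hjd.denseRange
    exact this.interior_compl
  have hD : interior (π '' Z) = ∅ := NowhereDense.interior_image_of_isFinite π Z hZ hZint
  have hDc : IsClosed (π '' Z) := π.isClosedMap _ hZ
  let U : X.Opens := O ⊓ ⟨(π '' Z)ᶜ, hDc.isOpen_compl⟩
  refine ⟨U, inf_le_left, ?_, ?_⟩
  · by_contra hne
    have h1 : (O : Set X) ⊆ interior (π '' Z) := by
      refine interior_maximal ?_ O.2
      intro x hx
      by_contra hx'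
      exact hne ⟨x, hx, hx'⟩
    rw [hD, Set.subset_empty_iff] at h1
    rw [h1] at hO
    exact Set.not_nonempty_empty hO
  · rw [← hjπ, morphismRestrict_comp]
    have h4 : Surjective (j ∣_ (π ⁻¹ᵁ U)) := by
      refine ⟨fun t ↦ ?_⟩
      have ht : π t.1 ∈ U := t.2
      have ht' : t.1 ∈ Set.range j := by
        by_contra hne
        exact ht.2 ⟨t.1, hne, rfl⟩
      obtain ⟨y, hy⟩ := ht'
      refine ⟨⟨y, ?_⟩, ?_⟩
      · change j y ∈ π ⁻¹ᵁ U
        rw [hy]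
        exact t.2
      · apply (π ⁻¹ᵁ U).ι.isOpenEmbedding.injective
        have e2 : ((j ∣_ (π ⁻¹ᵁ U)) ≫ (π ⁻¹ᵁ U).ι) (⟨y, by
            change j y ∈ π ⁻¹ᵁ U; rw [hy]; exact t.2⟩ : (j ⁻¹ᵁ π ⁻¹ᵁ U).toScheme) = j y := by
          rw [morphismRestrict_ι]; rfl
        exact e2.trans hy
    have h5 : IsIso (j ∣_ (π ⁻¹ᵁ U)) :=
      (isIso_iff_isOpenImmersion_and_surjective _).mpr ⟨inferInstance, inferInstance⟩
    have h6 : IsFinite (π ∣_ U) := IsZariskiLocalAtTarget.restrict (P := @IsFinite) hπ U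
    infer_instance

set_option backward.isDefEq.respectTransparency false in
theorem good_of_cover {Y₁ Y₂ Y X : Scheme.{u}} (f : Y ⟶ X) (i₁ : Y₁ ⟶ Y) (i₂ : Y₂ ⟶ Y)
    [IsOpenImmersion i₁] [IsOpenImmersion i₂]
    (hcov : ∀ y : Y, y ∈ Set.range i₁ ∨ y ∈ Set.range i₂)
    (h₁ : Good (i₁ ≫ f)) (h₂ : Good (i₂ ≫ f)) : Good f := by
  intro O hO
  obtain ⟨U₁, hU₁O, hU₁, hf₁⟩ := h₁ O hO
  obtain ⟨U₂, hU₂U₁, hU₂, hf₂⟩ := h₂ U₁ hU₁
  let W : Set Y₂ := i₂ ⁻¹' Set.range i₁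
  have hW : IsOpen W := i₁.isOpenEmbedding.isOpen_range.preimage i₂.continuous
  let Z : Set Y₂ := closure W ∩ Wᶜ
  have hZ : IsClosed Z := isClosed_closure.inter hW.isClosed_compl
  have hZint : interior Z = ∅ := by
    by_contra hne
    obtain ⟨z, hz⟩ := Set.nonempty_iff_ne_empty.mpr hne
    have h1 : z ∈ closure W := (interior_subset hz).1
    obtain ⟨w, hw1, hw2⟩ := mem_closure_iff.mp h1 _ isOpen_interior hz
    exact (interior_subset hw1).2 hw2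
  let g₂ := (i₂ ≫ f) ∣_ U₂
  let Z₂ : Set ((i₂ ≫ f) ⁻¹ᵁ U₂) := ((i₂ ≫ f) ⁻¹ᵁ U₂).ι ⁻¹' Z
  have hZ₂ : IsClosed Z₂ := hZ.preimage ((i₂ ≫ f) ⁻¹ᵁ U₂).ι.continuous
  have hZ₂int : interior Z₂ = ∅ := by
    have h1 : ((i₂ ≫ f) ⁻¹ᵁ U₂).ι '' interior Z₂ ⊆ interior Z := by
      refine interior_maximal ?_
        (((i₂ ≫ f) ⁻¹ᵁ U₂).ι.isOpenEmbedding.isOpenMap _ isOpen_interior)
      rintro _ ⟨z, hz, rfl⟩
      exact (interior_subset hz : z ∈ Z₂)
    rw [hZint, Set.subset_empty_iff, Set.image_eq_empty] at h1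
    exact h1
  have hD : interior (g₂ '' Z₂) = ∅ := NowhereDense.interior_image_of_isFinite g₂ Z₂ hZ₂ hZ₂int
  have hDc : IsClosed (g₂ '' Z₂) := g₂.isClosedMap _ hZ₂
  let D' : U₂.toScheme.Opens := ⟨(g₂ '' Z₂)ᶜ, hDc.isOpen_compl⟩
  let U₃ : X.Opens := U₂.ι ''ᵁ D'
  have hU₃U₂ : U₃ ≤ U₂ := by
    rintro _ ⟨x, -, rfl⟩
    exact x.2
  refine ⟨U₃, hU₃U₂.trans (hU₂U₁.trans hU₁O), ?_, ?_⟩
  · by_contra hne
    have h1 : (Set.univ : Set U₂) ⊆ interior (g₂ '' Z₂) := by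
      refine interior_maximal ?_ isOpen_univ
      intro x _
      by_contra hx'
      exact hne ⟨U₂.ι x, x, hx', rfl⟩
    rw [hD] at h1
    obtain ⟨x, hx⟩ := hU₂
    exact h1 (Set.mem_univ (⟨x, hx⟩ : U₂))
  · have hf₁' : IsFinite ((i₁ ≫ f) ∣_ U₃) := restrict_of_le @IsFinite _ (hU₃U₂.trans hU₂U₁) hf₁
    have hf₂' : IsFinite ((i₂ ≫ f) ∣_ U₃) := restrict_of_le @IsFinite _ hU₃U₂ hf₂
    rw [morphismRestrict_comp] at hf₁' hf₂'
    have hres : ∀ {A B : Scheme.{u}} (i : A ⟶ B) (V : B.Opens) (a : A) (ha : i a ∈ V),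
        (i ∣_ V) (⟨a, ha⟩ : (i ⁻¹ᵁ V).toScheme) = ⟨i a, ha⟩ := by
      intro A B i V a ha
      apply V.ι.isOpenEmbedding.injective
      have e2 : ((i ∣_ V) ≫ V.ι) (⟨a, ha⟩ : (i ⁻¹ᵁ V).toScheme) = ((i ⁻¹ᵁ V).ι ≫ i) ⟨a, ha⟩ := by
        rw [morphismRestrict_ι]
      exact e2
    refine isFinite_of_cover (f ∣_ U₃) (i₁ ∣_ (f ⁻¹ᵁ U₃)) (i₂ ∣_ (f ⁻¹ᵁ U₃)) ?_ ?_
    · rintro ⟨y, hy⟩
      obtain ⟨z, rfl⟩ | ⟨z, rfl⟩ := hcov y
      · left
        exact ⟨⟨z, hy⟩, hres i₁ (f ⁻¹ᵁ U₃) z hy⟩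
      · right
        exact ⟨⟨z, hy⟩, hres i₂ (f ⁻¹ᵁ U₃) z hy⟩
    · have key : (i₂ ∣_ (f ⁻¹ᵁ U₃)) ⁻¹' Set.range (i₁ ∣_ (f ⁻¹ᵁ U₃)) =
          (i₂ ⁻¹ᵁ (f ⁻¹ᵁ U₃)).ι ⁻¹' closure W := by
        ext ⟨y, hy⟩
        have hy' : f (i₂ y) ∈ U₃ := hy
        constructor
        · rintro ⟨⟨z, hz⟩, hz'⟩
          refine subset_closure ?_
          refine ⟨z, ?_⟩
          have h1 := hres i₁ (f ⁻¹ᵁ U₃) z hz
          have h2 := hres i₂ (f ⁻¹ᵁ U₃) y hy
          have h3 : (i₁ ∣_ (f ⁻¹ᵁ U₃)) (⟨z, hz⟩ : (i₁ ⁻¹ᵁ (f ⁻¹ᵁ U₃)).toScheme) =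
            (i₂ ∣_ (f ⁻¹ᵁ U₃)) (⟨y, hy⟩ : (i₂ ⁻¹ᵁ (f ⁻¹ᵁ U₃)).toScheme) := hz'
          rw [h1, h2] at h3
          exact congrArg Subtype.val h3
        · intro hyc
          have hyW : y ∈ W := by
            by_contra hyW
            obtain ⟨x, hx, hx'⟩ := hy'
            refine hx ?_
            have hyU₂ : (i₂ ≫ f) y ∈ U₂ := hU₃U₂ hy
            refine ⟨⟨y, hyU₂⟩, ⟨hyc, hyW⟩, ?_⟩
            rw [hres]
            apply U₂.ι.isOpenEmbedding.injective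
            exact hx'.symm
          obtain ⟨z, hz⟩ := hyW
          have hz' : i₁ z ∈ f ⁻¹ᵁ U₃ := by rw [hz]; exact hy
          refine ⟨⟨z, hz'⟩, ?_⟩
          have h1 := hres i₁ (f ⁻¹ᵁ U₃) z hz'
          have h2 := hres i₂ (f ⁻¹ᵁ U₃) y hy
          refine h1.trans ?_
          refine Eq.trans ?_ h2.symm
          exact Subtype.ext hz
      rw [key]
      exact isClosed_closure.preimage (i₂ ⁻¹ᵁ (f ⁻¹ᵁ U₃)).ι.continuous

theorem good_of_isEmpty {Y X : Scheme.{u}} (f : Y ⟶ X) [IsEmpty Y] : Good f := by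
  intro O hO
  refine ⟨O, le_rfl, hO, ?_⟩
  have : IsEmpty (f ⁻¹ᵁ O) := ⟨fun x ↦ IsEmpty.false x.1⟩
  have : IsClosedImmersion (f ∣_ O) := by
    refine .of_isPreimmersion _ ?_
    rw [Set.range_eq_empty]
    exact isClosed_empty
  infer_instance

theorem good_of_isAffine {Y X : Scheme.{u}} (f : Y ⟶ X) [IsAffine X]
    [LocallyQuasiFinite f] [LocallyOfFiniteType f] [QuasiCompact f] : Good f := by
  have : CompactSpace Y := QuasiCompact.compactSpace_of_compactSpace f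
  have key : ∀ O : Y.Opens, IsCompact (O : Set Y) → Good (O.ι ≫ f) := by
    intro O hO
    refine compact_open_induction_on (P := fun O ↦ Good (O.ι ≫ f)) O hO ?_ ?_
    · have : IsEmpty (⊥ : Y.Opens) := ⟨fun x ↦ x.2⟩
      exact good_of_isEmpty _
    · intro O₁ hO₁ V ih
      refine good_of_cover _ (Y.homOfLE (le_sup_left : O₁ ≤ O₁ ⊔ V.1))
        (Y.homOfLE (le_sup_right : V.1 ≤ O₁ ⊔ V.1)) ?_ ?_ ?_
      · rintro ⟨y, hy | hy⟩
        · left
          exact ⟨⟨y, hy⟩, by apply Subtype.ext; simp⟩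
        · right
          exact ⟨⟨y, hy⟩, by apply Subtype.ext; simp⟩
      · rw [Scheme.homOfLE_ι_assoc]
        exact ih
      · rw [Scheme.homOfLE_ι_assoc]
        have : IsAffine V.1 := V.2
        exact good_of_isAffine_of_isSeparated _
  have h1 := key ⊤ (by simpa using CompactSpace.isCompact_univ)
  refine good_of_cover f (⊤ : Y.Opens).ι (⊤ : Y.Opens).ι (fun y ↦ Or.inl ⟨⟨y, trivial⟩, rfl⟩) h1 h1

/-- Stacks 03I1: a quasi-finite morphism is finite over a dense open subset. -/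
theorem exists_dense_isFinite {Y X : Scheme.{u}} (f : Y ⟶ X) [LocallyQuasiFinite f]
    [LocallyOfFiniteType f] [QuasiCompact f] :
    ∃ U : X.Opens, Dense (U : Set ↑X) ∧ IsFinite (f ∣_ U) := by
  refine ⟨⨆ U : {U : X.Opens // IsFinite (f ∣_ U)}, U.1, ?_,
    ZMTFactor.restrict_iSup @IsFinite f _ fun U ↦ U.2⟩
  rw [dense_iff_inter_open]
  intro O hO hne
  obtain ⟨x, hx⟩ := hne
  obtain ⟨_, ⟨O', hO', rfl⟩, hxO', hO'O⟩ := X.isBasis_affineOpens.exists_subset_of_mem_open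
    hx hO
  let V : X.Opens := O'
  have : IsAffine V := hO'
  obtain ⟨U, -, hU, hf⟩ := good_of_isAffine (f ∣_ V) ⊤ ⟨⟨x, hxO'⟩, trivial⟩
  rw [MorphismProperty.arrow_mk_iso_iff @IsFinite (morphismRestrictRestrict _ _ _)] at hf
  obtain ⟨y, hy⟩ := hU
  refine ⟨y.1, hO'O y.2, ?_⟩
  have h2 : V.ι ''ᵁ U ≤ ⨆ U : {U : X.Opens // IsFinite (f ∣_ U)}, U.1 :=
    le_iSup (fun U : {U : X.Opens // IsFinite (f ∣_ U)} ↦ U.1) ⟨V.ι ''ᵁ U, hf⟩
  exact h2 ⟨y, hy, rfl⟩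

end Groth.Agent.FlatA.FiniteDenseOpen
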