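import Groth.Agent.FlatA.FiniteExtendLocal
import Groth.Agent.FlatA.GlueTwo

/-!
# Extending finite finitely presented schemes over a quasi-compact open
-/

set_option autoImplicit false
universe u

namespace Groth.Agent.FlatA.FiniteExtend

open CategoryTheory Limits AlgebraicGeometry

theorem isOpenImmersion_of_isIso_morphismRestrict {X Y : Scheme.{u}} (q : X ⟶ Y) (U : Y.Opens)
    (hU : q ⁻¹ᵁ U = ⊤) (h : IsIso (q ∣_ U)) : IsOpenImmersion q ∧ Set.range q = U := by
  have h1 : IsIso (q ⁻¹ᵁ U).ι := by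
    rw [hU]
    exact inferInstanceAs (IsIso X.topIso.hom)
  have h2 : q = inv (q ⁻¹ᵁ U).ι ≫ (q ∣_ U) ≫ U.ι := by
    rw [IsIso.eq_inv_comp, morphismRestrict_ι]
  constructor
  · rw [h2]
    infer_instance
  · have h3 : q = (inv (q ⁻¹ᵁ U).ι ≫ (q ∣_ U)) ≫ U.ι := by rw [Category.assoc]; exact h2
    rw [h3, Scheme.Hom.comp_base, TopCat.coe_comp, Set.range_comp]
    have : Function.Surjective (inv (q ⁻¹ᵁ U).ι ≫ (q ∣_ U)) := Scheme.Hom.surjective _
    rw [this.range_eq, Set.image_univ]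
    exact Subtype.range_coe

theorem isIso_morphismRestrict_iSup {X Y : Scheme.{u}} (q : X ⟶ Y) {ι : Type u}
    (V : ι → Y.Opens) (h : ∀ i, IsIso (q ∣_ V i)) : IsIso (q ∣_ ⨆ i, V i) := by
  let 𝒰 := Scheme.Opens.iSupOpenCover V
  refine (IsZariskiLocalAtTarget.iff_of_openCover (P := .isomorphisms _) 𝒰).mpr fun x ↦ ?_
  refine (MorphismProperty.arrow_mk_iso_iff (.isomorphisms _)
    ((morphismRestrictRestrict ..).symm ≪≫ morphismRestrictOpensRange ..)).mp ?_
  have : Scheme.Opens.ι _ ''ᵁ (𝒰.f x).opensRange = V x := by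
    simp only [Scheme.Opens.iSupOpenCover, 𝒰, ← Scheme.Hom.opensRange_comp, Scheme.homOfLE_ι,
      Scheme.Opens.opensRange_ι]
  convert! h x

theorem exists_extension_affine₀ {Y E T : Scheme.{u}} [IsAffine T] (a : E ⟶ T)
    [IsOpenImmersion a] [CompactSpace E] (π : Y ⟶ E) [IsFinite π]
    [LocallyOfFinitePresentation π] :
    ∃ (Y' : Scheme.{u}) (π' : Y' ⟶ T) (q : Y ⟶ Y'), IsFinite π' ∧
      LocallyOfFinitePresentation π' ∧ IsPullback q π π' a ∧
      ∃ s : Set Γ(T, ⊤), s.Finite ∧ ∀ x : T, (∃ b ∈ s, x ∈ T.basicOpen b) ↔ x ∈ Set.range a := by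
  have hcomp : IsCompact (Set.range a) := by
    rw [← Set.image_univ]
    exact isCompact_univ.image a.continuous
  obtain ⟨s, hsfin, hs⟩ := (TopologicalSpace.Opens.IsBasis.isCompact_open_iff_eq_finite_iUnion
    (T.basicOpen : Γ(T, ⊤) → T.Opens) (isBasis_basicOpen T)
    (fun i => ((isAffineOpen_top T).basicOpen i).isCompact) (Set.range a)).mp
    ⟨hcomp, a.isOpenEmbedding.isOpen_range⟩
  have hle (i : s) : T.basicOpen i.1 ≤ a.opensRange := by
    intro x hx
    change x ∈ Set.range a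
    rw [hs]
    exact Set.mem_biUnion i.2 hx
  have hQS : QuasiSeparatedSpace E := quasiSeparatedSpace_of_quasiSeparated a
  have hYc : CompactSpace Y := QuasiCompact.compactSpace_of_compactSpace π
  have hYQS : QuasiSeparatedSpace Y := quasiSeparatedSpace_of_quasiSeparated π
  have haaff (i : s) : IsAffineOpen (a ⁻¹ᵁ T.basicOpen i.1) :=
    ((isAffineOpen_top T).basicOpen i.1).preimage_of_isOpenImmersion a (hle i)
  have haiso (i : s) : Function.Bijective (a.app (T.basicOpen i.1)) :=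
    (ConcreteCategory.isIso_iff_bijective _).mp (a.isIso_app _ (hle i))
  have hfinite : Finite s := hsfin
  have h1 (i : s) : IsAffineOpen ((π ≫ a) ⁻¹ᵁ T.basicOpen i.1) := (haaff i).preimage π
  have h2 (i : s) : ((π ≫ a).app (T.basicOpen i.1)).hom.Finite := by
    rw [Scheme.Hom.comp_app]
    exact (π.finite_app _ (haaff i)).comp (RingHom.Finite.of_surjective _ (haiso i).2)
  have h3 (i : s) : ((π ≫ a).app (T.basicOpen i.1)).hom.FinitePresentation := by
    rw [Scheme.Hom.comp_app]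
    have := π.finitePresentation_appLE (haaff i) (h1 i) le_rfl
    refine RingHom.FinitePresentation.comp (g := (π.app (a ⁻¹ᵁ T.basicOpen i.1)).hom) ?_
      (RingHom.FinitePresentation.of_bijective (haiso i))
    rw [Scheme.Hom.app_eq_appLE]
    exact this
  obtain ⟨Y', π', q, hfin', hfp', hq, hiso⟩ := FiniteExtendLocal.exists_finite_extension
    (π ≫ a) (fun i : s => i.1) h1 h2 h3
  have hsup : π' ⁻¹ᵁ a.opensRange = ⨆ i : s, π' ⁻¹ᵁ T.basicOpen i.1 := by
    ext x
    simp only [Scheme.Hom.coe_preimage, Set.mem_preimage, SetLike.mem_coe,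
      TopologicalSpace.Opens.coe_iSup, Set.mem_iUnion, Scheme.Hom.coe_opensRange, hs]
    simp
  have hiso' : IsIso (q ∣_ π' ⁻¹ᵁ a.opensRange) := by
    rw [hsup]
    exact isIso_morphismRestrict_iSup q _ hiso
  have hpre : q ⁻¹ᵁ π' ⁻¹ᵁ a.opensRange = ⊤ := by
    rw [← Scheme.Hom.comp_preimage, hq, Scheme.Hom.comp_preimage, Scheme.Hom.preimage_opensRange]
    rfl
  obtain ⟨hqo, hqr⟩ := isOpenImmersion_of_isIso_morphismRestrict q _ hpre hiso'
  refine ⟨Y', π', q, hfin', hfp', (IsOpenImmersion.isPullback _ _ _ _ hq ?_).flip,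
    s, hsfin, ?_⟩
  · exact (TopologicalSpace.Opens.ext hqr).symm
  · intro x
    rw [hs]
    simp

theorem exists_closed {T : Scheme.{u}} [IsAffine T] (s : Set Γ(T, ⊤)) (hs : s.Finite) :
    ∃ (Z : Scheme.{u}) (z : Z ⟶ T), IsFinite z ∧ LocallyOfFinitePresentation z ∧
      ∀ x : T, x ∈ Set.range z ↔ ∀ b ∈ s, x ∉ T.basicOpen b := by
  let I : Ideal Γ(T, ⊤) := Ideal.span s
  let z₀ : Spec (.of (Γ(T, ⊤) ⧸ I)) ⟶ Spec Γ(T, ⊤) :=
    Spec.map (CommRingCat.ofHom (Ideal.Quotient.mk I))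
  have h1 : IsFinite z₀ := (IsFinite.SpecMap_iff _).mpr
    (RingHom.Finite.of_surjective _ Ideal.Quotient.mk_surjective)
  have h2 : LocallyOfFinitePresentation z₀ := by
    refine (LocallyOfFinitePresentation.SpecMap_iff _).mpr
      (RingHom.FinitePresentation.of_surjective _ Ideal.Quotient.mk_surjective ?_)
    rw [CommRingCat.hom_ofHom, Ideal.mk_ker]
    exact ⟨hs.toFinset, by simp [I]⟩
  refine ⟨_, z₀ ≫ T.isoSpec.inv, inferInstance, inferInstance, fun x => ?_⟩
  have h3 : ∀ b : Γ(T, ⊤), x ∈ T.basicOpen b ↔ b ∉ (T.toSpecΓ x).asIdeal := by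
    intro b
    rw [← Scheme.toSpecΓ_preimage_basicOpen]
    rfl
  have h4 : x ∈ Set.range (z₀ ≫ T.isoSpec.inv) ↔ T.toSpecΓ x ∈ Set.range z₀ := by
    constructor
    · rintro ⟨y, rfl⟩
      refine ⟨y, ?_⟩
      rw [← Scheme.Hom.comp_apply, Category.assoc]
      have : T.isoSpec.inv ≫ T.toSpecΓ = 𝟙 _ := T.isoSpec.inv_hom_id
      rw [this, Category.comp_id]
    · rintro ⟨y, hy⟩
      refine ⟨y, ?_⟩
      rw [Scheme.Hom.comp_apply, hy, ← Scheme.Hom.comp_apply, Scheme.toSpecΓ_isoSpec_inv]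
      rfl
  have h5 : Set.range z₀ = PrimeSpectrum.zeroLocus (I : Set Γ(T, ⊤)) := by
    have := range_comap_of_surjective _ (Ideal.Quotient.mk I)
      Ideal.Quotient.mk_surjective
    rw [Ideal.mk_ker] at this
    exact this
  rw [h4, h5]
  simp only [h3, not_not]
  exact Ideal.span_le

theorem exists_extension_affine {Y E T : Scheme.{u}} [IsAffine T] (a : E ⟶ T)
    [IsOpenImmersion a] [CompactSpace E] (π : Y ⟶ E) [IsFinite π]
    [LocallyOfFinitePresentation π] :
    ∃ (Y' : Scheme.{u}) (π' : Y' ⟶ T) (q : Y ⟶ Y'), IsFinite π' ∧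
      LocallyOfFinitePresentation π' ∧ IsPullback q π π' a ∧ (Set.range a)ᶜ ⊆ Set.range π' := by
  obtain ⟨Y', π', q, h1, h2, h3, s, hs, hsa⟩ := exists_extension_affine₀ a π
  obtain ⟨Z, z, hz1, hz2, hz⟩ := exists_closed s hs
  have hqo : IsOpenImmersion q := MorphismProperty.of_isPullback h3.flip ‹_›
  refine ⟨Y' ⨿ Z, coprod.desc π' z, q ≫ coprod.inl, inferInstance, ?_,
    (IsOpenImmersion.isPullback _ _ _ _ ?_ ?_).flip, ?_⟩
  · refine (IsZariskiLocalAtSource.iff_of_openCover (P := @LocallyOfFinitePresentation)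
      (coprodOpenCover.{_, 0} Y' Z)).mpr ?_
    rintro (_ | _)
    · change LocallyOfFinitePresentation (coprod.inl ≫ coprod.desc π' z)
      rwa [coprod.inl_desc]
    · change LocallyOfFinitePresentation (coprod.inr ≫ coprod.desc π' z)
      rwa [coprod.inr_desc]
  · rw [Category.assoc, coprod.inl_desc, h3.w]
  · apply le_antisymm
    · intro y hy
      obtain ⟨e, he⟩ := hy
      change a e = coprod.desc π' z y at he
      obtain ⟨y | y, rfl⟩ := (coprodMk Y' Z).surjective y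
      · rw [coprodMk_inl, ← Scheme.Hom.comp_apply, coprod.inl_desc] at he
        obtain ⟨w, hw, -⟩ := Scheme.exists_preimage_of_isPullback h3 y e he.symm
        refine ⟨w, ?_⟩
        rw [coprodMk_inl, ← hw]
        rfl
      · rw [coprodMk_inr, ← Scheme.Hom.comp_apply, coprod.inr_desc] at he
        obtain ⟨b, hb, hb'⟩ := (hsa (a e)).mpr ⟨e, rfl⟩
        exact absurd hb' ((hz (a e)).mp ⟨y, he.symm⟩ b hb)
    · rintro _ ⟨w, rfl⟩
      refine ⟨π w, ?_⟩
      rw [← Scheme.Hom.comp_apply, ← h3.w]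
      rw [← Scheme.Hom.comp_apply, Category.assoc, coprod.inl_desc]
  · intro x hx
    obtain ⟨y, rfl⟩ := (hz x).mpr fun b hb hxb => hx ((hsa x).mp ⟨b, hb, hxb⟩)
    refine ⟨(coprod.inr : Z ⟶ Y' ⨿ Z) y, ?_⟩
    rw [← Scheme.Hom.comp_apply, coprod.inr_desc]

theorem mem_range_homOfLE {X : Scheme.{u}} {U V : X.Opens} (h : U ≤ V) (x : V) :
    x ∈ Set.range (X.homOfLE h) ↔ x.1 ∈ U := by
  constructor
  · rintro ⟨y, rfl⟩
    rw [Scheme.homOfLE_apply]
    exact y.2
  · intro hx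
    refine ⟨⟨x.1, hx⟩, Subtype.ext ?_⟩
    rw [Scheme.homOfLE_apply]

/-- Auxiliary form of `exists_extension`: extend from `V` to `V ⊔ S`. -/
theorem exists_extension_sup {X : Scheme.{u}} [QuasiSeparatedSpace X] {V : X.Opens}
    (hV : IsCompact (V : Set X)) {Y : Scheme.{u}} (π : Y ⟶ V) [IsFinite π]
    [LocallyOfFinitePresentation π] (S : X.Opens) (hS : IsCompact (S : Set X)) :
    ∃ (Y' : Scheme.{u}) (π' : Y' ⟶ (V ⊔ S : X.Opens)) (q : Y ⟶ Y'), IsFinite π' ∧
      LocallyOfFinitePresentation π' ∧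
      IsPullback q π π' (X.homOfLE (le_sup_left : V ≤ V ⊔ S)) ∧
      (Set.range (X.homOfLE (le_sup_left : V ≤ V ⊔ S)))ᶜ ⊆ Set.range π' := by
  refine compact_open_induction_on S hS ?_ ?_
  · have : IsIso (X.homOfLE (le_sup_left : V ≤ V ⊔ ⊥)) := by
      refine ⟨X.homOfLE (by simp), by simp, by simp⟩
    refine ⟨Y, π ≫ X.homOfLE le_sup_left, 𝟙 _, inferInstance, inferInstance, ?_, ?_⟩
    · exact IsPullback.of_horiz_isIso ⟨by simp⟩
    · intro x hx
      exact absurd (Scheme.Hom.surjective (X.homOfLE (le_sup_left : V ≤ V ⊔ ⊥)) x) hx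
  · intro S hS U hP
    obtain ⟨Y₁, π₁, q₁, hfin₁, hfp₁, hpb₁, hsurj₁⟩ := hP
    let D : X.Opens := V ⊔ S
    let D' : X.Opens := V ⊔ (S ⊔ U.1)
    have hD : D ≤ D' := sup_le_sup_left le_sup_left _
    have hU : U.1 ≤ D' := le_sup_of_le_right le_sup_right
    have hDc : IsCompact (D : Set X) := hV.union hS
    have hUc : IsCompact (U.1 : Set X) := U.2.isCompact
    have hEc : IsCompact ((D ⊓ U.1 : X.Opens) : Set X) :=
      hDc.inter_of_isOpen hUc D.2 U.1.2
    have hEc' : CompactSpace (D ⊓ U.1 : X.Opens) := isCompact_iff_compactSpace.mp hEc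
    have hUaff : IsAffine U.1 := U.2
    obtain ⟨Y₂, π₂, q₂, hfin₂, hfp₂, hpb₂, hsurj₂⟩ :=
      exists_extension_affine (X.homOfLE (inf_le_right : D ⊓ U.1 ≤ U.1))
        (pullback.snd π₁ (X.homOfLE (inf_le_left : D ⊓ U.1 ≤ D)))
    obtain ⟨Y₃, π₃, i₁, i₂, hi₁, hi₂, hpb₃, hpb₄, -, -⟩ := GlueTwo.exists_glued
      (isPullback_opens_inf_le hD hU) (IsPullback.of_hasPullback π₁ (X.homOfLE _)) hpb₂
    have hcov : ∀ x : D', x ∈ Set.range (X.homOfLE hD) ∨ x ∈ Set.range (X.homOfLE hU) := by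
      intro x
      rw [mem_range_homOfLE, mem_range_homOfLE]
      obtain h | h | h := x.2
      · exact Or.inl (Or.inl h)
      · exact Or.inl (Or.inr h)
      · exact Or.inr h
    refine ⟨Y₃, π₃, q₁ ≫ i₁, ?_, ?_, ?_, ?_⟩
    · exact GlueTwo.of_isPullback_pair @IsFinite hcov hpb₃ hpb₄ hfin₁ hfin₂
    · exact GlueTwo.of_isPullback_pair @LocallyOfFinitePresentation hcov hpb₃ hpb₄ hfp₁ hfp₂
    · have := hpb₁.paste_horiz hpb₃
      simpa using this
    · intro x hx
      by_cases hxD : x.1 ∈ D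
      · obtain ⟨d, rfl⟩ := (mem_range_homOfLE hD x).mpr hxD
        have hd : d ∈ (Set.range (X.homOfLE (le_sup_left : V ≤ V ⊔ S)))ᶜ := by
          intro hd
          replace hd := (mem_range_homOfLE _ _).mp hd
          apply hx
          refine (mem_range_homOfLE _ _).mpr ?_
          rw [Scheme.homOfLE_apply]
          exact hd
        obtain ⟨y, rfl⟩ := hsurj₁ hd
        refine ⟨i₁ y, ?_⟩
        rw [← Scheme.Hom.comp_apply, hpb₃.w, Scheme.Hom.comp_apply]
      · have hxU : x.1 ∈ U.1 := by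
          obtain h | h | h := x.2
          · exact absurd (Or.inl h) hxD
          · exact absurd (Or.inr h) hxD
          · exact h
        obtain ⟨d, rfl⟩ := (mem_range_homOfLE hU x).mpr hxU
        have hd : d ∈ (Set.range (X.homOfLE (inf_le_right : D ⊓ U.1 ≤ U.1)))ᶜ := by
          intro hd
          replace hd := (mem_range_homOfLE _ _).mp hd
          rw [Scheme.homOfLE_apply] at hxD
          exact hxD hd.1
        obtain ⟨y, rfl⟩ := hsurj₂ hd
        refine ⟨i₂ y, ?_⟩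
        rw [← Scheme.Hom.comp_apply, hpb₄.w, Scheme.Hom.comp_apply]

/-- **Extension of finite finitely presented schemes.** Let `X` be a quasi-compact and
quasi-separated scheme, `V ⊆ X` a quasi-compact open and `π : Y ⟶ V` a finite morphism of finite
presentation. Then `π` is the restriction to `V` of a finite morphism `π' : Y' ⟶ X` of finite
presentation, whose image contains the complement of `V`. -/
theorem exists_extension {X : Scheme.{u}} [CompactSpace X] [QuasiSeparatedSpace X] {V : X.Opens}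
    (hV : IsCompact (V : Set X)) {Y : Scheme.{u}} (π : Y ⟶ V) [IsFinite π]
    [LocallyOfFinitePresentation π] :
    ∃ (Y' : Scheme.{u}) (π' : Y' ⟶ X) (q : Y ⟶ Y'), IsFinite π' ∧
      LocallyOfFinitePresentation π' ∧ IsPullback q π π' V.ι ∧
      (V : Set X)ᶜ ⊆ Set.range π' := by
  obtain ⟨Y', π', q, h1, h2, h3, h4⟩ := exists_extension_sup hV π ⊤ isCompact_univ
  have htop : V ⊔ ⊤ = (⊤ : X.Opens) := by simp
  have hiso : IsIso (V ⊔ ⊤ : X.Opens).ι := by
    rw [htop]
    exact inferInstanceAs (IsIso X.topIso.hom)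
  refine ⟨Y', π' ≫ (V ⊔ ⊤ : X.Opens).ι, q, inferInstance, inferInstance, ?_, ?_⟩
  · have h5 : IsPullback (𝟙 Y') π' (π' ≫ (V ⊔ ⊤ : X.Opens).ι) (V ⊔ ⊤ : X.Opens).ι :=
      IsPullback.of_horiz_isIso ⟨by simp⟩
    simpa using h3.paste_horiz h5
  · intro x hx
    have hx' : (⟨x, by rw [htop]; trivial⟩ : (V ⊔ ⊤ : X.Opens)) ∈
        (Set.range (X.homOfLE (le_sup_left : V ≤ V ⊔ ⊤)))ᶜ := by
      intro h
      exact hx ((mem_range_homOfLE _ _).mp h)
    obtain ⟨y, hy⟩ := h4 hx'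
    refine ⟨y, ?_⟩
    rw [Scheme.Hom.comp_apply, hy]
    rfl

/-- Surjective version of `exists_extension`. -/
theorem exists_extension_surjective {X : Scheme.{u}} [CompactSpace X] [QuasiSeparatedSpace X]
    {V : X.Opens} (hV : IsCompact (V : Set X)) {Y : Scheme.{u}} (π : Y ⟶ V) [IsFinite π]
    [LocallyOfFinitePresentation π] [Surjective π] :
    ∃ (Y' : Scheme.{u}) (π' : Y' ⟶ X) (q : Y ⟶ Y'), IsFinite π' ∧
      LocallyOfFinitePresentation π' ∧ Surjective π' ∧ IsPullback q π π' V.ι := by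
  obtain ⟨Y', π', q, h1, h2, h3, h4⟩ := exists_extension hV π
  refine ⟨Y', π', q, h1, h2, ⟨fun x => ?_⟩, h3⟩
  by_cases hx : x ∈ V
  · obtain ⟨y, hy⟩ := π.surjective ⟨x, hx⟩
    refine ⟨q y, ?_⟩
    rw [← Scheme.Hom.comp_apply, h3.w, Scheme.Hom.comp_apply, hy]
    rfl
  · exact h4 hx

end Groth.Agent.FlatA.FiniteExtend
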