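import Mathlib.RingTheory.FinitePresentation
import Mathlib.RingTheory.Finiteness.FiniteTypeLocal
import Mathlib.RingTheory.Localization.Integral
import Mathlib.RingTheory.Localization.Finiteness
import Mathlib.RingTheory.Localization.Away.AdjoinRoot
import Mathlib.RingTheory.IntegralClosure.IsIntegralClosure.Basic
import Mathlib.RingTheory.RingHom.FinitePresentation

/-!
# Algebra for extending finite (finitely presented) algebras from a quasi-compact open

Let `B → C` be a ring map and `b i ∈ B` a finite family such that each `C[1/b i]` is finite over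
`B[1/b i]`. Then there is a finite `B`-subalgebra `C' ⊆ C` with `C'[1/b i] = C[1/b i]`
(`exists_finset_integral`), and if moreover the `C[1/b i]` are finitely presented,
there is a finite and finitely presented `B`-algebra `C'` with a map `C' → C` which is an isomorphism
after inverting any `b i` (`exists_finite_finitePresentation`).
-/

set_option autoImplicit false

namespace Groth.Agent.FlatA.FiniteExtendAlg

section

variable {B C : Type*} [CommRing B] [CommRing C] [Algebra B C]

/-- The saturation of a subalgebra `A` with respect to `b`: all `y` with `b ^ n * y ∈ A`. -/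
def saturation (A : Subalgebra B C) (b : B) : Subalgebra B C where
  carrier := {y | ∃ n : ℕ, algebraMap B C b ^ n * y ∈ A}
  mul_mem' := by
    rintro x y ⟨n, hn⟩ ⟨m, hm⟩
    refine ⟨n + m, ?_⟩
    have := A.mul_mem hn hm
    convert! this using 1; ring
  add_mem' := by
    rintro x y ⟨n, hn⟩ ⟨m, hm⟩
    refine ⟨n + m, ?_⟩
    have h1 := A.mul_mem (A.pow_mem (A.algebraMap_mem b) m) hn
    have h2 := A.mul_mem (A.pow_mem (A.algebraMap_mem b) n) hm
    convert A.add_mem h1 h2 using 1; ring
  algebraMap_mem' r := ⟨0, by simp⟩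

theorem mem_saturation {A : Subalgebra B C} {b : B} {y : C} :
    y ∈ saturation A b ↔ ∃ n : ℕ, algebraMap B C b ^ n * y ∈ A := Iff.rfl

theorem le_saturation (A : Subalgebra B C) (b : B) : A ≤ saturation A b :=
  fun y hy => ⟨0, by simpa using hy⟩

theorem exists_finset_integral {ι : Type*} [Finite ι] (b : ι → B)
    (h1 : ∀ i, Algebra.FiniteType B (Localization.Away (algebraMap B C (b i))))
    (h2 : ∀ i (y : C), ∃ n : ℕ, IsIntegral B (algebraMap B C (b i) ^ n * y)) :
    ∃ t : Finset C, (∀ y ∈ t, IsIntegral B y) ∧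
      ∀ i (y : C), ∃ n : ℕ, algebraMap B C (b i) ^ n * y ∈ Algebra.adjoin B (t : Set C) := by
  classical
  cases nonempty_fintype ι
  choose s hs using fun i => (h1 i).out
  choose n hn using h2
  let t₀ (i : ι) : Finset C :=
    IsLocalization.finsetIntegerMultiple (Submonoid.powers (algebraMap B C (b i))) (s i)
  let t : Finset C := Finset.univ.biUnion
    fun i => (t₀ i).image fun y => algebraMap B C (b i) ^ (n i y) * y
  refine ⟨t, ?_, fun i y => ?_⟩
  · intro y hy
    simp only [t, Finset.mem_biUnion, Finset.mem_univ, true_and, Finset.mem_image] at hy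
    obtain ⟨i, y, hy, rfl⟩ := hy
    exact hn i y
  · have key := IsLocalization.exists_smul_mem_of_mem_adjoin (R := B)
      (S' := Localization.Away (algebraMap B C (b i)))
      (Submonoid.powers (algebraMap B C (b i))) y (s i)
      (saturation (Algebra.adjoin B (t : Set C)) (b i)) ?_ ?_ ?_
    · obtain ⟨⟨_, m, rfl⟩, k, hk⟩ := key
      refine ⟨k + m, ?_⟩
      rw [pow_add, mul_assoc]
      exact hk
    · intro y hy
      refine ⟨n i y, Algebra.subset_adjoin ?_⟩
      simp only [t, Finset.coe_biUnion, Finset.coe_univ, Set.mem_univ, Set.iUnion_true,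
        Set.mem_iUnion, Finset.coe_image, Set.mem_image]
      exact ⟨i, y, hy, rfl⟩
    · rintro _ ⟨m, rfl⟩
      exact pow_mem (Subalgebra.algebraMap_mem _ _) m
    · rw [hs i]
      exact Algebra.mem_top

theorem exists_finset_ker {F : Type*} [CommRing F] [Algebra B F]
    [Algebra.FinitePresentation B F] (ψ : F →ₐ[B] C) (b : B)
    [Algebra.FinitePresentation B (Localization.Away (algebraMap B C b))]
    (hs : ∀ y : C, ∃ (n : ℕ) (x : F), ψ x = algebraMap B C b ^ n * y) :
    ∃ K : Finset F, (∀ k ∈ K, ψ k = 0) ∧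
      ∀ x, ψ x = 0 → ∃ n : ℕ, algebraMap B F b ^ n * x ∈ Ideal.span (K : Set F) := by
  classical
  let Fb := Localization.Away (algebraMap B F b)
  let Cb := Localization.Away (algebraMap B C b)
  let M := Submonoid.powers (algebraMap B F b)
  have hu : IsUnit (algebraMap C Cb (algebraMap B C b)) :=
    IsLocalization.Away.algebraMap_isUnit _
  have hM : ∀ y : M, IsUnit (((IsScalarTower.toAlgHom B C Cb).comp ψ) y) := by
    rintro ⟨_, n, rfl⟩
    simp only [map_pow, AlgHom.commutes]
    rw [IsScalarTower.algebraMap_apply B C Cb]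
    exact hu.pow n
  let g : Fb →ₐ[B] Cb := IsLocalization.liftAlgHom hM
  have hg (x : F) : g (algebraMap F Fb x) = algebraMap C Cb (ψ x) := by
    simp only [g, IsLocalization.coe_liftAlgHom]
    exact IsLocalization.lift_eq _ x
  have hgsurj : Function.Surjective g := by
    intro z
    obtain ⟨m, y, hy⟩ := IsLocalization.Away.surj (algebraMap B C b) z
    obtain ⟨n, x, hx⟩ := hs y
    have hu' : IsUnit (g (algebraMap F Fb (algebraMap B F b))) := by
      rw [hg, AlgHom.commutes]; exact hu
    refine ⟨algebraMap F Fb x * (IsLocalization.Away.invSelf (algebraMap B F b)) ^ (n + m), ?_⟩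
    rw [← (hu'.pow (n + m)).mul_left_inj, ← map_pow g, ← map_mul, mul_assoc, ← mul_pow,
      mul_comm (IsLocalization.Away.invSelf _), IsLocalization.Away.mul_invSelf, one_pow, mul_one,
      hg, hx, map_mul, map_pow, ← hy, map_pow, hg, AlgHom.commutes, pow_add]
    ring
  have : Algebra.FinitePresentation B Fb := 
    have : Algebra.FinitePresentation F Fb :=
      IsLocalization.Away.finitePresentation (algebraMap B F b)
    Algebra.FinitePresentation.trans B F Fb
  obtain ⟨S, hS⟩ := Algebra.FinitePresentation.ker_fG_of_surjective g hgsurj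
  have hex : ∀ σ : Fb, g σ = 0 → ∃ k : F, ψ k = 0 ∧ σ ∈ Ideal.span {algebraMap F Fb k} := by
    intro σ hσ
    obtain ⟨m, x, hx⟩ := IsLocalization.Away.surj (algebraMap B F b) σ
    have h0 : algebraMap C Cb (ψ x) = 0 := by
      rw [← hg, ← hx, map_mul, hσ, zero_mul]
    obtain ⟨⟨_, n, rfl⟩, hn⟩ := (IsLocalization.map_eq_zero_iff
      (Submonoid.powers (algebraMap B C b)) Cb (ψ x)).mp h0
    refine ⟨algebraMap B F b ^ n * x, ?_, ?_⟩
    · rw [map_mul, map_pow, AlgHom.commutes]
      exact hn
    · rw [Ideal.mem_span_singleton, map_mul, map_pow, ← hx]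
      have hu' : IsUnit (algebraMap F Fb (algebraMap B F b)) :=
        IsLocalization.Away.algebraMap_isUnit _
      rw [mul_comm σ, ← mul_assoc, ← pow_add, (hu'.pow _).mul_left_dvd]
  choose! k hk using hex
  have hS0 : ∀ σ ∈ S, g σ = 0 := by
    intro σ hσ
    have : σ ∈ RingHom.ker g.toRingHom := by
      rw [← hS]; exact Ideal.subset_span hσ
    exact this
  refine ⟨S.image k, ?_, ?_⟩
  · intro x hx
    obtain ⟨σ, hσ, rfl⟩ := Finset.mem_image.mp hx
    exact (hk σ (hS0 σ hσ)).1
  · intro x hx
    have hxS : algebraMap F Fb x ∈ (Ideal.span ((S.image k : Finset F) : Set F)).map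
        (algebraMap F Fb) := by
      have h1 : algebraMap F Fb x ∈ RingHom.ker g.toRingHom := by
        change g _ = 0
        rw [hg, hx, map_zero]
      rw [← hS] at h1
      refine (Submodule.span_le.mpr ?_ : Ideal.span (S : Set Fb) ≤ _) h1
      intro σ hσ
      have h2 := (hk σ (hS0 σ hσ)).2
      refine (Ideal.span_singleton_le_iff_mem _ |>.mpr ?_) h2
      exact Ideal.mem_map_of_mem _ (Ideal.subset_span (by
        rw [Finset.coe_image]; exact ⟨σ, hσ, rfl⟩))
    obtain ⟨m, hm, hmx⟩ := (IsLocalization.algebraMap_mem_map_algebraMap_iff M Fb _ _).mp hxS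
    obtain ⟨n, rfl⟩ := hm
    exact ⟨n, hmx⟩

end

universe u

theorem exists_finite_finitePresentation
    {B C : Type u} [CommRing B] [CommRing C] [Algebra B C] {ι : Type*} [Finite ι] (b : ι → B)
    (h1 : ∀ i, Algebra.FinitePresentation B (Localization.Away (algebraMap B C (b i))))
    (h2 : ∀ i (y : C), ∃ n : ℕ, IsIntegral B (algebraMap B C (b i) ^ n * y)) :
    ∃ (C' : Type u) (_ : CommRing C') (_ : Algebra B C') (_ : Module.Finite B C')
      (_ : Algebra.FinitePresentation B C') (ψ : C' →ₐ[B] C),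
      ∀ i, (∀ y : C, ∃ (n : ℕ) (x : C'), ψ x = algebraMap B C (b i) ^ n * y) ∧
        (∀ x : C', ψ x = 0 → ∃ n : ℕ, algebraMap B C' (b i) ^ n * x = 0) := by
  classical
  cases nonempty_fintype ι
  obtain ⟨t, ht, hts⟩ := exists_finset_integral b (fun i => inferInstance) h2
  let F := MvPolynomial t B
  let ψF : F →ₐ[B] C := MvPolynomial.aeval (fun y : t => (y : C))
  have hrange : ψF.range = Algebra.adjoin B (t : Set C) := by
    rw [Algebra.adjoin_eq_range]
    rfl
  choose K hK0 hK using fun i => exists_finset_ker ψF (b i) (fun y => by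
    obtain ⟨n, hn⟩ := hts i y
    rw [← hrange] at hn
    obtain ⟨x, hx⟩ := hn
    exact ⟨n, x, hx⟩)
  choose p hpm hp using fun y : t => ht y y.2
  let L : Finset F := (Finset.univ.image fun y : t =>
    Polynomial.aeval (MvPolynomial.X y : F) (p y)) ∪ Finset.univ.biUnion K
  let I : Ideal F := Ideal.span (L : Set F)
  have hI : ∀ x ∈ I, ψF x = 0 := by
    suffices h : I ≤ RingHom.ker ψF.toRingHom from fun x hx => h hx
    refine Ideal.span_le.mpr ?_
    intro x hx
    change ψF x = 0
    simp only [L, Finset.coe_union, Finset.coe_image, Finset.coe_univ, Set.image_univ,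
      Finset.coe_biUnion, Set.mem_univ, Set.iUnion_true, Set.mem_union, Set.mem_range,
      Set.mem_iUnion] at hx
    obtain ⟨y, rfl⟩ | ⟨i, hi⟩ := hx
    · rw [← Polynomial.aeval_algHom_apply]
      have hX : ψF (MvPolynomial.X y) = (y : C) := MvPolynomial.aeval_X _ _
      rw [hX]
      exact hp y
    · exact hK0 i x hi
  let ψ : (F ⧸ I) →ₐ[B] C := Ideal.Quotient.liftₐ I ψF hI
  have hψ (x : F) : ψ (Ideal.Quotient.mk I x) = ψF x := rfl
  have hfp : Algebra.FinitePresentation B (F ⧸ I) :=
    Algebra.FinitePresentation.quotient (I := I) ⟨L, rfl⟩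
  have hint : Algebra.IsIntegral B (F ⧸ I) := by
    have h : (⊤ : Subalgebra B (F ⧸ I)) ≤ integralClosure B (F ⧸ I) := by
      have h2 : (⊤ : Subalgebra B (F ⧸ I)) = (⊤ : Subalgebra B F).map (Ideal.Quotient.mkₐ B I) := by
        rw [Algebra.map_top]
        exact ((AlgHom.range_eq_top _).mpr (Ideal.Quotient.mkₐ_surjective B I)).symm
      rw [h2, ← MvPolynomial.adjoin_range_X, AlgHom.map_adjoin, Algebra.adjoin_le_iff]
      rintro _ ⟨_, ⟨y, rfl⟩, rfl⟩
      refine ⟨p y, hpm y, ?_⟩
      rw [← Polynomial.aeval_def, Polynomial.aeval_algHom_apply]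
      refine Ideal.Quotient.eq_zero_iff_mem.mpr (Ideal.subset_span ?_)
      simp only [L, Finset.coe_union, Finset.coe_image, Finset.coe_univ, Set.image_univ]
      exact Or.inl ⟨y, rfl⟩
    exact ⟨fun x => h Algebra.mem_top⟩
  refine ⟨F ⧸ I, inferInstance, inferInstance, Algebra.IsIntegral.finite, hfp, ψ, fun i => ⟨?_, ?_⟩⟩
  · intro y
    obtain ⟨n, hn⟩ := hts i y
    rw [← hrange] at hn
    obtain ⟨x, hx⟩ := hn
    exact ⟨n, Ideal.Quotient.mk I x, hx⟩
  · intro x hx
    obtain ⟨x, rfl⟩ := Ideal.Quotient.mk_surjective x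
    obtain ⟨n, hn⟩ := hK i x hx
    refine ⟨n, ?_⟩
    rw [IsScalarTower.algebraMap_apply B F (F ⧸ I), Ideal.Quotient.algebraMap_eq, ← map_pow,
      ← map_mul, Ideal.Quotient.eq_zero_iff_mem]
    refine (Ideal.span_mono ?_ : Ideal.span (K i : Set F) ≤ I) hn
    intro x hx
    simp only [L, Finset.coe_union, Finset.coe_biUnion, Finset.coe_univ, Set.mem_univ,
      Set.iUnion_true]
    exact Or.inr (Set.mem_iUnion.mpr ⟨i, hx⟩)

end Groth.Agent.FlatA.FiniteExtendAlg
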