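import Mathlib.AlgebraicGeometry.Morphisms.IsIso
import Mathlib.AlgebraicGeometry.Morphisms.Finite
import Mathlib.AlgebraicGeometry.Morphisms.FinitePresentation
import Mathlib.AlgebraicGeometry.Morphisms.QuasiSeparated
import Groth.Agent.FlatA.FiniteExtendAlg

/-!
# Extending finite finitely presented schemes over a quasi-compact open of an affine scheme
-/

set_option autoImplicit false
universe u

namespace Groth.Agent.FlatA.FiniteExtendLocal

open CategoryTheory Limits AlgebraicGeometry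

theorem bijective_of_localization {A A' S S' : Type*} [CommRing A] [CommRing A'] [CommRing S]
    [CommRing S'] [Algebra A S] [Algebra A' S'] (ψ : A →+* A') (c : A)
    [IsLocalization.Away c S] [IsLocalization.Away (ψ c) S'] (g : S →+* S')
    (hg : ∀ a, g (algebraMap A S a) = algebraMap A' S' (ψ a))
    (hsurj : ∀ y : A', ∃ (n : ℕ) (x : A), ψ x = ψ c ^ n * y)
    (hinj : ∀ x, ψ x = 0 → ∃ n : ℕ, c ^ n * x = 0) : Function.Bijective g := by
  have hu : IsUnit (algebraMap A' S' (ψ c)) := IsLocalization.Away.algebraMap_isUnit _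
  have hu' : IsUnit (algebraMap A S c) := IsLocalization.Away.algebraMap_isUnit _
  constructor
  · rw [injective_iff_map_eq_zero]
    intro z hz
    obtain ⟨m, x, hx⟩ := IsLocalization.Away.surj c z
    have h0 : algebraMap A' S' (ψ x) = 0 := by rw [← hg, ← hx, map_mul, hz, zero_mul]
    obtain ⟨⟨_, n, rfl⟩, hn⟩ := (IsLocalization.map_eq_zero_iff
      (Submonoid.powers (ψ c)) S' (ψ x)).mp h0
    have h1 : ψ (c ^ n * x) = 0 := by rw [map_mul, map_pow]; exact hn
    obtain ⟨k, hk⟩ := hinj _ h1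
    have h2 : algebraMap A S x = 0 := by
      have := congrArg (algebraMap A S) hk
      rw [map_mul, map_mul, map_pow, map_pow, map_zero, ← mul_assoc, ← pow_add] at this
      exact ((hu'.pow _).mul_right_eq_zero).mp this
    rw [h2] at hx
    exact ((hu'.pow _).mul_left_eq_zero).mp hx
  · intro z
    obtain ⟨m, y, hy⟩ := IsLocalization.Away.surj (ψ c) z
    obtain ⟨n, x, hx⟩ := hsurj y
    refine ⟨algebraMap A S x * (IsLocalization.Away.invSelf c) ^ (n + m), ?_⟩
    rw [← (hu.pow (n + m)).mul_left_inj]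
    conv_lhs => rw [← hg, ← map_pow g, ← map_mul, mul_assoc, ← mul_pow,
      mul_comm (IsLocalization.Away.invSelf _), IsLocalization.Away.mul_invSelf, one_pow, mul_one,
      hg, hx, map_mul, map_pow, ← hy]
    rw [pow_add]
    ring

theorem exists_isIntegral_pow_mul {B C Bb Cb : Type*} [CommRing B] [CommRing C] [CommRing Bb]
    [CommRing Cb] [Algebra B C] [Algebra B Bb] [Algebra C Cb] [Algebra Bb Cb] [Algebra B Cb]
    [IsScalarTower B C Cb] [IsScalarTower B Bb Cb] (b : B) [IsLocalization.Away b Bb]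
    [IsLocalization.Away (algebraMap B C b) Cb] (y : C)
    (hint : IsIntegral Bb (algebraMap C Cb y)) :
    ∃ n : ℕ, IsIntegral B (algebraMap B C b ^ n * y) := by
  obtain ⟨⟨_, k, rfl⟩, hk⟩ := IsIntegral.exists_multiple_integral_of_isLocalization
    (Submonoid.powers b) (algebraMap C Cb y) hint
  have h1 : IsIntegral B (algebraMap C Cb (algebraMap B C b ^ k * y)) := by
    rw [map_mul, map_pow, ← IsScalarTower.algebraMap_apply B C Cb, ← map_pow, ← Algebra.smul_def]
    exact hk
  have : IsLocalization (Algebra.algebraMapSubmonoid C (Submonoid.powers b)) Cb := by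
    rw [Algebra.algebraMapSubmonoid_powers]
    infer_instance
  obtain ⟨_, ⟨m, rfl⟩, hm⟩ := IsLocalization.exists_isIntegral_smul_of_isIntegral_map
    (Submonoid.powers b) h1
  refine ⟨m + k, ?_⟩
  rw [pow_add, mul_assoc, ← map_pow _ _ m, ← Algebra.smul_def]
  exact hm

theorem isIso_morphismRestrict {X Y : Scheme.{u}} (f : X ⟶ Y) (U : Y.Opens)
    (hU : IsAffineOpen U) (hfU : IsAffineOpen (f ⁻¹ᵁ U)) (h : IsIso (f.app U)) :
    IsIso (f ∣_ U) := by
  have : IsAffine (U : Scheme) := hU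
  have h2 : IsIso (f.app (U.ι ''ᵁ ⊤)) := by
    rw [Scheme.Opens.ι_image_top]
    exact h
  refine (HasAffineProperty.iff_of_isAffine
    (P := MorphismProperty.isomorphisms Scheme)).mpr ⟨hfU, ?_⟩
  rw [morphismRestrict_appTop]
  exact IsIso.comp_isIso' h2 (Functor.map_isIso _ _)

theorem isIso_morphismRestrict_basicOpen {Y Y' : Scheme.{u}} [IsAffine Y'] [CompactSpace Y]
    [QuasiSeparatedSpace Y] (q : Y ⟶ Y') (c : Γ(Y', ⊤))
    (hY : IsAffineOpen (Y.basicOpen (q.appTop c)))
    (hsurj : ∀ y : Γ(Y, ⊤), ∃ (n : ℕ) (x : Γ(Y', ⊤)), q.appTop x = q.appTop c ^ n * y)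
    (hinj : ∀ x : Γ(Y', ⊤), q.appTop x = 0 → ∃ n : ℕ, c ^ n * x = 0) :
    IsIso (q ∣_ Y'.basicOpen c) := by
  have hpre : q ⁻¹ᵁ Y'.basicOpen c = Y.basicOpen (q.appTop c) :=
    Scheme.preimage_basicOpen _ _
  refine isIso_morphismRestrict q _ ((isAffineOpen_top Y').basicOpen c) (hpre ▸ hY) ?_
  have h1 : IsLocalization.Away c Γ(Y', Y'.basicOpen c) :=
    (isAffineOpen_top Y').isLocalization_basicOpen c
  have h2 : IsLocalization.Away (q.appTop c) Γ(Y, Y.basicOpen (q.appTop c)) :=
    isLocalization_basicOpen_of_qcqs (isCompact_univ) (isQuasiSeparated_univ) _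
  let g : Γ(Y', Y'.basicOpen c) ⟶ Γ(Y, Y.basicOpen (q.appTop c)) :=
    q.appLE _ _ hpre.ge
  have hg : Function.Bijective g := by
    refine bijective_of_localization q.appTop.hom c g.hom (fun a => ?_) hsurj hinj
    change (Y'.presheaf.map (homOfLE le_top).op ≫ g) a =
      (q.appTop ≫ Y.presheaf.map (homOfLE le_top).op) a
    congr 2
    simp only [g, Scheme.Hom.appTop, Scheme.Hom.map_appLE]
    rfl
  have : IsIso g := (ConcreteCategory.isIso_iff_bijective _).mpr hg
  have h3 : q.app (Y'.basicOpen c) = g ≫ Y.presheaf.map (eqToHom hpre).op := by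
    simp only [g, Scheme.Hom.appLE_map]
    rw [Scheme.Hom.app_eq_appLE]
  rw [h3]
  exact IsIso.comp_isIso' this (Functor.map_isIso _ _)

theorem exists_finite_extension {Y T : Scheme.{u}} [IsAffine T] [CompactSpace Y]
    [QuasiSeparatedSpace Y] (f : Y ⟶ T) {ι : Type*} [Finite ι] (b : ι → Γ(T, ⊤))
    (haff : ∀ i, IsAffineOpen (f ⁻¹ᵁ T.basicOpen (b i)))
    (hfin : ∀ i, (f.app (T.basicOpen (b i))).hom.Finite)
    (hfp : ∀ i, (f.app (T.basicOpen (b i))).hom.FinitePresentation) :
    ∃ (Y' : Scheme.{u}) (π' : Y' ⟶ T) (q : Y ⟶ Y'), IsFinite π' ∧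
      LocallyOfFinitePresentation π' ∧ q ≫ π' = f ∧
      ∀ i, IsIso (q ∣_ π' ⁻¹ᵁ T.basicOpen (b i)) := by
  let B := Γ(T, ⊤)
  let C := Γ(Y, ⊤)
  let algBC : Algebra B C := f.appTop.hom.toAlgebra
  have hpre (i : ι) : f ⁻¹ᵁ T.basicOpen (b i) = Y.basicOpen (f.appTop (b i)) :=
    Scheme.preimage_basicOpen _ _
  -- the ring maps `B_{b i} → C_{b i}`
  let Bb (i : ι) := Γ(T, T.basicOpen (b i))
  let Cb (i : ι) := Γ(Y, Y.basicOpen (f.appTop (b i)))
  let g (i : ι) : Bb i ⟶ Cb i := f.appLE _ _ (hpre i).ge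
  have hg (i : ι) : g i = f.app (T.basicOpen (b i)) ≫ Y.presheaf.map (eqToHom (hpre i).symm).op := by
    simp only [g, Scheme.Hom.appLE, homOfLE_leOfHom]
    rfl
  have hiso (i : ι) : Function.Bijective (Y.presheaf.map (eqToHom (hpre i).symm).op) :=
    (ConcreteCategory.isIso_iff_bijective _).mp (Functor.map_isIso _ _)
  have hgfin (i : ι) : (g i).hom.Finite := by
    rw [hg, CommRingCat.hom_comp]
    exact (RingHom.Finite.of_surjective _ (hiso i).2).comp (hfin i)
  have hgfp (i : ι) : (g i).hom.FinitePresentation := by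
    rw [hg, CommRingCat.hom_comp]
    exact (RingHom.FinitePresentation.of_bijective (hiso i)).comp (hfp i)
  have hlocB (i : ι) : IsLocalization.Away (b i) (Bb i) :=
    (isAffineOpen_top T).isLocalization_basicOpen _
  have hlocC (i : ι) : IsLocalization.Away (algebraMap B C (b i)) (Cb i) :=
    isLocalization_basicOpen_of_qcqs (isCompact_univ) (isQuasiSeparated_univ) (f.appTop (b i))
  have hgcomm (i : ι) : (g i).hom.comp (algebraMap B (Bb i)) =
      (algebraMap C (Cb i)).comp (algebraMap B C) := by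
    have : T.presheaf.map (homOfLE le_top).op ≫ g i =
      f.appTop ≫ Y.presheaf.map (homOfLE le_top).op := by
      simp only [g, Scheme.Hom.appTop, Scheme.Hom.map_appLE]
      rfl
    exact congrArg CommRingCat.Hom.hom this
  let algBbCb (i : ι) : Algebra (Bb i) (Cb i) := (g i).hom.toAlgebra
  let algBCb (i : ι) : Algebra B (Cb i) := ((algebraMap C (Cb i)).comp (algebraMap B C)).toAlgebra
  have tow1 (i : ι) : IsScalarTower B C (Cb i) := IsScalarTower.of_algebraMap_eq' rfl
  have tow2 (i : ι) : IsScalarTower B (Bb i) (Cb i) := IsScalarTower.of_algebraMap_eq' (hgcomm i).symm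
  have h1 : ∀ i, Algebra.FinitePresentation B (Localization.Away (algebraMap B C (b i))) := by
    intro i
    have e1 : Algebra.FinitePresentation B (Bb i) := IsLocalization.Away.finitePresentation (b i)
    have e2 : Algebra.FinitePresentation (Bb i) (Cb i) := hgfp i
    have e3 : Algebra.FinitePresentation B (Cb i) := .trans B (Bb i) (Cb i)
    exact Algebra.FinitePresentation.equiv
      ((IsLocalization.algEquiv (Submonoid.powers (algebraMap B C (b i))) (Cb i)
        (Localization.Away (algebraMap B C (b i)))).restrictScalars B)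
  have h2 : ∀ i (y : C), ∃ n : ℕ, IsIntegral B (algebraMap B C (b i) ^ n * y) := by
    intro i y
    exact exists_isIntegral_pow_mul (Bb := Bb i) (Cb := Cb i) (b i) y
      ((RingHom.Finite.to_isIntegral (hgfin i)) _)
  obtain ⟨C', _, _, _, _, ψ, hψ⟩ :=
    FiniteExtendAlg.exists_finite_finitePresentation (B := B) (C := C) b h1 h2
  let π' : Spec (.of C') ⟶ T := Spec.map (CommRingCat.ofHom (algebraMap B C')) ≫ T.isoSpec.inv
  let q : Y ⟶ Spec (.of C') := Y.toSpecΓ ≫ Spec.map (CommRingCat.ofHom ψ.toRingHom)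
  have hψf : CommRingCat.ofHom (algebraMap B C') ≫ CommRingCat.ofHom ψ.toRingHom = f.appTop := by
    ext x
    exact ψ.commutes x
  have hq : q ≫ π' = f := by
    simp only [q, π', Category.assoc]
    rw [← Spec.map_comp_assoc, hψf, ← Scheme.toSpecΓ_naturality_assoc,
      Scheme.toSpecΓ_isoSpec_inv, Category.comp_id]
  have hqapp : (Scheme.ΓSpecIso (.of C')).inv ≫ q.appTop = CommRingCat.ofHom ψ.toRingHom := by
    simp only [q, Scheme.Hom.comp_appTop]
    rw [← Scheme.ΓSpecIso_inv_naturality_assoc, Scheme.toSpecΓ_appTop]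
    simp
  have hqapp' (x : C') : q.appTop ((Scheme.ΓSpecIso (.of C')).inv x) = ψ x :=
    congrArg (fun (φ : CommRingCat.of C' ⟶ Γ(Y, ⊤)) => φ x) hqapp
  have hπapp : CommRingCat.ofHom (algebraMap B C') ≫ (Scheme.ΓSpecIso (.of C')).inv =
      π'.appTop := by
    simp only [π', Scheme.Hom.comp_appTop]
    rw [Scheme.ΓSpecIso_inv_naturality]
    have hinv : T.isoSpec.inv.appTop = (Scheme.ΓSpecIso Γ(T, ⊤)).inv := by
      rw [← cancel_mono (Scheme.ΓSpecIso Γ(T, ⊤)).hom, Iso.inv_hom_id, ← Scheme.toSpecΓ_appTop,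
        ← Scheme.Hom.comp_appTop, Scheme.toSpecΓ_isoSpec_inv]
      rfl
    rw [hinv]
    rfl
  have hπapp' (x : B) : π'.appTop x = (Scheme.ΓSpecIso (.of C')).inv (algebraMap B C' x) :=
    (congrArg (fun (φ : Γ(T, ⊤) ⟶ Γ(Spec (.of C'), ⊤)) => φ x) hπapp).symm
  refine ⟨Spec (.of C'), π', q, ?_, ?_, hq, ?_⟩
  · have : IsFinite (Spec.map (CommRingCat.ofHom (algebraMap B C'))) :=
      (IsFinite.SpecMap_iff _).mpr (RingHom.finite_algebraMap.mpr ‹_›)
    infer_instance
  · have : LocallyOfFinitePresentation (Spec.map (CommRingCat.ofHom (algebraMap B C'))) :=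
      (HasRingHomProperty.Spec_iff (P := @LocallyOfFinitePresentation)).mpr
        (RingHom.finitePresentation_algebraMap.mpr ‹_›)
    infer_instance
  · intro i
    have hpre' : π' ⁻¹ᵁ T.basicOpen (b i) = (Spec (.of C')).basicOpen (π'.appTop (b i)) :=
      Scheme.preimage_basicOpen _ _
    rw [hpre']
    have hqc : q.appTop (π'.appTop (b i)) = f.appTop (b i) := by
      conv_rhs => rw [← hq, Scheme.Hom.comp_appTop]
      rfl
    have hqsurj (z : Γ(Spec (.of C'), ⊤)) : ∃ x : C', z = (Scheme.ΓSpecIso (.of C')).inv x :=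
      ⟨(Scheme.ΓSpecIso (.of C')).hom z, by
        rw [← CommRingCat.comp_apply, Iso.hom_inv_id]; rfl⟩
    refine isIso_morphismRestrict_basicOpen q _ ?_ ?_ ?_
    · rw [hqc, ← hpre]
      exact haff i
    · intro y
      obtain ⟨n, x, hx⟩ := (hψ i).1 y
      refine ⟨n, (Scheme.ΓSpecIso (.of C')).inv x, ?_⟩
      rw [hqapp', hqc]
      exact hx
    · intro z hz
      obtain ⟨x, rfl⟩ := hqsurj z
      rw [hqapp'] at hz
      obtain ⟨n, hn⟩ := (hψ i).2 x hz
      refine ⟨n, ?_⟩
      rw [hπapp', ← map_pow, ← map_mul]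
      have := congrArg (Scheme.ΓSpecIso (.of C')).inv hn
      rw [map_zero] at this
      exact this

end Groth.Agent.FlatA.FiniteExtendLocal
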