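import Mathlib.RingTheory.AdjoinRoot
import Mathlib.RingTheory.Flat.FaithfullyFlat.Algebra
import Mathlib.LinearAlgebra.FreeModule.Basic
import Mathlib.RingTheory.FinitePresentation

/-!
# Splitting a monic polynomial after a finite free faithfully flat extension
-/

set_option autoImplicit false
universe u

namespace Groth.Agent.FlatA.FiniteFreeSplit

open Polynomial

theorem nontrivial_adjoinRoot {R : Type u} [CommRing R] [Nontrivial R] {f : R[X]} (hf : f.Monic)
    (h : f ≠ 1) : Nontrivial (AdjoinRoot f) := by
  refine Ideal.Quotient.nontrivial_iff.mpr ?_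
  rw [Ne, Ideal.span_singleton_eq_top]
  exact fun hu => h (hf.eq_one_of_isUnit hu)

theorem faithfullyFlat_adjoinRoot {R : Type u} [CommRing R] {f : R[X]} (hf : f.Monic)
    (h : f ≠ 1) : Module.FaithfullyFlat R (AdjoinRoot f) := by
  have := hf.free_adjoinRoot
  have hnt : Nontrivial R := by
    by_contra hR
    rw [not_nontrivial_iff_subsingleton] at hR
    exact h (Subsingleton.elim _ _)
  have := nontrivial_adjoinRoot hf h
  infer_instance

/-- Any monic polynomial splits into linear factors over a finite free faithfully flat
extension. -/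
theorem exists_finite_free_splits {R : Type u} [CommRing R] (f : R[X]) (hf : f.Monic) :
    ∃ (S : Type u) (_ : CommRing S) (_ : Algebra R S), Module.Finite R S ∧ Module.Free R S ∧
      Module.FaithfullyFlat R S ∧
      ∃ s : Multiset S, f.map (algebraMap R S) = (s.map (fun a => X - C a)).prod := by
  induction h : f.natDegree generalizing R with
  | zero =>
    refine ⟨R, inferInstance, inferInstance, inferInstance, inferInstance, inferInstance, 0, ?_⟩
    rw [eq_one_of_monic_natDegree_zero hf h]
    simp
  | succ n ih =>
    have hf1 : f ≠ 1 := by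
      rintro rfl
      simp at h
    have hfin := hf.finite_adjoinRoot
    have hfree := hf.free_adjoinRoot
    have hff := faithfullyFlat_adjoinRoot hf hf1
    have hnt : Nontrivial R := by
      by_contra hR
      rw [not_nontrivial_iff_subsingleton] at hR
      exact hf1 (Subsingleton.elim _ _)
    have hnt' := nontrivial_adjoinRoot hf hf1
    obtain ⟨q, hq⟩ : (X - C (AdjoinRoot.root f)) ∣ f.map (algebraMap R (AdjoinRoot f)) := by
      rw [dvd_iff_isRoot]
      exact AdjoinRoot.isRoot_root f
    have hqm : q.Monic :=
      (monic_X_sub_C (AdjoinRoot.root f)).of_mul_monic_left (hq ▸ hf.map _)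
    have hdeg : q.natDegree = n := by
      have h1 : (f.map (algebraMap R (AdjoinRoot f))).natDegree = n + 1 := by
        rw [hf.natDegree_map, h]
      rw [hq, (monic_X_sub_C _).natDegree_mul hqm, natDegree_X_sub_C] at h1
      omega
    obtain ⟨S, _, _, hSfin, hSfree, hSff, s, hs⟩ := ih q hqm hdeg
    let algRS : Algebra R S := ((algebraMap (AdjoinRoot f) S).comp (algebraMap R (AdjoinRoot f))).toAlgebra
    have : IsScalarTower R (AdjoinRoot f) S := IsScalarTower.of_algebraMap_eq' rfl
    refine ⟨S, inferInstance, inferInstance, Module.Finite.trans (AdjoinRoot f) S,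
      Module.Free.trans (S := AdjoinRoot f), Module.FaithfullyFlat.trans R (AdjoinRoot f) S,
      algebraMap _ S (AdjoinRoot.root f) ::ₘ s, ?_⟩
    rw [Multiset.map_cons, Multiset.prod_cons, ← hs, IsScalarTower.algebraMap_eq R (AdjoinRoot f) S,
      ← Polynomial.map_map, hq, Polynomial.map_mul]
    simp

end Groth.Agent.FlatA.FiniteFreeSplit
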