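import Mathlib.AlgebraicGeometry.ZariskisMainTheorem
import Groth.Agent.FlatA.ZMTFactor

/-!
Finite sets of points in affine opens.
-/

set_option autoImplicit false
universe u

open AlgebraicGeometry CategoryTheory Limits

namespace Groth.Agent.FlatA.FinsetAffine

theorem primeSpectrum_exists_basicOpen {R : Type*} [CommRing R] (V : Set (PrimeSpectrum R))
    (hV : IsOpen V) (F : Finset (PrimeSpectrum R)) (hF : ∀ x ∈ F, x ∈ V) :
    ∃ g : R, (∀ x ∈ F, x ∈ PrimeSpectrum.basicOpen g) ∧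
      (PrimeSpectrum.basicOpen g : Set (PrimeSpectrum R)) ⊆ V := by
  classical
  obtain ⟨I, hI⟩ := (PrimeSpectrum.isOpen_iff V).mp hV
  have hI' : V = (PrimeSpectrum.zeroLocus I)ᶜ := by rw [← hI, compl_compl]
  subst hI'
  have h : ¬ ((Ideal.span I : Ideal R) : Set R) ⊆
      ⋃ p ∈ (PrimeSpectrum.asIdeal '' (F : Set (PrimeSpectrum R))), (id p : Ideal R) := by
    rw [Ideal.subset_union_prime_finite (F.finite_toSet.image _) (f := id)
      ⊤ ⊤ (by rintro _ ⟨x, hx, rfl⟩ - -; exact x.2)]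
    rintro ⟨_, ⟨x, hx, rfl⟩, hle⟩
    exact hF x hx ((PrimeSpectrum.mem_zeroLocus x I).mpr (Ideal.span_le.mp hle))
  obtain ⟨g, hgI, hg⟩ := Set.not_subset.mp h
  refine ⟨g, fun x hx ↦ ?_, fun x hx hxI ↦ ?_⟩
  · intro hgx
    exact hg (Set.mem_biUnion ⟨x, hx, rfl⟩ hgx)
  · have : I ⊆ x.asIdeal := (PrimeSpectrum.mem_zeroLocus x I).mp hxI
    exact hx (Ideal.span_le.mpr this hgI)

/-- In an affine scheme, a finite set of points of an open `V` lies in a basic open contained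
in `V`. -/
theorem exists_basicOpen_of_finset {Z : Scheme.{u}} [IsAffine Z] (V : Z.Opens) (F : Finset Z)
    (hF : ∀ x ∈ F, x ∈ V) :
    ∃ g : Γ(Z, ⊤), (∀ x ∈ F, x ∈ Z.basicOpen g) ∧ Z.basicOpen g ≤ V := by
  classical
  let e := Z.isoSpec
  obtain ⟨g, h1, h2⟩ := primeSpectrum_exists_basicOpen (R := Γ(Z, ⊤)) (e.inv ⁻¹ᵁ V : Set (Spec Γ(Z, ⊤)))
    (e.inv ⁻¹ᵁ V).2 (F.image e.hom) (by
      intro x hx
      obtain ⟨y, hy, rfl⟩ := Finset.mem_image.mp hx
      change e.inv (e.hom y) ∈ V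
      rw [← Scheme.Hom.comp_apply, e.hom_inv_id]
      exact hF y hy)
  have h3 : ∀ x : Z, x ∈ Z.basicOpen g ↔ e.hom x ∈ PrimeSpectrum.basicOpen g := by
    intro x
    rw [← Scheme.toSpecΓ_preimage_basicOpen]
    rfl
  refine ⟨g, fun x hx ↦ (h3 x).mpr (h1 _ (Finset.mem_image_of_mem _ hx)), fun x hx ↦ ?_⟩
  have h4 := h2 ((h3 x).mp hx)
  change e.inv (e.hom x) ∈ V at h4
  rw [← Scheme.Hom.comp_apply, e.hom_inv_id] at h4
  exact h4

/-- If `j : W ⟶ T` is an open immersion into an affine scheme, then finite sets of points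
of `W` lie in affine opens. -/
theorem exists_isAffineOpen_of_isOpenImmersion {W T : Scheme.{u}} [IsAffine T] (j : W ⟶ T)
    [IsOpenImmersion j] (F : Finset W) : ∃ U : W.Opens, IsAffineOpen U ∧ ∀ x ∈ F, x ∈ U := by
  classical
  obtain ⟨g, h1, h2⟩ := exists_basicOpen_of_finset j.opensRange (F.image j) (by
    intro x hx
    obtain ⟨y, -, rfl⟩ := Finset.mem_image.mp hx
    exact ⟨y, rfl⟩)
  refine ⟨j ⁻¹ᵁ (T.basicOpen g), ?_, fun x hx ↦ h1 _ (Finset.mem_image_of_mem _ hx)⟩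
  have h3 : IsAffineOpen (T.basicOpen g) := (isAffineOpen_top T).basicOpen g
  exact h3.preimage_of_isOpenImmersion j h2

/-- Finite sets of points in a separated locally quasi-finite scheme over an affine scheme are
contained in affine opens. -/
theorem exists_isAffineOpen {X Y : Scheme.{u}} (f : X ⟶ Y) [IsAffine Y] [IsSeparated f]
    [LocallyQuasiFinite f] [LocallyOfFiniteType f] (T : Finset ↑X) :
    ∃ U : X.Opens, IsAffineOpen U ∧ ∀ x ∈ T, x ∈ U := by
  classical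
  have H : ∀ x : X, ∃ U : X.Opens, IsAffineOpen U ∧ x ∈ U := fun x ↦ by
    obtain ⟨_, ⟨U, hU, rfl⟩, hxU, -⟩ := X.isBasis_affineOpens.exists_subset_of_mem_open
      (Set.mem_univ x) isOpen_univ
    exact ⟨U, hU, hxU⟩
  choose U hU hxU using H
  let W : X.Opens := ⨆ x ∈ T, U x
  have hTW : ∀ x ∈ T, x ∈ W := fun x hx ↦
    (le_iSup₂_of_le (f := fun x (_ : x ∈ T) ↦ U x) x hx le_rfl : U x ≤ W) (hxU x)
  have hW : IsCompact (W : Set X) := by
    have : (W : Set X) = ⋃ x ∈ T, (U x : Set X) := by simp [W]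
    rw [this]
    exact T.isCompact_biUnion fun x _ ↦ (hU x).isCompact
  have : CompactSpace W := isCompact_iff_compactSpace.mp hW
  have : QuasiCompact (W.ι ≫ f) := quasiCompact_of_compactSpace _
  obtain ⟨T', j, π, h1, h2, -, -, -⟩ := ZMTFactor.exists_factor_of_isAffine (W.ι ≫ f)
  obtain ⟨V, hV, hV'⟩ := exists_isAffineOpen_of_isOpenImmersion j
    (T.subtype (fun x ↦ x ∈ W))
  refine ⟨W.ι ''ᵁ V, hV.image_of_isOpenImmersion W.ι, fun x hx ↦ ?_⟩
  exact ⟨⟨x, hTW x hx⟩, hV' ⟨x, hTW x hx⟩ (Finset.mem_subtype.mpr hx), rfl⟩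

end Groth.Agent.FlatA.FinsetAffine
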