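import Mathlib.RingTheory.Flat.Localization
import Mathlib.RingTheory.Localization.BaseChange
import Groth.Agent.FlatA.ArtinianDescent

set_option autoImplicit false
universe u
open TensorProduct

namespace Groth.Agent.FlatA.FlatAwayQuot
open Groth.Agent.FlatA.TorVanish Groth.Agent.FlatA.ArtinianDescent

variable {A M : Type u} [CommRing A] [AddCommGroup M] [Module A M]

/-- multiplication by `f`. -/
abbrev mulf (N : Type u) [AddCommGroup N] [Module A N] (f : A) : N →ₗ[A] N := LinearMap.lsmul A N f

theorem exact_mulf_mk (f : A) :
    Function.Exact (mulf M f) (TensorProduct.mk A (A ⧸ Ideal.span {f}) M 1) := by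
  rw [LinearMap.exact_iff, LinearMap.ker_tensorProductMk]
  ext x
  rw [Submodule.ideal_span_singleton_smul, LinearMap.mem_range, Submodule.mem_smul_pointwise_iff_exists]
  simp

theorem exact_mulf_mkQ (f : A) :
    Function.Exact (mulf A f) (Ideal.span {f} : Ideal A).mkQ := by
  rw [LinearMap.exact_iff, Submodule.ker_mkQ]
  ext x
  rw [LinearMap.mem_range, Ideal.mem_span_singleton']
  simp [mul_comm]

/-- `0 → K → F → I → 0` exact, `f` regular on `I`: `A/f ⊗ K → A/f ⊗ F` injective. -/
theorem lTensor_quot_injective {K F I : Type u} [AddCommGroup K] [Module A K] [AddCommGroup F]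
    [Module A F] [AddCommGroup I] [Module A I] (f : A) (hI : IsSMulRegular I f)
    (k : K →ₗ[A] F) (p : F →ₗ[A] I) (hk : Function.Injective k) (hkp : Function.Exact k p)
    (hp : Function.Surjective p) : Function.Injective (k.lTensor (A ⧸ Ideal.span {f})) := by
  refine lTensor_injective_of_exact_of_exact_of_rTensor_injective (exact_mulf_mkQ f)
    (Submodule.mkQ_surjective _) hkp hp ?_ ?_
  · intro x y hxy
    apply (TensorProduct.lid A I).injective
    apply hI
    have : ∀ z, (TensorProduct.lid A I) ((mulf A f).rTensor I z) =
        f • (TensorProduct.lid A I) z := by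
      intro z
      induction z with
      | zero => simp
      | add a b ha hb => simp [ha, hb]
      | tmul a b => simp [smul_smul]
    change f • _ = f • _
    rw [← this, ← this, hxy]
  · exact Module.Flat.lTensor_preserves_injective_linearMap _ hk

/-- Let `f` be regular on `M` and `I`, `M/fM` flat over `A/f`. Then `f` is regular on `I ⊗ M`. -/
theorem isSMulRegular_tensor {I : Type u} [AddCommGroup I] [Module A I] (f : A)
    (hI : IsSMulRegular I f) (hM : IsSMulRegular M f)
    [Module.Flat (A ⧸ Ideal.span {f}) ((A ⧸ Ideal.span {f}) ⊗[A] M)] :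
    IsSMulRegular (I ⊗[A] M) f := by
  have key : ∀ (F : Type u) [AddCommGroup F] [Module A F] [Module.Flat A F] (p : F →ₗ[A] I),
      Function.Surjective p → Function.Injective ((mulf M f).lTensor I) := by
    intro F _ _ _ p hp
    refine lTensor_injective_of_exact_of_exact_of_rTensor_injective
      (LinearMap.exact_subtype_ker_map p) hp (exact_mulf_mk (M := M) f)
      (TensorProduct.mk_surjective A M _ Ideal.Quotient.mk_surjective) ?_ ?_
    · have h1 := lTensor_quot_injective f hI (LinearMap.ker p).subtype p Subtype.val_injective
        (LinearMap.exact_subtype_ker_map p) hp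
      rw [← LinearMap.lTensor_inj_iff_rTensor_inj,
        ← lTensor_baseChange_injective_iff (A ⧸ Ideal.span {f})]
      rw [LinearMap.lTensor_inj_iff_rTensor_inj, ← LinearMap.lTensor_inj_iff_rTensor_inj]
      exact Module.Flat.lTensor_preserves_injective_linearMap _ h1
    · exact Module.Flat.lTensor_preserves_injective_linearMap _ hM
  have h := key (I →₀ A) (Finsupp.linearCombination A (id : I → I))
    (Finsupp.linearCombination_id_surjective A I)
  intro x y hxy
  apply h
  have : ∀ z, (mulf M f).lTensor I z = f • z := by
    intro z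
    induction z with
    | zero => simp
    | add a b ha hb => simp [ha, hb]
    | tmul a b => simp
  rw [this, this]
  exact hxy

/-- Stacks 0H7N. -/
theorem flat_of_flat_away_of_flat_quotient (f : A) (hA : f ∈ nonZeroDivisors A)
    (hM : IsSMulRegular M f)
    [Module.Flat (Localization.Away f) (LocalizedModule (Submonoid.powers f) M)]
    [Module.Flat (A ⧸ Ideal.span {f}) ((A ⧸ Ideal.span {f}) ⊗[A] M)] : Module.Flat A M := by
  have hA' : IsSMulRegular A f := by
    intro x y hxy
    exact (mem_nonZeroDivisors_iff_right.1 hA |> fun h => by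
      have := h (x - y) (by rw [sub_mul, mul_comm x, mul_comm y]; exact sub_eq_zero.2 hxy)
      exact sub_eq_zero.1 this)
  rw [Module.Flat.iff_lTensor_injective']
  intro I
  have hI : IsSMulRegular I f := fun x y hxy => Subtype.ext (hA' (congrArg Subtype.val hxy))
  have hreg : IsSMulRegular (M ⊗[A] I) f := by
    intro x y hxy
    apply (TensorProduct.comm A M I).injective
    apply isSMulRegular_tensor f hI hM
    change f • _ = f • _
    rw [← map_smul, ← map_smul]
    exact congrArg _ hxy
  have hflat : Module.Flat A (LocalizedModule (Submonoid.powers f) M) :=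
    (Module.flat_iff_of_isLocalization (Localization.Away f) (Submonoid.powers f) _).1 inferInstance
  rw [injective_iff_map_eq_zero]
  intro x hx
  let g := LocalizedModule.mkLinearMap (Submonoid.powers f) M
  have h1 : (AlgebraTensorModule.rTensor A I g) x = 0 := by
    apply Module.Flat.lTensor_preserves_injective_linearMap
      (M := LocalizedModule (Submonoid.powers f) M) I.subtype Subtype.val_injective
    rw [map_zero, AlgebraTensorModule.rTensor]
    change (I.subtype.lTensor _ ∘ₗ g.rTensor I) x = 0
    rw [LinearMap.lTensor_comp_rTensor, ← LinearMap.rTensor_comp_lTensor, LinearMap.comp_apply, hx,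
      map_zero]
  rw [IsLocalizedModule.eq_zero_iff (Submonoid.powers f)] at h1
  obtain ⟨⟨_, n, rfl⟩, hn⟩ := h1
  have h2 : IsSMulRegular (M ⊗[A] I) (f ^ n) := hreg.pow n
  exact h2 (hn.trans (smul_zero _).symm)

end Groth.Agent.FlatA.FlatAwayQuot
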