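import Mathlib.RingTheory.Spectrum.Prime.Chevalley
import Mathlib.RingTheory.LocalRing.ResidueField.Ideal
import Mathlib.Topology.Compactness.Bases

/-!
The section `p ↦ p R[X]` of `Spec R[X_1, …, X_n] → Spec R`: it is a spectral map.
-/

set_option autoImplicit false

open TopologicalSpace Topology

namespace Groth.Agent.FlatA.GenPoint

universe u v

/-- The prime `p R[X]` (defined as the kernel of `R[X] → κ(p)[X]`). -/
noncomputable def eta {R : Type u} [CommRing R] (n : ℕ) (p : PrimeSpectrum R) :
    PrimeSpectrum (MvPolynomial (Fin n) R) :=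
  ⟨RingHom.ker (MvPolynomial.map (σ := Fin n) (algebraMap R p.asIdeal.ResidueField)),
    RingHom.ker_isPrime _⟩

variable {R : Type u} [CommRing R] {n : ℕ}

theorem mem_eta (p : PrimeSpectrum R) (F : MvPolynomial (Fin n) R) :
    F ∈ (eta n p).asIdeal ↔ ∀ m, MvPolynomial.coeff m F ∈ p.asIdeal := by
  simp only [eta, RingHom.mem_ker, MvPolynomial.ext_iff, MvPolynomial.coeff_map,
    MvPolynomial.coeff_zero, Ideal.algebraMap_residueField_eq_zero]

theorem preimage_basicOpen (F : MvPolynomial (Fin n) R) :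
    eta n ⁻¹' (PrimeSpectrum.basicOpen F : Set (PrimeSpectrum (MvPolynomial (Fin n) R))) =
      ⋃ m ∈ F.support, (PrimeSpectrum.basicOpen (MvPolynomial.coeff m F) :
        Set (PrimeSpectrum R)) := by
  ext p
  simp only [Set.mem_preimage, SetLike.mem_coe, PrimeSpectrum.mem_basicOpen, mem_eta, not_forall,
    Set.mem_iUnion, exists_prop]
  constructor
  · rintro ⟨m, hm⟩
    refine ⟨m, ?_, hm⟩
    rw [MvPolynomial.mem_support_iff]
    intro h
    rw [h] at hm
    exact hm p.asIdeal.zero_mem
  · rintro ⟨m, -, hm⟩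
    exact ⟨m, hm⟩

theorem continuous_eta : Continuous (eta (R := R) n) := by
  rw [PrimeSpectrum.isTopologicalBasis_basic_opens.continuous_iff]
  rintro _ ⟨F, rfl⟩
  rw [preimage_basicOpen]
  exact isOpen_biUnion fun m _ ↦ (PrimeSpectrum.basicOpen _).isOpen

theorem isCompact_preimage_basicOpen (F : MvPolynomial (Fin n) R) :
    IsCompact (eta n ⁻¹' (PrimeSpectrum.basicOpen F : Set (PrimeSpectrum (MvPolynomial (Fin n) R)))) := by
  rw [preimage_basicOpen]
  exact F.support.isCompact_biUnion fun m _ ↦ PrimeSpectrum.isCompact_basicOpen _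

theorem isConstructible_preimage {s : Set (PrimeSpectrum (MvPolynomial (Fin n) R))}
    (hs : IsConstructible s) : IsConstructible (eta n ⁻¹' s) := by
  refine hs.preimage continuous_eta fun t ht htc ↦ ?_
  rw [QuasiSeparatedSpace.isRetrocompact_iff_isCompact (ht.preimage continuous_eta)]
  rw [QuasiSeparatedSpace.isRetrocompact_iff_isCompact ht] at htc
  obtain ⟨S, hS, rfl⟩ := eq_finite_iUnion_of_isTopologicalBasis_of_isCompact_open _
    PrimeSpectrum.isTopologicalBasis_basic_opens t htc ht
  rw [Set.preimage_iUnion₂]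
  exact hS.isCompact_biUnion fun F _ ↦ isCompact_preimage_basicOpen F

end Groth.Agent.FlatA.GenPoint
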