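import Mathlib.RingTheory.LocalRing.ResidueField.Ideal
import Mathlib.RingTheory.TensorProduct.Basic
import Mathlib.RingTheory.Spectrum.Prime.RingHom
import Mathlib.LinearAlgebra.FreeModule.Basic
import Mathlib.RingTheory.Flat.Basic
import Mathlib.LinearAlgebra.Basis.VectorSpace

/-!
Points of the spectrum of a tensor product: `Spec (A ⊗ B) → Spec A ×_{Spec R} Spec B` is surjective.
-/

set_option autoImplicit false

open scoped TensorProduct

namespace Groth.Agent.FlatA.TensorPrime

universe u v w

/-- Two extensions of a field map to a common nontrivial ring. -/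
theorem exists_compositum {k : Type u} {K : Type v} {L : Type w} [Field k] [Field K] [Field L]
    (a : k →+* K) (b : k →+* L) :
    ∃ (T : Type (max v w)) (_ : CommRing T) (_ : Nontrivial T) (u : K →+* T) (v : L →+* T),
      u.comp a = v.comp b := by
  algebraize [a, b]
  have hnt : Nontrivial (K ⊗[k] L) :=
    Algebra.TensorProduct.nontrivial_of_algebraMap_injective_of_flat_left k K L
      (algebraMap k L).injective
  refine ⟨K ⊗[k] L, inferInstance, hnt, Algebra.TensorProduct.includeLeftRingHom,
    (Algebra.TensorProduct.includeRight : L →ₐ[k] K ⊗[k] L).toRingHom, ?_⟩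
  ext x
  exact ((Algebra.TensorProduct.includeRight : L →ₐ[k] K ⊗[k] L).commutes x).symm

/-- Primes `P ⊂ A`, `Q ⊂ B` with the same contraction to `R` come from a prime of `A ⊗[R] B`. -/
theorem exists_prime {R : Type u} {A : Type v} {B : Type w} [CommRing R] [CommRing A] [CommRing B]
    [Algebra R A] [Algebra R B] (P : PrimeSpectrum A) (Q : PrimeSpectrum B)
    (h : PrimeSpectrum.comap (algebraMap R A) P = PrimeSpectrum.comap (algebraMap R B) Q) :
    ∃ N : PrimeSpectrum (A ⊗[R] B),
      PrimeSpectrum.comap (algebraMap A (A ⊗[R] B)) N = P ∧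
      PrimeSpectrum.comap
        (Algebra.TensorProduct.includeRight : B →ₐ[R] A ⊗[R] B).toRingHom N = Q := by
  obtain ⟨r, hr⟩ : ∃ r, r = PrimeSpectrum.comap (algebraMap R A) P := ⟨_, rfl⟩
  have hr' : r = PrimeSpectrum.comap (algebraMap R B) Q := hr.trans h
  have hI : r.asIdeal = P.asIdeal.comap (algebraMap R A) := congrArg PrimeSpectrum.asIdeal hr
  have hI' : r.asIdeal = Q.asIdeal.comap (algebraMap R B) := congrArg PrimeSpectrum.asIdeal hr'
  obtain ⟨T, _, _, u, v, huv⟩ := exists_compositum
    (Ideal.ResidueField.map r.asIdeal P.asIdeal (algebraMap R A) hI)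
    (Ideal.ResidueField.map r.asIdeal Q.asIdeal (algebraMap R B) hI')
  let f₀ : A →+* T := u.comp (algebraMap A P.asIdeal.ResidueField)
  let g₀ : B →+* T := v.comp (algebraMap B Q.asIdeal.ResidueField)
  let : Algebra R T := (f₀.comp (algebraMap R A)).toAlgebra
  let f : A →ₐ[R] T := ⟨f₀, fun x ↦ rfl⟩
  let g : B →ₐ[R] T := ⟨g₀, fun x ↦ by
    have h1 := congr($huv (algebraMap R _ x))
    rw [RingHom.comp_apply, RingHom.comp_apply, Ideal.ResidueField.map_algebraMap,
      Ideal.ResidueField.map_algebraMap] at h1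
    exact h1.symm⟩
  let Φ : A ⊗[R] B →ₐ[R] T := Algebra.TensorProduct.lift f g fun _ _ ↦ .all _ _
  obtain ⟨M, hM⟩ := Ideal.exists_maximal T
  have hMp : M.IsPrime := hM.isPrime
  refine ⟨⟨M.comap Φ, inferInstance⟩, ?_, ?_⟩
  · ext a
    have h2 : M.comap u = ⊥ :=
      (Ideal.eq_bot_or_top _).resolve_right (Ideal.IsPrime.ne_top inferInstance)
    have h3 : Φ (algebraMap A (A ⊗[R] B) a) = u (algebraMap A P.asIdeal.ResidueField a) := by
      rw [Algebra.TensorProduct.algebraMap_apply]
      simp only [Φ, Algebra.TensorProduct.lift_tmul, map_one, mul_one]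
      rfl
    change Φ (algebraMap A (A ⊗[R] B) a) ∈ M ↔ _
    rw [h3, ← Ideal.mem_comap, h2, Ideal.mem_bot, Ideal.algebraMap_residueField_eq_zero]
  · ext a
    have h2 : M.comap v = ⊥ :=
      (Ideal.eq_bot_or_top _).resolve_right (Ideal.IsPrime.ne_top inferInstance)
    have h3 : Φ ((Algebra.TensorProduct.includeRight : B →ₐ[R] A ⊗[R] B) a) =
        v (algebraMap B Q.asIdeal.ResidueField a) := by
      simp only [Φ, Algebra.TensorProduct.includeRight_apply, Algebra.TensorProduct.lift_tmul,
        map_one, one_mul]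
      rfl
    change Φ ((Algebra.TensorProduct.includeRight : B →ₐ[R] A ⊗[R] B) a) ∈ M ↔ _
    rw [h3, ← Ideal.mem_comap, h2, Ideal.mem_bot, Ideal.algebraMap_residueField_eq_zero]

end Groth.Agent.FlatA.TensorPrime
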