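import Mathlib.RingTheory.Valuation.LocalSubring
import Mathlib.RingTheory.TensorProduct.MvPolynomial
import Mathlib.RingTheory.Flat.Stability
import Mathlib.RingTheory.Flat.TorsionFree
import Groth.Agent.FlatA.GenPoint
import Groth.Agent.FlatA.TensorPrime

/-!
For `B` flat over `R` with a map `R[X_1, …, X_n] → B`, the set of primes `p` of `R` such that
`p R[X]` is in the image of `Spec B` is stable under generization; it is open if `B` is
of finite presentation.
-/

set_option autoImplicit false

open scoped TensorProduct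

namespace Groth.Agent.FlatA.FlatDom

open Groth.Agent.FlatA.GenPoint

universe u v

theorem comap_eta {R : Type u} {V : Type v} [CommRing R] [CommRing V] (ρ : R →+* V) (n : ℕ)
    (p : PrimeSpectrum V) :
    PrimeSpectrum.comap (MvPolynomial.map (σ := Fin n) ρ) (eta n p) =
      eta n (PrimeSpectrum.comap ρ p) := by
  ext F
  rw [mem_eta, PrimeSpectrum.comap_asIdeal, Ideal.mem_comap, mem_eta]
  simp only [MvPolynomial.coeff_map]
  rfl

theorem exists_forall_dvd {V : Type u} [CommRing V] [IsDomain V] [ValuationRing V] {ι : Type v}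
    (s : Finset ι) (hs : s.Nonempty) (f : ι → V) : ∃ i ∈ s, ∀ j ∈ s, f i ∣ f j := by
  classical
  induction hs using Finset.Nonempty.cons_induction with
  | singleton a => exact ⟨a, by simp, by simp⟩
  | cons a s ha hs ih =>
    obtain ⟨i, hi, h⟩ := ih
    rcases ValuationRing.dvd_total (f a) (f i) with h1 | h1
    · refine ⟨a, by simp, fun j hj ↦ ?_⟩
      rcases Finset.mem_cons.mp hj with rfl | hj
      · exact dvd_rfl
      · exact h1.trans (h j hj)
    · refine ⟨i, by simp [hi], fun j hj ↦ ?_⟩
      rcases Finset.mem_cons.mp hj with rfl | hj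
      · exact h1
      · exact h j hj

/-- Over a valuation ring a nonzero polynomial is a nonzero constant times a primitive
polynomial. -/
theorem exists_eq_C_mul {V : Type u} [CommRing V] [IsDomain V] [ValuationRing V] {n : ℕ}
    (F : MvPolynomial (Fin n) V) (hF : F ≠ 0) :
    ∃ (a : V) (G : MvPolynomial (Fin n) V), a ≠ 0 ∧ F = MvPolynomial.C a * G ∧
      ∀ p : PrimeSpectrum V, G ∉ (eta n p).asIdeal := by
  have hs : F.support.Nonempty := by
    rwa [Finset.nonempty_iff_ne_empty, ne_eq, MvPolynomial.support_eq_empty]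
  obtain ⟨m, hm, hdvd⟩ := exists_forall_dvd F.support hs (fun m ↦ F.coeff m)
  have ha : F.coeff m ≠ 0 := MvPolynomial.mem_support_iff.mp hm
  have h1 : MvPolynomial.C (F.coeff m) ∣ F := by
    rw [MvPolynomial.C_dvd_iff_dvd_coeff]
    intro j
    by_cases hj : j ∈ F.support
    · exact hdvd j hj
    · rw [MvPolynomial.notMem_support_iff.mp hj]
      exact dvd_zero _
  obtain ⟨G, hG⟩ := h1
  refine ⟨F.coeff m, G, ha, hG, fun p hp ↦ ?_⟩
  have h2 : G.coeff m = 1 := by
    have h3 := congrArg (MvPolynomial.coeff m) hG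
    rw [MvPolynomial.coeff_C_mul] at h3
    exact (mul_left_cancel₀ ha (by rw [← h3, mul_one])).symm
  have h4 := (mem_eta p G).mp hp m
  rw [h2] at h4
  exact p.2.ne_top ((Ideal.eq_top_iff_one _).mpr h4)

/-- The valuation ring case. -/
theorem exists_prime_over_bot {V : Type u} [CommRing V] [IsDomain V] [ValuationRing V] {n : ℕ}
    {C : Type v} [CommRing C] [Algebra V C] [Module.Flat V C] [Algebra (MvPolynomial (Fin n) V) C]
    [IsScalarTower V (MvPolynomial (Fin n) V) C] (p : PrimeSpectrum V) (N : PrimeSpectrum C)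
    (hN : PrimeSpectrum.comap (algebraMap (MvPolynomial (Fin n) V) C) N = eta n p) :
    ∃ N' : PrimeSpectrum C,
      PrimeSpectrum.comap (algebraMap (MvPolynomial (Fin n) V) C) N' = eta n ⊥ := by
  let T := MvPolynomial (Fin n) V
  let M : Submonoid C := (nonZeroDivisors T).map (algebraMap T C) ⊔ N.asIdeal.primeCompl
  have hM : (0 : C) ∉ M := by
    intro h0
    obtain ⟨y, ⟨F, hF, rfl⟩, z, hz, h0⟩ := Submonoid.mem_sup.mp h0
    have hF0 : F ≠ 0 := nonZeroDivisors.ne_zero hF
    obtain ⟨a, G, ha, rfl, hG⟩ := exists_eq_C_mul F hF0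
    have hinj : Function.Injective (fun c : C ↦ a • c) :=
      Module.Flat.isSMulRegular_of_nonZeroDivisors (mem_nonZeroDivisors_of_ne_zero ha)
    have h1 : a • (algebraMap T C G * z) = 0 := by
      rw [Algebra.smul_def, IsScalarTower.algebraMap_apply V T C, ← mul_assoc, ← map_mul]
      exact h0
    have h2 : algebraMap T C G * z = 0 := hinj (by simpa using h1)
    have h3 : algebraMap T C G * z ∈ N.asIdeal := h2 ▸ N.asIdeal.zero_mem
    rcases N.2.mem_or_mem h3 with h4 | h4
    · apply hG p
      rw [← hN]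
      exact h4
    · exact hz h4
  obtain ⟨P, hP, -, hPM⟩ := Ideal.exists_le_prime_disjoint (⊥ : Ideal C) M (by
    rw [Set.disjoint_left]
    rintro x hx hxM
    rw [SetLike.mem_coe, Ideal.mem_bot] at hx
    exact hM (hx ▸ hxM))
  refine ⟨⟨P, hP⟩, ?_⟩
  ext F
  rw [mem_eta]
  constructor
  · intro hF m
    by_contra hm
    have hF0 : F ≠ 0 := by
      rintro rfl
      simp at hm
    refine Set.disjoint_left.mp hPM hF ?_
    exact (le_sup_left : (nonZeroDivisors T).map (algebraMap T C) ≤ M)
      ⟨F, mem_nonZeroDivisors_of_ne_zero hF0, rfl⟩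
  · intro hF
    have hF0 : F = 0 := by
      ext m
      simpa using hF m
    rw [hF0]
    exact Ideal.zero_mem _

/-- For primes `p₁ ≤ p₂` there is a valuation ring `V` and `R → V` with generic point over `p₁` and
closed point over `p₂`. -/
theorem exists_valuationRing {R : Type u} [CommRing R] {p₁ p₂ : PrimeSpectrum R} (hle : p₁ ≤ p₂) :
    ∃ (V : Type u) (_ : CommRing V) (_ : IsDomain V) (_ : ValuationRing V) (ρ : R →+* V)
      (m : PrimeSpectrum V), PrimeSpectrum.comap ρ ⊥ = p₁ ∧ PrimeSpectrum.comap ρ m = p₂ := by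
  have hunit : ∀ y : p₂.asIdeal.primeCompl, IsUnit (algebraMap R p₁.asIdeal.ResidueField y) := by
    rintro ⟨y, hy⟩
    rw [isUnit_iff_ne_zero, ne_eq, Ideal.algebraMap_residueField_eq_zero]
    exact fun h ↦ hy (hle h)
  let f : Localization.AtPrime p₂.asIdeal →+* p₁.asIdeal.ResidueField :=
    IsLocalization.lift hunit
  obtain ⟨V, hV, hloc⟩ := IsLocalRing.exists_factor_valuationRing f
  let g : Localization.AtPrime p₂.asIdeal →+* V := f.codRestrict V.toSubring hV
  have hg : IsLocalHom g := hloc
  refine ⟨V, inferInstance, inferInstance, inferInstance, g.comp (algebraMap R _),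
    ⟨IsLocalRing.maximalIdeal V, inferInstance⟩, ?_, ?_⟩
  · ext x
    have h1 : ((g (algebraMap R _ x) : V) : p₁.asIdeal.ResidueField) =
        algebraMap R p₁.asIdeal.ResidueField x := IsLocalization.lift_eq _ _
    have h2 : x ∈ (PrimeSpectrum.comap (g.comp (algebraMap R (Localization.AtPrime p₂.asIdeal)))
        ⊥).asIdeal ↔ g (algebraMap R _ x) = 0 := Iff.rfl
    rw [h2, ← Ideal.algebraMap_residueField_eq_zero (I := p₁.asIdeal), ← h1]
    exact Subtype.ext_iff
  · ext x
    have h2 : x ∈ (PrimeSpectrum.comap (g.comp (algebraMap R (Localization.AtPrime p₂.asIdeal)))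
        ⟨IsLocalRing.maximalIdeal V, inferInstance⟩).asIdeal ↔
          g (algebraMap R _ x) ∈ IsLocalRing.maximalIdeal V := Iff.rfl
    rw [h2, IsLocalRing.mem_maximalIdeal, mem_nonunits_iff, isUnit_map_iff,
      IsLocalization.AtPrime.isUnit_to_map_iff (Localization.AtPrime p₂.asIdeal) p₂.asIdeal x]
    exact not_not

section

attribute [local instance] MvPolynomial.algebraMvPolynomial

/-- For `B` flat over `R` the set of `p` with `p R[X]` in the image of `Spec B` is stable under
generization. -/
theorem eta_mem_range_of_le {R B : Type u} [CommRing R] [CommRing B] [Algebra R B]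
    [Module.Flat R B] {n : ℕ} [Algebra (MvPolynomial (Fin n) R) B]
    [IsScalarTower R (MvPolynomial (Fin n) R) B] {p₁ p₂ : PrimeSpectrum R} (hle : p₁ ≤ p₂)
    (h : eta n p₂ ∈ Set.range (PrimeSpectrum.comap (algebraMap (MvPolynomial (Fin n) R) B))) :
    eta n p₁ ∈ Set.range (PrimeSpectrum.comap (algebraMap (MvPolynomial (Fin n) R) B)) := by
  obtain ⟨q₂, hq₂⟩ := h
  obtain ⟨V, _, _, _, ρ, m, h0, hm⟩ := exists_valuationRing hle
  let := ρ.toAlgebra
  let T := MvPolynomial (Fin n) R
  let TV := MvPolynomial (Fin n) V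
  have hflat : Module.Flat V (TV ⊗[T] B) :=
    Module.Flat.of_linearEquiv (Algebra.IsPushout.cancelBaseChange R V T TV B)
  obtain ⟨N, hN1, hN2⟩ := TensorPrime.exists_prime (R := T) (A := TV) (B := B) (eta n m) q₂ (by
    rw [hq₂, ← hm]
    exact comap_eta ρ n m)
  obtain ⟨N', hN'⟩ := exists_prime_over_bot (V := V) (n := n) (C := TV ⊗[T] B) m N hN1
  refine ⟨PrimeSpectrum.comap
    (Algebra.TensorProduct.includeRight : B →ₐ[T] TV ⊗[T] B).toRingHom N', ?_⟩
  have h1 : PrimeSpectrum.comap (algebraMap T B) (PrimeSpectrum.comap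
      (Algebra.TensorProduct.includeRight : B →ₐ[T] TV ⊗[T] B).toRingHom N') =
      PrimeSpectrum.comap (algebraMap T TV) (PrimeSpectrum.comap (algebraMap TV (TV ⊗[T] B)) N') := by
    rw [← PrimeSpectrum.comap_comp_apply, ← PrimeSpectrum.comap_comp_apply]
    congr 1
    rw [← IsScalarTower.algebraMap_eq T TV (TV ⊗[T] B)]
    exact AlgHom.comp_algebraMap (Algebra.TensorProduct.includeRight : B →ₐ[T] TV ⊗[T] B)
  rw [h1, hN', ← h0]
  exact comap_eta ρ n ⊥

end

/-- For `B` flat and of finite presentation over `R` the set of `p` with `p R[X]` in the image of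
`Spec B` is open. -/
theorem isOpen_eta_mem_range {R B : Type u} [CommRing R] [CommRing B] [Algebra R B]
    [Module.Flat R B] [Algebra.FinitePresentation R B] {n : ℕ} [Algebra (MvPolynomial (Fin n) R) B]
    [IsScalarTower R (MvPolynomial (Fin n) R) B] :
    IsOpen {p : PrimeSpectrum R |
      eta n p ∈ Set.range (PrimeSpectrum.comap (algebraMap (MvPolynomial (Fin n) R) B))} := by
  have hfp : Algebra.FinitePresentation (MvPolynomial (Fin n) R) B :=
    .of_restrict_scalars_finitePresentation R _ _
  refine PrimeSpectrum.isOpen_of_stableUnderGeneralization_of_isConstructible ?_ ?_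
  · intro p₂ p₁ hs h
    exact eta_mem_range_of_le ((PrimeSpectrum.le_iff_specializes _ _).mpr hs) h
  · exact isConstructible_preimage (PrimeSpectrum.isConstructible_range_comap
      (RingHom.finitePresentation_algebraMap.mpr hfp))

end Groth.Agent.FlatA.FlatDom
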