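import Mathlib.RingTheory.Flat.Tensor
import Mathlib.LinearAlgebra.TensorProduct.RightExactness
import Mathlib.LinearAlgebra.TensorProduct.Quotient
import Mathlib.LinearAlgebra.TensorProduct.Tower
import Mathlib.RingTheory.Ideal.Quotient.Operations
import Mathlib.Algebra.Module.Torsion.Basic

/-!
# Flatness over a domain via flatness of all proper quotients
-/

set_option autoImplicit false
set_option linter.style.haveILetI false
universe u

open TensorProduct Function

namespace Groth.Agent.FlatA.FlatDomain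

variable {A : Type u} [CommRing A] {N : Type u} [AddCommGroup N] [Module A N]

/-- If `(A ⧸ c) ⊗ N` is flat over `A ⧸ c`, tensoring with `N` preserves injections between modules
killed by `c`. -/
theorem rTensor_injective_of_flat_quotient (c : Ideal A) (h : Module.Flat (A ⧸ c) ((A ⧸ c) ⊗[A] N))
    {X Y : Type u} [AddCommGroup X] [Module A X] [AddCommGroup Y] [Module A Y]
    (hX : ∀ a ∈ c, ∀ x : X, a • x = 0) (hY : ∀ a ∈ c, ∀ y : Y, a • y = 0)
    (f : X →ₗ[A] Y) (hf : Injective f) : Injective (f.rTensor N) := by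
  letI : Module (A ⧸ c) X := Module.IsTorsionBySet.module (M := X) (I := c) (fun q a => hX a.1 a.2 q)
  letI : Module (A ⧸ c) Y := Module.IsTorsionBySet.module (M := Y) (I := c) (fun q a => hY a.1 a.2 q)
  haveI : IsScalarTower A (A ⧸ c) X := ⟨fun r x q => by
    obtain ⟨x, rfl⟩ := Ideal.Quotient.mk_surjective x
    exact mul_smul r x q⟩
  haveI : IsScalarTower A (A ⧸ c) Y := ⟨fun r x q => by
    obtain ⟨x, rfl⟩ := Ideal.Quotient.mk_surjective x
    exact mul_smul r x q⟩
  let f' : X →ₗ[A ⧸ c] Y :=
    { f with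
      map_smul' := fun r x => by
        obtain ⟨r, rfl⟩ := Ideal.Quotient.mk_surjective r
        exact f.map_smul r x }
  have h1 : Injective (f'.rTensor ((A ⧸ c) ⊗[A] N)) :=
    Module.Flat.rTensor_preserves_injective_linearMap f' hf
  let eX := AlgebraTensorModule.cancelBaseChange A (A ⧸ c) (A ⧸ c) X N
  let eY := AlgebraTensorModule.cancelBaseChange A (A ⧸ c) (A ⧸ c) Y N
  have h2 : ∀ z, eY ((f'.rTensor ((A ⧸ c) ⊗[A] N)) z) = f.rTensor N (eX z) := by
    intro z
    induction z using TensorProduct.induction_on with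
    | zero => simp
    | tmul q w =>
      induction w using TensorProduct.induction_on with
      | zero => simp
      | tmul a n =>
        rw [LinearMap.rTensor_tmul]
        simp only [eX, eY, AlgebraTensorModule.cancelBaseChange_tmul, LinearMap.rTensor_tmul]
        rw [← map_smul]
        rfl
      | add x y hx hy => rw [tmul_add, map_add, map_add, hx, hy, map_add, map_add]
    | add x y hx hy => rw [map_add, map_add, hx, hy, map_add, map_add]
  intro x y hxy
  obtain ⟨x, rfl⟩ := eX.surjective x
  obtain ⟨y, rfl⟩ := eX.surjective y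
  rw [← h2, ← h2] at hxy
  rw [h1 (eY.injective hxy)]

/-- Let `A` be a domain and `N` a torsion-free module such that `N / aN` is flat over `A / a` for all
`a ≠ 0`. Then `N` is flat. -/
theorem flat_of_quotients [IsDomain A] (htf : ∀ (a : A) (x : N), a ≠ 0 → a • x = 0 → x = 0)
    (hq : ∀ a : A, a ≠ 0 → Module.Flat (A ⧸ Ideal.span {a}) ((A ⧸ Ideal.span {a}) ⊗[A] N)) :
    Module.Flat A N := by
  rw [Module.Flat.iff_rTensor_injective']
  intro I
  by_cases hI : I = ⊥
  · subst hI
    intro x y _
    have h0 : ∀ z : (⊥ : Ideal A) ⊗[A] N, z = 0 := by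
      intro z
      induction z using TensorProduct.induction_on with
      | zero => rfl
      | tmul q n => rw [Subsingleton.elim q 0, zero_tmul]
      | add x y hx hy => rw [hx, hy, add_zero]
    rw [h0 x, h0 y]
  obtain ⟨a, haI, ha⟩ := Submodule.exists_mem_ne_zero_of_ne_bot hI
  let J : Ideal A := Ideal.span {a}
  have hJI : J ≤ I := (Ideal.span_singleton_le_iff_mem I).mpr haI
  let J' : Submodule A I := Submodule.comap I.subtype J
  -- the inclusion `I / J → A / J`
  let f : (I ⧸ J') →ₗ[A] (A ⧸ J) := Submodule.mapQ J' J I.subtype le_rfl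
  have hf : Injective f := by
    rw [← LinearMap.ker_eq_bot]
    refine (Submodule.ker_mapQ J' J (f := I.subtype) le_rfl).trans ?_
    exact J'.mkQ_map_self
  have hker : Injective (f.rTensor N) := by
    refine rTensor_injective_of_flat_quotient J (hq a ha) ?_ ?_ f hf
    · intro r hr x
      obtain ⟨x, rfl⟩ := Submodule.Quotient.mk_surjective _ x
      rw [← Submodule.Quotient.mk_smul, Submodule.Quotient.mk_eq_zero]
      change r * (x : A) ∈ J
      exact J.mul_mem_right _ hr
    · intro r hr x
      obtain ⟨x, rfl⟩ := Submodule.Quotient.mk_surjective _ x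
      rw [← Submodule.Quotient.mk_smul, Submodule.Quotient.mk_eq_zero]
      change r * (x : A) ∈ J
      exact J.mul_mem_right _ hr
  rw [injective_iff_map_eq_zero]
  intro z hz
  -- `z` dies in `(I / J) ⊗ N`
  have h1 : (J'.mkQ.rTensor N) z = 0 := by
    apply hker
    rw [map_zero, ← LinearMap.comp_apply, ← LinearMap.rTensor_comp]
    have : f ∘ₗ J'.mkQ = (J : Submodule A A).mkQ ∘ₗ I.subtype := by
      ext x
      rfl
    rw [this, LinearMap.rTensor_comp, LinearMap.comp_apply, hz, map_zero]
  -- `a : A ≅ J`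
  let m : A →ₗ[A] I := LinearMap.toSpanSingleton A I ⟨a, haI⟩
  have hex : Exact m J'.mkQ := by
    intro x
    rw [Submodule.mkQ_apply, Submodule.Quotient.mk_eq_zero]
    constructor
    · intro hx
      obtain ⟨c, hc⟩ := Ideal.mem_span_singleton'.mp (hx : (x : A) ∈ J)
      exact ⟨c, Subtype.ext hc⟩
    · rintro ⟨c, rfl⟩
      exact Ideal.mem_span_singleton'.mpr ⟨c, rfl⟩
  obtain ⟨w, rfl⟩ := (rTensor_exact N hex J'.mkQ_surjective z).mp h1
  obtain ⟨n, rfl⟩ : ∃ n : N, (1 : A) ⊗ₜ[A] n = w :=
    ⟨TensorProduct.lid A N w, by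
      apply (TensorProduct.lid A N).injective
      simp⟩
  have h2 : (TensorProduct.lid A N) ((I.subtype.rTensor N) ((m.rTensor N) ((1 : A) ⊗ₜ[A] n))) = a • n := by
    rw [LinearMap.rTensor_tmul, LinearMap.rTensor_tmul, TensorProduct.lid_tmul]
    simp [m]
  rw [hz, map_zero] at h2
  rw [htf a n ha h2.symm]
  simp

end Groth.Agent.FlatA.FlatDomain
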