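import Groth.Agent.FlatA.FlatDom
import Groth.Agent.FlatA.FibreQF
import Groth.Agent.Ega4B.DimFT

/-!
Lower semicontinuity of the fibre dimension for flat finitely presented algebras.
-/

set_option autoImplicit false

open scoped TensorProduct
open AlgebraicGeometry CategoryTheory Topology TopologicalSpace

namespace Groth.Agent.FlatA.FlatFibre

open Groth.Agent.FlatA.GenPoint

universe u v

/-- If `p R[X]` is in the image of `Spec B → Spec R[X_1, …, X_n]` then the fibre ring of `B` at `p`
has dimension at least `n`. -/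
theorem le_ringKrullDim_fiber {R : Type u} {B : Type v} [CommRing R] [CommRing B] [Algebra R B]
    [Algebra.FiniteType R B] {n : ℕ} [Algebra (MvPolynomial (Fin n) R) B]
    [IsScalarTower R (MvPolynomial (Fin n) R) B] (p : PrimeSpectrum R)
    (h : eta n p ∈ Set.range (PrimeSpectrum.comap (algebraMap (MvPolynomial (Fin n) R) B))) :
    (n : WithBot ℕ∞) ≤ ringKrullDim (p.asIdeal.Fiber B) := by
  obtain ⟨q, hq⟩ := h
  have hqp : PrimeSpectrum.comap (algebraMap R B) q = p := by
    rw [IsScalarTower.algebraMap_eq R (MvPolynomial (Fin n) R) B, PrimeSpectrum.comap_comp_apply, hq]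
    ext x
    change MvPolynomial.C x ∈ (eta n p).asIdeal ↔ _
    rw [mem_eta]
    constructor
    · intro h
      simpa using h 0
    · intro h m
      rw [MvPolynomial.coeff_C]
      split_ifs
      · exact h
      · exact p.asIdeal.zero_mem
  let κ := p.asIdeal.ResidueField
  let Q := PrimeSpectrum.preimageEquivFiber R B p ⟨q, hqp⟩
  have hQ : ∀ b : B, (1 ⊗ₜ[R] b : p.asIdeal.Fiber B) ∈ Q.asIdeal ↔ b ∈ q.asIdeal := fun b ↦ by
    have h1 := (PrimeSpectrum.preimageEquivFiber R B p).symm_apply_apply ⟨q, hqp⟩
    have h2 := congrArg (fun z ↦ b ∈ z.1.asIdeal) h1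
    exact iff_of_eq h2
  let D := p.asIdeal.Fiber B ⧸ Q.asIdeal
  let y : Fin n → D := fun i ↦ Ideal.Quotient.mk Q.asIdeal
    (1 ⊗ₜ[R] (algebraMap (MvPolynomial (Fin n) R) B (MvPolynomial.X i)))
  have hy : AlgebraicIndependent κ y := by
    rw [AlgebraicIndependent, injective_iff_map_eq_zero]
    intro F hF
    obtain ⟨r, hr, G, hG⟩ := Ideal.Fiber.exists_smul_eq_one_tmul p.asIdeal
      ((MvPolynomial.algebraTensorAlgEquiv R κ).symm F)
    have hG' : r • F = MvPolynomial.map (algebraMap R κ) G := by
      have h1 := congrArg (MvPolynomial.algebraTensorAlgEquiv (σ := Fin n) R κ) hG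
      rw [MvPolynomial.algebraTensorAlgEquiv_tmul, one_smul] at h1
      rw [← h1, ← algebraMap_smul κ r F, ← algebraMap_smul κ r, map_smul, AlgEquiv.apply_symm_apply]
    have h2 : MvPolynomial.aeval y (MvPolynomial.map (algebraMap R κ) G) =
        Ideal.Quotient.mk Q.asIdeal (1 ⊗ₜ[R] (algebraMap (MvPolynomial (Fin n) R) B G)) := by
      let a1 : MvPolynomial (Fin n) R →+* D :=
        (MvPolynomial.aeval (R := κ) y).toRingHom.comp (MvPolynomial.map (algebraMap R κ))
      let a2 : MvPolynomial (Fin n) R →+* D :=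
        (Ideal.Quotient.mk Q.asIdeal).comp
          ((Algebra.TensorProduct.includeRight : B →ₐ[R] p.asIdeal.Fiber B).toRingHom.comp
            (algebraMap (MvPolynomial (Fin n) R) B))
      have h3 : a1 = a2 := by
        apply MvPolynomial.ringHom_ext
        · intro x
          have e1 : a1 (MvPolynomial.C x) = algebraMap κ D (algebraMap R κ x) := by
            change MvPolynomial.aeval (R := κ) y
              (MvPolynomial.map (algebraMap R κ) (MvPolynomial.C x)) = _
            rw [MvPolynomial.map_C, MvPolynomial.aeval_C]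
          have e2 : a2 (MvPolynomial.C x) = Ideal.Quotient.mk Q.asIdeal
              (algebraMap κ (p.asIdeal.Fiber B) (algebraMap R κ x)) := by
            change Ideal.Quotient.mk Q.asIdeal
              ((Algebra.TensorProduct.includeRight : B →ₐ[R] p.asIdeal.Fiber B)
                (algebraMap (MvPolynomial (Fin n) R) B (MvPolynomial.C x))) = _
            rw [← MvPolynomial.algebraMap_eq, ← IsScalarTower.algebraMap_apply R
              (MvPolynomial (Fin n) R) B, AlgHom.commutes,
              IsScalarTower.algebraMap_apply R κ (p.asIdeal.Fiber B)]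
          rw [e1, e2]
          rfl
        · intro i
          have e1 : a1 (MvPolynomial.X i) = y i := by
            change MvPolynomial.aeval (R := κ) y
              (MvPolynomial.map (algebraMap R κ) (MvPolynomial.X i)) = _
            rw [MvPolynomial.map_X, MvPolynomial.aeval_X]
          rw [e1]
          rfl
      exact congr($h3 G)
    have h4 : MvPolynomial.aeval y (MvPolynomial.map (algebraMap R κ) G) = 0 := by
      rw [← hG', ← algebraMap_smul κ r F, map_smul, hF, smul_zero]
    rw [h2, Ideal.Quotient.eq_zero_iff_mem, hQ] at h4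
    have h5 : G ∈ (eta n p).asIdeal := by
      rw [← hq]
      exact h4
    have h6 : MvPolynomial.map (algebraMap R κ) G = 0 := h5
    rw [h6, ← algebraMap_smul κ r F] at hG'
    refine (smul_eq_zero.mp hG').resolve_left ?_
    rw [Ideal.algebraMap_residueField_eq_zero]
    exact hr
  have hdom : IsDomain D := Ideal.Quotient.isDomain Q.asIdeal
  obtain ⟨m, hm, hm'⟩ := Groth.Agent.Ega4B.DimFT.exists_dim κ D
  have hnm : n ≤ m := by
    have h1 := hy.lift_cardinalMk_le_trdeg
    rw [hm] at h1
    simpa using h1
  calc (n : WithBot ℕ∞) ≤ m := by exact_mod_cast hnm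
    _ = ringKrullDim D := hm'.symm
    _ ≤ ringKrullDim (p.asIdeal.Fiber B) := ringKrullDim_quotient_le _

/-- If the fibre ring at `p` has dimension at least `e`, some `R[X_1, …, X_n] → B`, `n ≥ e`, has
`p R[X]` in the image of `Spec B`. -/
theorem exists_map {R : Type u} {B : Type v} [CommRing R] [CommRing B] [Algebra R B]
    [Algebra.FiniteType R B] (p : PrimeSpectrum R) (e : ℕ)
    (h : (e : WithBot ℕ∞) ≤ ringKrullDim (p.asIdeal.Fiber B)) :
    ∃ n ≥ e, ∃ φ : MvPolynomial (Fin n) R →ₐ[R] B,
      eta n p ∈ Set.range (PrimeSpectrum.comap φ.toRingHom) := by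
  have hnt : Nontrivial (p.asIdeal.Fiber B) := by
    by_contra hn
    rw [not_nontrivial_iff_subsingleton] at hn
    rw [ringKrullDim_eq_bot_of_subsingleton, le_bot_iff] at h
    exact absurd h (by simp)
  obtain ⟨n, x, hn, hinj, hfin⟩ := NoetherLift.exists_lift_noether (S := B) p.asIdeal
  refine ⟨n, ?_, MvPolynomial.aeval x, ?_⟩
  · rw [hn] at h
    exact_mod_cast h
  · let κ := p.asIdeal.ResidueField
    let g : MvPolynomial (Fin n) κ →ₐ[κ] p.asIdeal.Fiber B :=
      MvPolynomial.aeval (R := κ) (fun i ↦ (1 ⊗ₜ[R] x i : p.asIdeal.Fiber B))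
    let := g.toRingHom.toAlgebra
    have : Module.Finite (MvPolynomial (Fin n) κ) (p.asIdeal.Fiber B) := hfin
    obtain ⟨Q, hQ⟩ := DimFin.comap_surjective_of_isIntegral (MvPolynomial (Fin n) κ)
      (p.asIdeal.Fiber B) hinj ⊥
    refine ⟨PrimeSpectrum.comap
      (Algebra.TensorProduct.includeRight : B →ₐ[R] p.asIdeal.Fiber B).toRingHom Q, ?_⟩
    have h1 : (Algebra.TensorProduct.includeRight : B →ₐ[R] p.asIdeal.Fiber B).toRingHom.comp
        (MvPolynomial.aeval (R := R) x).toRingHom =
        g.toRingHom.comp (MvPolynomial.map (algebraMap R κ)) := by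
      apply MvPolynomial.ringHom_ext
      · intro r
        change (Algebra.TensorProduct.includeRight : B →ₐ[R] p.asIdeal.Fiber B)
          (MvPolynomial.aeval (R := R) x (MvPolynomial.C r)) =
            g (MvPolynomial.map (algebraMap R κ) (MvPolynomial.C r))
        rw [MvPolynomial.map_C, ← MvPolynomial.algebraMap_eq, ← MvPolynomial.algebraMap_eq,
          AlgHom.commutes, AlgHom.commutes, AlgHom.commutes,
          ← IsScalarTower.algebraMap_apply R κ (p.asIdeal.Fiber B)]
      · intro i
        change (Algebra.TensorProduct.includeRight : B →ₐ[R] p.asIdeal.Fiber B)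
          (MvPolynomial.aeval (R := R) x (MvPolynomial.X i)) =
            g (MvPolynomial.map (algebraMap R κ) (MvPolynomial.X i))
        rw [MvPolynomial.map_X, MvPolynomial.aeval_X, MvPolynomial.aeval_X]
        rfl
    rw [← PrimeSpectrum.comap_comp_apply, h1, PrimeSpectrum.comap_comp_apply]
    change PrimeSpectrum.comap (MvPolynomial.map (algebraMap R κ))
      (PrimeSpectrum.comap (algebraMap (MvPolynomial (Fin n) κ) (p.asIdeal.Fiber B)) Q) = _
    rw [hQ]
    rfl

/-- For `B` flat and of finite presentation over `R`, the set of primes `p` where the fibre ring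
has dimension at least `e` is open. -/
theorem isOpen_le_ringKrullDim_fiber {R B : Type u} [CommRing R] [CommRing B] [Algebra R B]
    [Module.Flat R B] [Algebra.FinitePresentation R B] (e : ℕ) :
    IsOpen {p : PrimeSpectrum R | (e : WithBot ℕ∞) ≤ ringKrullDim (p.asIdeal.Fiber B)} := by
  rw [isOpen_iff_forall_mem_open]
  intro p hp
  obtain ⟨n, hn, φ, hφ⟩ := exists_map p e hp
  let := φ.toRingHom.toAlgebra
  have : IsScalarTower R (MvPolynomial (Fin n) R) B := .of_algebraMap_eq' φ.comp_algebraMap.symm
  refine ⟨_, fun p' hp' ↦ ?_, FlatDom.isOpen_eta_mem_range (R := R) (B := B) (n := n), hφ⟩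
  exact le_trans (by exact_mod_cast hn) (le_ringKrullDim_fiber p' hp')

end Groth.Agent.FlatA.FlatFibre
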