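import Groth.Agent.Flat2A.ModInj
import Groth.Agent.Flat2A.FlatFGIdeal
import Groth.Agent.Flat2A.EssFT

/-!
# Flatness from injectivity (part of Stacks 05U9 for maps linear over the base ring)

`A → B` local, essentially of finite presentation, `N` finitely presented over `B`, `u : N → M` an
`A`-linear map to a flat `A`-module. If `u ⊗ Q` is injective for all `Q` killed by `I` whenever
`N / IN` is flat over `A / I`, then `N` is flat over `A`.
-/

set_option autoImplicit false
set_option linter.style.haveILetI false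
universe u

open TensorProduct IsLocalRing Function

namespace Groth.Agent.FlatA.FlatFromInj

section dom

variable {D N : Type u} [CommRing D] [AddCommGroup N] [Module D N]

theorem exists_tmul (I : Ideal D) (z : (D ⧸ I) ⊗[D] N) : ∃ x : N, z = 1 ⊗ₜ[D] x := by
  obtain ⟨x, hx⟩ := TensorProduct.mk_surjective D N (D ⧸ I) Ideal.Quotient.mk_surjective z
  exact ⟨x, hx.symm⟩

theorem exists_smul_of_tmul_eq_zero (b : D) (x : N)
    (h : (1 : D ⧸ Ideal.span {b}) ⊗ₜ[D] x = 0) : ∃ y, x = b • y := by
  have h1 : x ∈ LinearMap.ker (TensorProduct.mk D (D ⧸ Ideal.span {b}) N 1) := h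
  rw [LinearMap.ker_tensorProductMk, Submodule.ideal_span_singleton_smul,
    Submodule.mem_smul_pointwise_iff_exists] at h1
  obtain ⟨y, _, hy⟩ := h1
  exact ⟨y, hy.symm⟩

theorem mk_smul_tmul (I : Ideal D) (a : D) (x : N) :
    (Ideal.Quotient.mk I a) • ((1 : D ⧸ I) ⊗ₜ[D] x) = 1 ⊗ₜ[D] (a • x) := by
  rw [smul_tmul', smul_eq_mul, mul_one, ← mul_one (Ideal.Quotient.mk I a)]
  change (a • (1 : D ⧸ I)) ⊗ₜ[D] x = _
  rw [TensorProduct.smul_tmul]

theorem exists_smul_of_smul_eq_zero [IsDomain D] {a b : D} (hb : b ≠ 0)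
    (hfl : Module.Flat (D ⧸ Ideal.span {a * b}) ((D ⧸ Ideal.span {a * b}) ⊗[D] N)) (x : N)
    (hx : b • x = 0) : ∃ y, x = a • y := by
  let I : Ideal D := Ideal.span {a * b}
  have h0 : ∑ i : Fin 1, (fun _ => Ideal.Quotient.mk I b) i • (fun _ => (1 : D ⧸ I) ⊗ₜ[D] x) i = 0 := by
    rw [Fin.sum_univ_one]
    change (Ideal.Quotient.mk I b) • ((1 : D ⧸ I) ⊗ₜ[D] x) = 0
    rw [mk_smul_tmul, hx, tmul_zero]
  obtain ⟨k, c, y, h1, h2⟩ := Module.Flat.isTrivialRelation_of_sum_smul_eq_zero h0
  choose γ hγ using fun j => Ideal.Quotient.mk_surjective (c 0 j)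
  choose η hη using fun j => exists_tmul I (y j)
  have h3 : ∀ j, ∃ δ, γ j = a * δ := by
    intro j
    have h4 := h2 j
    rw [Fin.sum_univ_one] at h4
    change Ideal.Quotient.mk I b * c 0 j = 0 at h4
    rw [← hγ, ← map_mul, Ideal.Quotient.eq_zero_iff_mem, Ideal.mem_span_singleton] at h4
    obtain ⟨δ, hδ⟩ := h4
    refine ⟨δ, mul_left_cancel₀ hb ?_⟩
    rw [hδ]; ring
  choose δ hδ using h3
  have h5 : (1 : D ⧸ I) ⊗ₜ[D] x = 1 ⊗ₜ[D] (a • ∑ j, δ j • η j) := by
    refine (h1 0).trans ?_
    rw [Finset.smul_sum, tmul_sum]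
    refine Finset.sum_congr rfl fun j _ => ?_
    rw [← hγ, hη, mk_smul_tmul, hδ, mul_smul]
  obtain ⟨w, hw⟩ := exists_smul_of_tmul_eq_zero (a * b) (x - a • ∑ j, δ j • η j) (by
    rw [tmul_sub, sub_eq_zero]; exact h5)
  refine ⟨∑ j, δ j • η j + b • w, ?_⟩
  rw [smul_add, smul_smul, ← hw]
  abel

theorem flat_of_torsionFree [IsDomain D] (htf : ∀ (b : D) (x : N), b ≠ 0 → b • x = 0 → x = 0)
    (hfl : ∀ b : D, b ≠ 0 → Module.Flat (D ⧸ Ideal.span {b}) ((D ⧸ Ideal.span {b}) ⊗[D] N)) :
    Module.Flat D N := by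
  classical
  refine Module.Flat.of_forall_isTrivialRelation ?_
  intro l f x h
  by_cases hf : ∀ i, f i = 0
  · refine ⟨l, fun i j => if i = j then 1 else 0, x, fun i => ?_, fun j => ?_⟩
    · simp
    · simp [hf]
  · push Not at hf
    obtain ⟨i₀, hi₀⟩ := hf
    set b := f i₀ with hb
    let I : Ideal D := Ideal.span {b}
    haveI := hfl b hi₀
    have h0 : ∑ i : Fin l, (Ideal.Quotient.mk I (f i)) • ((1 : D ⧸ I) ⊗ₜ[D] x i) = 0 := by
      rw [Finset.sum_congr rfl fun i _ => mk_smul_tmul I (f i) (x i), ← tmul_sum, h, tmul_zero]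
    obtain ⟨k, c, y, h1, h2⟩ := Module.Flat.isTrivialRelation_of_sum_smul_eq_zero h0
    choose γ hγ using fun i j => Ideal.Quotient.mk_surjective (c i j)
    choose η hη using fun j => exists_tmul I (y j)
    have h3 : ∀ j, ∃ d, ∑ i, f i * γ i j = b * d := by
      intro j
      have h4 := h2 j
      have h5 : Ideal.Quotient.mk I (∑ i, f i * γ i j) = 0 := by
        rw [map_sum, ← h4]
        refine Finset.sum_congr rfl fun i _ => ?_
        rw [map_mul, hγ]
      rw [Ideal.Quotient.eq_zero_iff_mem, Ideal.mem_span_singleton] at h5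
      exact h5
    choose d hd using h3
    have h5 : ∀ i, ∃ w, x i = ∑ j, γ i j • η j + b • w := by
      intro i
      obtain ⟨w, hw⟩ := exists_smul_of_tmul_eq_zero b (x i - ∑ j, γ i j • η j) (by
        rw [tmul_sub, sub_eq_zero, tmul_sum]
        refine (h1 i).trans (Finset.sum_congr rfl fun j _ => ?_)
        rw [← hγ, hη]
        exact mk_smul_tmul I _ _)
      refine ⟨w, ?_⟩
      rw [← hw]; abel
    choose w hw using h5
    have h6 : ∑ j, d j • η j + ∑ k, f k • w k = 0 := by
      apply htf b _ hi₀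
      have e1 : b • ∑ j, d j • η j = ∑ i, f i • ∑ j, γ i j • η j := by
        rw [Finset.smul_sum]
        simp_rw [smul_smul, ← hd, Finset.sum_smul, Finset.smul_sum, smul_smul]
        rw [Finset.sum_comm]
      have e2 : b • ∑ k, f k • w k = ∑ k, f k • (b • w k) := by
        rw [Finset.smul_sum]
        refine Finset.sum_congr rfl fun k _ => ?_
        rw [smul_comm]
      rw [smul_add, e1, e2, ← Finset.sum_add_distrib, ← h]
      refine Finset.sum_congr rfl fun i _ => ?_
      rw [← smul_add, ← hw]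
    have key : ∃ (κ : Type) (_ : Fintype κ) (a : Fin l → κ → D) (y : κ → N),
        (∀ i, x i = ∑ j, a i j • y j) ∧ ∀ j, ∑ i, f i * a i j = 0 := by
      refine ⟨Fin k ⊕ Fin l, inferInstance,
        fun i => Sum.elim (fun j => γ i j - if i = i₀ then d j else 0)
          (fun m => (if i = m then b else 0) - if i = i₀ then f m else 0),
        Sum.elim η w, fun i => ?_, ?_⟩
      · rw [Fintype.sum_sum_type]
        simp only [Sum.elim_inl, Sum.elim_inr, sub_smul, Finset.sum_sub_distrib, ite_smul, zero_smul]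
        rw [Finset.sum_ite_eq Finset.univ i (fun m => b • w m)]
        by_cases hi : i = i₀
        · simp only [hi, if_true, Finset.mem_univ]
          have := hw i₀
          rw [this]
          have h7 : ∑ j, d j • η j = - ∑ k, f k • w k := eq_neg_of_add_eq_zero_left h6
          rw [h7]
          abel
        · simp only [hi, if_false, Finset.mem_univ, if_true, Finset.sum_const_zero, sub_zero]
          exact hw i
      · rintro (j | m)
        · simp only [Sum.elim_inl, mul_sub, Finset.sum_sub_distrib, mul_ite, mul_zero]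
          rw [hd, Finset.sum_ite_eq' Finset.univ i₀, if_pos (Finset.mem_univ _), sub_self]
        · simp only [Sum.elim_inr, mul_sub, Finset.sum_sub_distrib, mul_ite, mul_zero]
          rw [Finset.sum_ite_eq' Finset.univ i₀, if_pos (Finset.mem_univ _),
            Finset.sum_ite_eq' Finset.univ m, if_pos (Finset.mem_univ _), ← hb]
          ring
    obtain ⟨κ, _, a, y', hy1, hy2⟩ := key
    let e := Fintype.equivFin κ
    refine ⟨Fintype.card κ, fun i j => a i (e.symm j), fun j => y' (e.symm j), fun i => ?_, fun j => ?_⟩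
    · rw [hy1 i]
      exact (Equiv.sum_comp e.symm (fun j => a i j • y' j)).symm
    · exact hy2 _

end dom

theorem tmul_smul_eq_zero {D N : Type u} [CommRing D] [AddCommGroup N] [Module D N] (b : D) (x : N) :
    (1 : D ⧸ Ideal.span {b}) ⊗ₜ[D] (b • x) = 0 := by
  rw [← mk_smul_tmul, Ideal.Quotient.eq_zero_iff_mem.2 (Ideal.mem_span_singleton_self b), zero_smul]

theorem flat_of_domain {D B N : Type u} [CommRing D] [IsDomain D] [IsLocalRing D] [CommRing B]
    [IsLocalRing B] [Algebra D B] [IsLocalHom (algebraMap D B)] [Algebra.EssFiniteType D B]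
    [AddCommGroup N] [Module D N] [Module B N] [IsScalarTower D B N] [Module.Finite B N]
    (hfl : ∀ b : D, b ≠ 0 → Module.Flat (D ⧸ Ideal.span {b}) ((D ⧸ Ideal.span {b}) ⊗[D] N)) :
    Module.Flat D N := by
  by_cases hD : maximalIdeal D = ⊥
  · refine flat_of_torsionFree ?_ hfl
    intro b x hb hx
    have hu : IsUnit b := by
      by_contra h
      have h1 : b ∈ maximalIdeal D := h
      rw [hD, Submodule.mem_bot] at h1
      exact hb h1
    exact (hu.smul_eq_zero).1 hx
  obtain ⟨b₀, hb₀m, hb₀⟩ := Submodule.exists_mem_ne_zero_of_ne_bot hD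
  let T : Submodule B N :=
    { carrier := {x | ∃ a : D, a ≠ 0 ∧ a • x = 0}
      add_mem' := by
        rintro x y ⟨a, ha, hx⟩ ⟨b, hb, hy⟩
        refine ⟨a * b, mul_ne_zero ha hb, ?_⟩
        rw [smul_add, mul_comm a b, mul_smul, hx, mul_comm b a, mul_smul, hy, smul_zero, smul_zero,
          add_zero]
      zero_mem' := ⟨1, one_ne_zero, smul_zero _⟩
      smul_mem' := by
        rintro c x ⟨a, ha, hx⟩
        exact ⟨a, ha, by rw [smul_comm, hx, smul_zero]⟩ }
  have hT : ∀ x ∈ T, ∀ a : D, a ≠ 0 → ∃ y ∈ T, x = a • y := by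
    rintro x ⟨b, hb, hx⟩ a ha
    obtain ⟨y, rfl⟩ := exists_smul_of_smul_eq_zero hb (hfl _ (mul_ne_zero ha hb)) x hx
    exact ⟨y, ⟨b * a, mul_ne_zero hb ha, by rw [mul_smul, hx]⟩, rfl⟩
  have hflat : Module.Flat D (N ⧸ T) := by
    refine flat_of_torsionFree ?_ ?_
    · intro b x hb hx
      obtain ⟨x, rfl⟩ := Submodule.Quotient.mk_surjective T x
      rw [← Submodule.Quotient.mk_smul, Submodule.Quotient.mk_eq_zero] at hx
      rw [Submodule.Quotient.mk_eq_zero]
      obtain ⟨a, ha, h⟩ := hx
      exact ⟨a * b, mul_ne_zero ha hb, by rw [mul_smul, h]⟩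
    · intro b hb
      haveI := hfl b hb
      let f : N →ₗ[D] N ⧸ T := T.mkQ.restrictScalars D
      have hf : Surjective f := T.mkQ_surjective
      let g := f.baseChange (D ⧸ Ideal.span {b})
      have hg : Bijective g := by
        constructor
        · rw [injective_iff_map_eq_zero]
          intro z hz
          obtain ⟨x, rfl⟩ := exists_tmul _ z
          have h1 : (1 : D ⧸ Ideal.span {b}) ⊗ₜ[D] f x = 0 := hz
          obtain ⟨y', hy'⟩ := exists_smul_of_tmul_eq_zero b _ h1
          obtain ⟨y, rfl⟩ := hf y'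
          have h2 : x - b • y ∈ T := by
            rw [← Submodule.ker_mkQ T, LinearMap.mem_ker, map_sub, sub_eq_zero]
            exact hy'.trans (map_smul f b y).symm
          obtain ⟨t, _, ht⟩ := hT _ h2 b hb
          have h3 : x = b • (t + y) := by rw [smul_add, ← ht]; abel
          rw [h3, tmul_smul_eq_zero]
        · exact LinearMap.lTensor_surjective _ hf
      exact Module.Flat.of_linearEquiv (LinearEquiv.ofBijective g hg).symm
  have hfp : Module.FinitePresentation B (N ⧸ T) := by
    refine (Flat2A.ModInj.main (R := D) (S := B) (N := N ⧸ T) (M := N ⧸ T) LinearMap.id ?_).2.2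
    intro x y hxy
    simpa using hxy
  have hfg : T.FG := by
    have := Module.FinitePresentation.fg_ker T.mkQ T.mkQ_surjective
    rwa [Submodule.ker_mkQ] at this
  have hbot : T = ⊥ := by
    refine Submodule.eq_bot_of_le_smul_of_le_jacobson_bot (maximalIdeal B) T hfg ?_
      (IsLocalRing.maximalIdeal_le_jacobson ⊥)
    intro x hx
    obtain ⟨y, hy, rfl⟩ := hT x hx b₀ hb₀
    rw [← algebraMap_smul B b₀ y]
    exact Submodule.smul_mem_smul (map_nonunit (algebraMap D B) b₀ hb₀m) hy
  refine flat_of_torsionFree ?_ hfl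
  intro b x hb hx
  have : x ∈ T := ⟨b, hb, hx⟩
  rwa [hbot, Submodule.mem_bot] at this

theorem flat_quot_of_le {A N : Type u} [CommRing A] [AddCommGroup N] [Module A N] {I J : Ideal A}
    (hIJ : I ≤ J) (h : Module.Flat (A ⧸ I) ((A ⧸ I) ⊗[A] N)) :
    Module.Flat (A ⧸ J) ((A ⧸ J) ⊗[A] N) :=
  Flat2A.ModInjCore.flat_of_le h (A ⧸ J) (fun _ ha => Ideal.Quotient.eq_zero_iff_mem.2 (hIJ ha))

section ext

variable {A N M : Type u} [CommRing A] [AddCommGroup N] [Module A N] [AddCommGroup M] [Module A M]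
  (u : N →ₗ[A] M)

theorem lTensor_rTensor {Q Q' : Type u} [AddCommGroup Q] [Module A Q] [AddCommGroup Q'] [Module A Q']
    (f : Q →ₗ[A] Q') (z : Q ⊗[A] N) :
    u.lTensor Q' (f.rTensor N z) = f.rTensor M (u.lTensor Q z) := by
  rw [← LinearMap.comp_apply, ← LinearMap.comp_apply, LinearMap.lTensor_comp_rTensor,
    LinearMap.rTensor_comp_lTensor]

/-- Injectivity of `u ⊗ Q` from a submodule and the quotient, for a flat target. -/
theorem inj_of_submodule [Module.Flat A M] {Q : Type u} [AddCommGroup Q] [Module A Q]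
    (Q₁ : Submodule A Q) (h1 : Injective (u.lTensor Q₁)) (h2 : Injective (u.lTensor (Q ⧸ Q₁))) :
    Injective (u.lTensor Q) := by
  rw [injective_iff_map_eq_zero]
  intro z hz
  have h3 : Q₁.mkQ.rTensor N z = 0 := by
    apply h2
    rw [lTensor_rTensor, hz, map_zero, map_zero]
  obtain ⟨z₁, rfl⟩ := (rTensor_exact N (LinearMap.exact_subtype_mkQ Q₁) Q₁.mkQ_surjective z).1 h3
  have h4 : z₁ = 0 := by
    apply h1
    apply Module.Flat.rTensor_preserves_injective_linearMap (M := M) Q₁.subtype Subtype.val_injective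
    rw [← lTensor_rTensor, hz, map_zero, map_zero]
  rw [h4, map_zero]

/-- If `u ⊗ Q` is injective for all `Q` killed by `c` then `N / cN` is flat over `A / c`. -/
theorem flat_quot_of_inj [Module.Flat A M] (c : Ideal A)
    (h : ∀ (Q : Type u) [AddCommGroup Q] [Module A Q], (∀ a ∈ c, ∀ x : Q, a • x = 0) →
        Injective (u.lTensor Q)) : Module.Flat (A ⧸ c) ((A ⧸ c) ⊗[A] N) := by
  rw [Module.Flat.iff_rTensor_injective']
  intro J
  apply Flat2A.ModInjCore.rTensor_baseChange_injective
  let f : J →ₗ[A] (A ⧸ c) := J.subtype.restrictScalars A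
  have h1 : Injective (u.lTensor J) := by
    apply h
    rintro a ha ⟨x, hx⟩
    apply Subtype.ext
    change a • x = 0
    obtain ⟨y, rfl⟩ := Ideal.Quotient.mk_surjective x
    change Ideal.Quotient.mk c (a * y) = 0
    rw [Ideal.Quotient.eq_zero_iff_mem]
    exact Ideal.mul_mem_right _ _ ha
  have h2 : Injective (f.rTensor M) :=
    Module.Flat.rTensor_preserves_injective_linearMap f Subtype.val_injective
  have h3 : (f.rTensor M) ∘ (u.lTensor J) = (u.lTensor (A ⧸ c)) ∘ (f.rTensor N) := by
    ext z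
    exact (lTensor_rTensor u f z).symm
  have h4 : Injective ((f.rTensor M) ∘ (u.lTensor J)) := h2.comp h1
  rw [h3] at h4
  exact h4.of_comp

end ext

attribute [local instance] Algebra.TensorProduct.rightAlgebra in
/-- Base change of the local data to `A / c` with `c` prime. -/
theorem flat_quot_prime {A B N : Type u} [CommRing A] [IsLocalRing A] [CommRing B] [IsLocalRing B]
    [Algebra A B] [IsLocalHom (algebraMap A B)] [Algebra.EssFiniteType A B] [AddCommGroup N]
    [Module A N] [Module B N] [IsScalarTower A B N] [Module.Finite B N] (c : Ideal A) [c.IsPrime]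
    (h : ∀ I : Ideal A, c < I → Module.Flat (A ⧸ I) ((A ⧸ I) ⊗[A] N)) :
    Module.Flat (A ⧸ c) ((A ⧸ c) ⊗[A] N) := by
  let D := A ⧸ c
  have hcm : c ≤ maximalIdeal A := le_maximalIdeal (Ideal.IsPrime.ne_top')
  let E := D ⊗[A] B
  haveI hp : Algebra.IsPushout A D B E := inferInstance
  have hsurj : Surjective (algebraMap B E) :=
    Algebra.TensorProduct.includeRight_surjective (S := D) B Ideal.Quotient.mk_surjective
  let ρ : D →ₐ[A] ResidueField B := Ideal.Quotient.liftₐ c (Algebra.ofId A (ResidueField B)) (by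
    intro a ha
    change algebraMap A (ResidueField B) a = 0
    rw [IsScalarTower.algebraMap_apply A B]
    exact Flat2A.ModInjCore.residue_algebraMap_eq_zero (hcm ha))
  let θ : E →ₐ[A] ResidueField B :=
    Algebra.TensorProduct.lift ρ (IsScalarTower.toAlgHom A B (ResidueField B)) (fun _ _ => Commute.all _ _)
  haveI : Nontrivial E := θ.toRingHom.domain_nontrivial
  haveI : IsLocalRing E := IsLocalRing.of_surjective' (algebraMap B E) hsurj
  haveI hl : IsLocalHom (algebraMap B E) := IsLocalHom.of_surjective _ hsurj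
  haveI : IsLocalRing D := IsLocalRing.of_surjective' (Ideal.Quotient.mk c) Ideal.Quotient.mk_surjective
  haveI : IsLocalHom (algebraMap D E) := by
    refine ⟨fun x hx => ?_⟩
    obtain ⟨a, rfl⟩ := Ideal.Quotient.mk_surjective x
    have h1 : algebraMap D E (Ideal.Quotient.mk c a) = algebraMap B E (algebraMap A B a) := by
      have e1 : algebraMap D E (algebraMap A D a) = algebraMap A E a := by
        rw [← IsScalarTower.algebraMap_apply]
      have e2 : algebraMap B E (algebraMap A B a) = algebraMap A E a := by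
        rw [← IsScalarTower.algebraMap_apply]
      exact e1.trans e2.symm
    rw [h1] at hx
    exact ((isUnit_map_iff (algebraMap A B) a).1 ((isUnit_map_iff (algebraMap B E) _).1 hx)).map _
  let e : E ⊗[B] N ≃ₗ[D] D ⊗[A] N := Algebra.IsPushout.cancelBaseChange A D B E N
  have key : Module.Flat D (E ⊗[B] N) := by
    refine flat_of_domain (D := D) (B := E) (N := E ⊗[B] N) ?_
    intro b hb
    obtain ⟨b', rfl⟩ := Ideal.Quotient.mk_surjective b
    have hI : c < c ⊔ Ideal.span {b'} := by
      rw [left_lt_sup, Ideal.span_singleton_le_iff_mem]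
      intro h
      exact hb (Ideal.Quotient.eq_zero_iff_mem.2 h)
    let F := D ⧸ Ideal.span {Ideal.Quotient.mk c b'}
    have h1 : Module.Flat F (F ⊗[A] N) := by
      refine Flat2A.ModInjCore.flat_of_le (h _ hI) F ?_
      intro a ha
      have hle : c ⊔ Ideal.span {b'} ≤ RingHom.ker (algebraMap A F) := by
        refine sup_le ?_ ?_
        · intro x hx
          rw [RingHom.mem_ker, IsScalarTower.algebraMap_apply A D F]
          have : algebraMap A D x = 0 := Ideal.Quotient.eq_zero_iff_mem.2 hx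
          rw [this, map_zero]
        · rw [Ideal.span_singleton_le_iff_mem, RingHom.mem_ker, IsScalarTower.algebraMap_apply A D F]
          exact Ideal.Quotient.eq_zero_iff_mem.2 (Ideal.mem_span_singleton_self _)
      exact hle ha
    have h2 : Module.Flat F (F ⊗[D] (D ⊗[A] N)) :=
      Module.Flat.of_linearEquiv (AlgebraTensorModule.cancelBaseChange A D F F N)
    exact Module.Flat.of_linearEquiv (e.baseChange D F _ _)
  exact Module.Flat.of_linearEquiv e.symm

/-- Flatness from injectivity. -/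
theorem flat {A B N M : Type u} [CommRing A] [IsLocalRing A] [CommRing B] [IsLocalRing B]
    [Algebra A B] [IsLocalHom (algebraMap A B)] (hB : FlatCA.EssFinitePresentation A B)
    [AddCommGroup N] [Module A N] [Module B N] [IsScalarTower A B N] [Module.FinitePresentation B N]
    [AddCommGroup M] [Module A M] [Module.Flat A M] (u : N →ₗ[A] M)
    (hinj : ∀ I : Ideal A, I ≤ maximalIdeal A → Module.Flat (A ⧸ I) ((A ⧸ I) ⊗[A] N) →
      ∀ (Q : Type u) [AddCommGroup Q] [Module A Q], (∀ a ∈ I, ∀ x : Q, a • x = 0) →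
        Injective (u.lTensor Q)) : Module.Flat A N := by
  by_contra hbad
  let S : Set (Ideal A) := {I | ¬ Module.Flat (A ⧸ I) ((A ⧸ I) ⊗[A] N)}
  have hbot : (⊥ : Ideal A) ∈ S := by
    intro h
    apply hbad
    have := Flat2A.ModInjCore.flat_of_le h A
      (fun a ha => by rw [(Submodule.mem_bot A).1 ha, map_zero])
    exact Module.Flat.of_linearEquiv (TensorProduct.lid A N).symm
  obtain ⟨c, -, hc⟩ := zorn_le_nonempty₀ S (by
    intro C hC hchain y hy
    refine ⟨sSup C, ?_, fun z hz => le_sSup hz⟩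
    intro hflat
    obtain ⟨I₀, hle, hfg, hI₀⟩ := Flat2A.FlatFGIdeal.exists_fg hB (sSup C) hflat
    have hcpt := (CompleteLattice.isCompactElement_iff_le_of_directed_sSup_le _ _).1
      ((Submodule.fg_iff_compact I₀).1 hfg)
    obtain ⟨J, hJ, hJle⟩ := hcpt C ⟨y, hy⟩ hchain.directedOn hle
    exact hC hJ (flat_quot_of_le hJle hI₀)) ⊥ hbot
  have hgood : ∀ I : Ideal A, c < I → Module.Flat (A ⧸ I) ((A ⧸ I) ⊗[A] N) := by
    intro I hI
    by_contra h
    exact absurd (hc.2 h hI.le) hI.not_ge
  have hmflat : Module.Flat (A ⧸ maximalIdeal A) ((A ⧸ maximalIdeal A) ⊗[A] N) :=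
    inferInstanceAs (Module.Flat (ResidueField A) (ResidueField A ⊗[A] N))
  have hctop : c ≠ ⊤ := by
    rintro rfl
    exact hc.1 (flat_quot_of_le le_top hmflat)
  have hcm : c ≤ maximalIdeal A := le_maximalIdeal hctop
  by_cases hprime : c.IsPrime
  · have : Algebra.EssFiniteType A B := by
      exact Flat2A.EssFT.essFiniteType hB
    exact hc.1 (flat_quot_prime (B := B) c hgood)
  obtain ⟨a, ha, b, hb, hab⟩ := (Ideal.not_isPrime_iff.1 hprime).resolve_left hctop
  have ham : a ∈ maximalIdeal A := by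
    by_contra h
    have : IsUnit a := by
      by_contra h'
      exact h h'
    exact hb ((Ideal.unit_mul_mem_iff_mem c this).1 hab)
  have hbm : b ∈ maximalIdeal A := by
    by_contra h
    have : IsUnit b := by
      by_contra h'
      exact h h'
    exact ha ((Ideal.mul_unit_mem_iff_mem c this).1 hab)
  have key : ∀ x ∉ c, x ∈ maximalIdeal A → ∀ (Q : Type u) [AddCommGroup Q] [Module A Q],
      (∀ a ∈ c, ∀ y : Q, a • y = 0) → (∀ y : Q, x • y = 0) → Injective (u.lTensor Q) := by
    intro x hx hxm Q _ _ h1 h2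
    have hI : c < c ⊔ Ideal.span {x} := by
      rw [left_lt_sup, Ideal.span_singleton_le_iff_mem]
      exact hx
    refine hinj _ (sup_le hcm ((Ideal.span_singleton_le_iff_mem _).2 hxm)) (hgood _ hI) Q ?_
    intro e he y
    obtain ⟨e₁, he₁, e₂, he₂, rfl⟩ := Submodule.mem_sup.1 he
    obtain ⟨r, rfl⟩ := Ideal.mem_span_singleton'.1 he₂
    rw [add_smul, h1 _ he₁, mul_smul, h2, smul_zero, add_zero]
  refine hc.1 (flat_quot_of_inj u c ?_)
  intro Q _ _ hQ
  let Q₁ : Submodule A Q := LinearMap.range (LinearMap.lsmul A Q a)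
  refine inj_of_submodule u Q₁ (key b hb hbm Q₁ ?_ ?_) (key a ha ham (Q ⧸ Q₁) ?_ ?_)
  · rintro x hx ⟨y, hy⟩
    apply Subtype.ext
    exact hQ x hx y
  · rintro ⟨_, y, rfl⟩
    apply Subtype.ext
    change b • (a • y) = 0
    rw [smul_smul, mul_comm]
    exact hQ _ hab y
  · intro x hx y
    obtain ⟨y, rfl⟩ := Submodule.Quotient.mk_surjective Q₁ y
    rw [← Submodule.Quotient.mk_smul, hQ x hx y]
    rfl
  · intro y
    obtain ⟨y, rfl⟩ := Submodule.Quotient.mk_surjective Q₁ y
    rw [← Submodule.Quotient.mk_smul, Submodule.Quotient.mk_eq_zero]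
    exact ⟨y, rfl⟩

end Groth.Agent.FlatA.FlatFromInj
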