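import Groth.Agent.Smoothlim.ImmersionStage
import Mathlib.AlgebraicGeometry.IdealSheaf.Functorial

/-!
# Closed subschemes of a cofiltered limit

Let `c` be a limit cone over a cofiltered diagram `D` of quasi-separated schemes with affine
transition maps, and `J` an ideal sheaf on the limit `c.pt`.  Then the closed subscheme of `c.pt`
defined by `J` is the limit of its scheme-theoretic images in the `D.obj i`.
-/

set_option autoImplicit false
set_option backward.isDefEq.respectTransparency false
set_option backward.defeqAttrib.useBackward true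
universe u v

open CategoryTheory AlgebraicGeometry Limits Scheme

namespace Groth.Agent.FlatA.ImageLimit

variable {I : Type u} [Category.{u} I] (D : I ⥤ Scheme.{u}) (c : Cone D)
  (J : c.pt.IdealSheafData)

theorem le_map {i j : I} (a : i ⟶ j) :
    J.map (c.π.app j) ≤ (J.map (c.π.app i)).map (D.map a) := by
  rw [← IdealSheafData.map_comp, c.w]

/-- The diagram of the scheme-theoretic images of the closed subscheme defined by `J`. -/
noncomputable def imgDiagram : I ⥤ Scheme.{u} where
  obj i := (J.map (c.π.app i)).subscheme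
  map {i j} a := IdealSheafData.subschemeMap _ _ (D.map a) (le_map D c J a)
  map_id i := by
    rw [← cancel_mono (IdealSheafData.subschemeι _)]
    simp
  map_comp a b := by
    rw [← cancel_mono (IdealSheafData.subschemeι _)]
    simp

@[simp] theorem imgDiagram_obj (i : I) :
    (imgDiagram D c J).obj i = (J.map (c.π.app i)).subscheme := rfl

/-- The closed immersions of the images in the stages. -/
noncomputable def imgι : imgDiagram D c J ⟶ D where
  app i := (J.map (c.π.app i)).subschemeι
  naturality i j a := by simp [imgDiagram]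

instance (i : I) : IsClosedImmersion ((imgι D c J).app i) := by
  dsimp [imgι]
  infer_instance

instance {i j : I} (a : i ⟶ j) [IsAffineHom (D.map a)] :
    IsAffineHom ((imgDiagram D c J).map a) := by
  have h : (imgDiagram D c J).map a ≫ (imgι D c J).app j = (imgι D c J).app i ≫ D.map a :=
    (imgι D c J).naturality a
  have : IsAffineHom ((imgDiagram D c J).map a ≫ (imgι D c J).app j) := by
    rw [h]
    infer_instance
  exact MorphismProperty.of_postcomp (W := @IsAffineHom) (W' := @IsSeparated) _
    ((imgι D c J).app j) inferInstance this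

/-- The cone over the diagram of images. -/
noncomputable def imgCone : Cone (imgDiagram D c J) where
  pt := J.subscheme
  π := 
    { app i := IdealSheafData.subschemeMap _ _ (c.π.app i) le_rfl
      naturality i j a := by
        dsimp
        rw [← cancel_mono (IdealSheafData.subschemeι _)]
        simp [imgDiagram] }

@[simp] theorem imgCone_pt : (imgCone D c J).pt = J.subscheme := rfl

@[reassoc] theorem imgCone_π_app_imgι (i : I) :
    (imgCone D c J).π.app i ≫ (imgι D c J).app i = J.subschemeι ≫ c.π.app i := by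
  simp [imgCone, imgι]

variable [IsCofiltered I] [∀ {i j} (f : i ⟶ j), IsAffineHom (D.map f)]
  [∀ i, QuasiSeparatedSpace (D.obj i)]

omit [IsCofiltered I] [∀ {i j} (f : i ⟶ j), IsAffineHom (D.map f)]
  [∀ i, QuasiSeparatedSpace (D.obj i)] in
theorem app_eq_zero_of_comp {X Y Z : Scheme.{u}} (g : X ⟶ Y) (h : Y ⟶ Z) (f : X ⟶ Z)
    (e : g ≫ h = f) (W : Z.Opens) (t : Γ(Z, W)) (ht : (h.app W).hom t = 0) :
    (f.app W).hom t = 0 := by
  subst e
  rw [Scheme.Hom.comp_app]
  change (g.app _).hom ((h.app W).hom t) = 0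
  rw [ht, map_zero]

omit [IsCofiltered I] [∀ i, QuasiSeparatedSpace (D.obj i)]
  [∀ {i j} (f : i ⟶ j), IsAffineHom (D.map f)] in
theorem app_eq_zero_aux {T : Scheme.{u}} (u : T ⟶ c.pt)
    (s : ∀ i, T ⟶ (J.map (c.π.app i)).subscheme)
    (hs : ∀ i, s i ≫ (J.map (c.π.app i)).subschemeι = u ≫ c.π.app i) (k : I)
    [IsAffineHom (c.π.app k)] (W : (D.obj k).Opens) (hW : IsAffineOpen W) (t : Γ(D.obj k, W))
    (hx : ((c.π.app k).app W).hom t ∈ J.ideal ⟨c.π.app k ⁻¹ᵁ W, hW.preimage _⟩) :
    (u.app _).hom (((c.π.app k).app W).hom t) = 0 := by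
  have ht2 : t ∈ (J.map (c.π.app k)).ideal ⟨W, hW⟩ := by
    rw [IdealSheafData.ideal_map_of_isAffineHom]
    exact hx
  rw [← IdealSheafData.ker_subschemeι_app] at ht2
  have h1 : ((u ≫ c.π.app k).app W).hom t = 0 :=
    app_eq_zero_of_comp _ _ _ (hs k) W t ht2
  rw [Scheme.Hom.comp_app] at h1
  exact h1

theorem le_ker_lift (hc : IsLimit c) {T : Scheme.{u}} (u : T ⟶ c.pt)
    (s : ∀ i, T ⟶ (J.map (c.π.app i)).subscheme)
    (hs : ∀ i, s i ≫ (J.map (c.π.app i)).subschemeι = u ≫ c.π.app i) : J ≤ u.ker := by
  have haff := isAffineHom_π_app D c hc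
  refine IdealSheafData.le_ofIdeals_iff.mpr fun U => ?_
  intro x hx
  rw [RingHom.mem_ker]
  obtain ⟨i, V, hV, hVU⟩ := exists_isAffineOpen_preimage_eq D c hc U.1 U.2
  obtain ⟨k, a, t, ht⟩ := Smoothlim.ImmersionStage.exists_appLE_eq' D c hc hV hVU.symm x
  obtain ⟨W, hW⟩ : ∃ W, D.map a ⁻¹ᵁ V = W := ⟨_, rfl⟩
  have hWaff : IsAffineOpen W := hW ▸ hV.preimage _
  have hWU : (c.π.app k) ⁻¹ᵁ W = U.1 := by
    rw [← hW, Smoothlim.ImmersionStage.preimage_eq, hVU]
  obtain ⟨U, hU⟩ := U
  dsimp only at x hx ht hVU hWU ⊢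
  generalize_proofs pf at ht
  revert pf t
  rw [hW]
  intro t pf ht
  subst hWU
  rw [← Scheme.Hom.app_eq_appLE] at ht
  rw [← ht] at hx ⊢
  exact app_eq_zero_aux D c J u s hs k W hWaff t hx

/-- The cone over the images is a limit cone. -/
noncomputable def isLimitImgCone (hc : IsLimit c) : IsLimit (imgCone D c J) :=
  have key (s : Cone (imgDiagram D c J)) :
      J ≤ (hc.lift ((Cone.postcompose (imgι D c J)).obj s)).ker :=
    le_ker_lift D c J hc _ (fun i => s.π.app i) (fun i => by
      rw [hc.fac]
      rfl)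
  { lift := fun s => IsClosedImmersion.lift J.subschemeι
      (hc.lift ((Cone.postcompose (imgι D c J)).obj s)) (by simpa using key s)
    fac := fun s i => by
      rw [← cancel_mono ((imgι D c J).app i), Category.assoc, imgCone_π_app_imgι,
        IsClosedImmersion.lift_fac_assoc, hc.fac]
      rfl
    uniq := fun s m hm => by
      rw [← cancel_mono J.subschemeι, IsClosedImmersion.lift_fac]
      apply hc.hom_ext
      intro i
      rw [hc.fac, Category.assoc, ← imgCone_π_app_imgι, ← Category.assoc, hm]
      rfl }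

end Groth.Agent.FlatA.ImageLimit
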