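import Groth.Agent.FlatA.FlatFromInj
import Groth.Agent.S1266

/-!
# Transfer of an injectivity theorem to the quotients of the base (part of Stacks 05U9)
-/

set_option autoImplicit false
set_option linter.style.haveILetI false
universe u

open TensorProduct IsLocalRing Function

namespace Groth.Agent.FlatA.InjTransfer

/-- The statement "injective on the closed fibre implies universally injective" for flat, finitely
presented source. -/
def InjStatement : Prop :=
  ∀ (A B N M : Type u) [CommRing A] [IsLocalRing A] [CommRing B] [IsLocalRing B] [Algebra A B]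
    [IsLocalHom (algebraMap A B)] (_ : FlatCA.EssFinitePresentation A B) [AddCommGroup N] [Module A N]
    [Module B N] [IsScalarTower A B N] [Module.FinitePresentation B N] [Module.Flat A N]
    [AddCommGroup M] [Module A M] [Module.Flat A M] (u : N →ₗ[A] M)
    (_ : Injective (u.lTensor (ResidueField A))) (Q : Type u) [AddCommGroup Q] [Module A Q],
    Injective (u.lTensor Q)

/-- Vector spaces over the residue field. -/
theorem lTensor_injective_of_torsion {A N M : Type u} [CommRing A] [IsLocalRing A] [AddCommGroup N]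
    [Module A N] [AddCommGroup M] [Module A M] (u : N →ₗ[A] M)
    (h : Injective (u.lTensor (ResidueField A))) (Q : Type u) [AddCommGroup Q] [Module A Q]
    (hQ : ∀ a ∈ maximalIdeal A, ∀ x : Q, a • x = 0) : Injective (u.lTensor Q) := by
  have e : ∀ (Q : Type u) [AddCommGroup Q] [Module A Q] (z : Q ⊗[A] N),
      Flat2A.ModInjCore.bc (R := A) u Q z = u.lTensor Q z := by
    intro Q _ _ z
    induction z using TensorProduct.induction_on with
    | zero => simp
    | tmul q n => rfl
    | add x y hx hy => rw [map_add, map_add, hx, hy]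
  have h1 : Injective (Flat2A.ModInjCore.bc (R := A) u (ResidueField A)) := by
    intro x y hxy
    rw [e, e] at hxy
    exact h hxy
  intro x y hxy
  rw [← e, ← e] at hxy
  exact Flat2A.ModInjCore.bc_injective_of_residue (R := A) u h1 Q hQ hxy

/-- Base change of algebras essentially of finite presentation. -/
theorem essFinitePresentation_baseChange {A D B : Type u} [CommRing A] [CommRing D] [CommRing B]
    [Algebra A D] [Algebra A B] (hB : FlatCA.EssFinitePresentation A B) :
    FlatCA.EssFinitePresentation D (D ⊗[A] B) := by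
  obtain ⟨S₀, _, _, _, _, T, hfp, hloc⟩ := hB
  letI : Algebra S₀ (D ⊗[A] S₀) := Algebra.TensorProduct.rightAlgebra
  letI : Algebra B (D ⊗[A] B) := Algebra.TensorProduct.rightAlgebra
  let f : D ⊗[A] S₀ →ₐ[D] D ⊗[A] B :=
    Algebra.TensorProduct.map (AlgHom.id D D) (IsScalarTower.toAlgHom A S₀ B)
  letI : Algebra (D ⊗[A] S₀) (D ⊗[A] B) := f.toRingHom.toAlgebra
  letI : Algebra S₀ (D ⊗[A] B) := ((algebraMap B (D ⊗[A] B)).comp (algebraMap S₀ B)).toAlgebra
  haveI t1 : IsScalarTower S₀ B (D ⊗[A] B) := IsScalarTower.of_algebraMap_eq' rfl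
  haveI t2 : IsScalarTower D (D ⊗[A] S₀) (D ⊗[A] B) := IsScalarTower.of_algebraMap_eq fun x =>
    (f.commutes x).symm
  haveI t3 : IsScalarTower S₀ (D ⊗[A] S₀) (D ⊗[A] B) := IsScalarTower.of_algebraMap_eq fun x => by
    change _ = f (1 ⊗ₜ x)
    rw [Algebra.TensorProduct.map_tmul]
    rfl
  haveI t4 : IsScalarTower A S₀ (D ⊗[A] B) := IsScalarTower.of_algebraMap_eq fun x => by
    rw [IsScalarTower.algebraMap_apply S₀ B (D ⊗[A] B), ← IsScalarTower.algebraMap_apply A S₀ B,
      ← IsScalarTower.algebraMap_apply A B (D ⊗[A] B)]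
  haveI t5 : IsScalarTower A (D ⊗[A] S₀) (D ⊗[A] B) := IsScalarTower.of_algebraMap_eq fun x => by
    rw [IsScalarTower.algebraMap_apply A D (D ⊗[A] S₀),
      ← IsScalarTower.algebraMap_apply D (D ⊗[A] S₀) (D ⊗[A] B),
      ← IsScalarTower.algebraMap_apply A D (D ⊗[A] B)]
  haveI p1 : Algebra.IsPushout A S₀ D (D ⊗[A] S₀) := inferInstance
  haveI p2 : Algebra.IsPushout A B D (D ⊗[A] B) := inferInstance
  haveI p3 : Algebra.IsPushout S₀ B (D ⊗[A] S₀) (D ⊗[A] B) :=
    (Algebra.IsPushout.comp_iff A S₀ D (D ⊗[A] S₀) (T := B) (T' := D ⊗[A] B)).mp p2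
  haveI p4 : Algebra.IsPushout S₀ (D ⊗[A] S₀) B (D ⊗[A] B) := p3.symm
  have hl : IsLocalization (Algebra.algebraMapSubmonoid (D ⊗[A] S₀) T) (D ⊗[A] B) :=
    (Algebra.isLocalization_iff_isPushout T B).mpr p4
  exact ⟨D ⊗[A] S₀, inferInstance, inferInstance, inferInstance, t2, _, inferInstance, hl⟩

attribute [local instance] Algebra.TensorProduct.rightAlgebra in
/-- The injectivity statement gives injectivity relative to all local quotients of the base. -/
theorem hinj_aux (H : InjStatement.{u}) {A B N M : Type u} [CommRing A] [IsLocalRing A] [CommRing B]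
    [IsLocalRing B] [Algebra A B] [IsLocalHom (algebraMap A B)]
    (hB : FlatCA.EssFinitePresentation A B)
    [AddCommGroup N] [Module A N] [Module B N] [IsScalarTower A B N] [Module.FinitePresentation B N]
    [AddCommGroup M] [Module A M] [Module.Flat A M] (u : N →ₗ[A] M)
    (h : Injective (u.lTensor (ResidueField A))) {D : Type u} [CommRing D] [IsLocalRing D] [Algebra A D]
    (hsD : Surjective (algebraMap A D)) [Module.Flat D (D ⊗[A] N)] (Q : Type u) [AddCommGroup Q]
    [Module A Q] [Module D Q] [IsScalarTower A D Q] : Injective (u.lTensor Q) := by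
  let E := D ⊗[A] B
  haveI hp : Algebra.IsPushout A D B E := inferInstance
  have hsurj : Surjective (algebraMap B E) :=
    Algebra.TensorProduct.includeRight_surjective (S := D) B hsD
  haveI hl' : IsLocalHom (algebraMap A D) := IsLocalHom.of_surjective _ hsD
  have hker : ∀ a, algebraMap A D a = 0 → a ∈ maximalIdeal A := by
    intro a ha hu
    have := hu.map (algebraMap A D)
    rw [ha] at this
    exact not_isUnit_zero this
  have hle : RingHom.ker (algebraMap A D) ≤ RingHom.ker (algebraMap A (ResidueField B)) := by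
    intro a ha
    rw [RingHom.mem_ker, IsScalarTower.algebraMap_apply A B]
    exact Flat2A.ModInjCore.residue_algebraMap_eq_zero (hker a ha)
  let ρ : D →ₐ[A] ResidueField B :=
    { (algebraMap A D).liftOfSurjective hsD ⟨algebraMap A (ResidueField B), hle⟩ with
      commutes' := fun a => RingHom.liftOfSurjective_comp_apply (algebraMap A D) hsD
        ⟨algebraMap A (ResidueField B), hle⟩ a }
  let θ : E →ₐ[A] ResidueField B :=
    Algebra.TensorProduct.lift ρ (IsScalarTower.toAlgHom A B (ResidueField B))
      (fun _ _ => Commute.all _ _)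
  haveI : Nontrivial E := θ.toRingHom.domain_nontrivial
  haveI : IsLocalRing E := IsLocalRing.of_surjective' (algebraMap B E) hsurj
  haveI hl : IsLocalHom (algebraMap B E) := IsLocalHom.of_surjective _ hsurj
  haveI : IsLocalHom (algebraMap D E) := by
    refine ⟨fun x hx => ?_⟩
    obtain ⟨a, rfl⟩ := hsD x
    have h1 : algebraMap D E (algebraMap A D a) = algebraMap B E (algebraMap A B a) := by
      rw [← IsScalarTower.algebraMap_apply, ← IsScalarTower.algebraMap_apply]
    rw [h1] at hx
    exact ((isUnit_map_iff (algebraMap A B) a).1 ((isUnit_map_iff (algebraMap B E) _).1 hx)).map _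
  let e : E ⊗[B] N ≃ₗ[D] D ⊗[A] N := Algebra.IsPushout.cancelBaseChange A D B E N
  haveI hfl : Module.Flat D (E ⊗[B] N) := Module.Flat.of_linearEquiv e
  have hE : FlatCA.EssFinitePresentation D E := essFinitePresentation_baseChange hB
  have hres : Injective ((u.baseChange D ∘ₗ e.toLinearMap).lTensor (ResidueField D)) := by
    refine (S1266.lTensor_comp_equiv_injective_iff (u.baseChange D) e (ResidueField D)).2
      ((S1266.lTensor_baseChange_injective_iff u (ResidueField D)).2
        (lTensor_injective_of_torsion u h _ ?_))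
    intro a ha x
    rw [← algebraMap_smul D a x, Algebra.smul_def,
      Flat2A.ModInjCore.residue_algebraMap_eq_zero ha, zero_mul]
  have key := H D E (E ⊗[B] N) (D ⊗[A] M) hE (u.baseChange D ∘ₗ e.toLinearMap) hres Q
  exact (S1266.lTensor_baseChange_injective_iff u Q).1
    ((S1266.lTensor_comp_equiv_injective_iff (u.baseChange D) e Q).1 key)

theorem hinj (H : InjStatement.{u}) {A B N M : Type u} [CommRing A] [IsLocalRing A] [CommRing B]
    [IsLocalRing B] [Algebra A B] [IsLocalHom (algebraMap A B)]
    (hB : FlatCA.EssFinitePresentation A B)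
    [AddCommGroup N] [Module A N] [Module B N] [IsScalarTower A B N] [Module.FinitePresentation B N]
    [AddCommGroup M] [Module A M] [Module.Flat A M] (u : N →ₗ[A] M)
    (h : Injective (u.lTensor (ResidueField A))) (I : Ideal A) (hI : I ≤ maximalIdeal A)
    (hflat : Module.Flat (A ⧸ I) ((A ⧸ I) ⊗[A] N)) (Q : Type u) [AddCommGroup Q] [Module A Q]
    (hQ : ∀ a ∈ I, ∀ x : Q, a • x = 0) : Injective (u.lTensor Q) := by
  haveI : Nontrivial (A ⧸ I) := Ideal.Quotient.nontrivial_iff.2 (by
    rintro rfl
    exact (IsLocalRing.maximalIdeal.isMaximal A).ne_top (top_le_iff.1 hI))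
  haveI : IsLocalRing (A ⧸ I) :=
    IsLocalRing.of_surjective' (Ideal.Quotient.mk I) Ideal.Quotient.mk_surjective
  letI : Module (A ⧸ I) Q := (show Module.IsTorsionBySet A Q I from fun x a => hQ a a.2 x).module
  haveI : IsScalarTower A (A ⧸ I) Q :=
    (show Module.IsTorsionBySet A Q I from fun x a => hQ a a.2 x).isScalarTower
  exact hinj_aux H hB u h (D := A ⧸ I) Ideal.Quotient.mk_surjective Q

/-- Flatness for maps which are injective on the closed fibre, given the injectivity statement. -/
theorem flat (H : InjStatement.{u}) {A B N M : Type u} [CommRing A] [IsLocalRing A] [CommRing B]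
    [IsLocalRing B] [Algebra A B] [IsLocalHom (algebraMap A B)]
    (hB : FlatCA.EssFinitePresentation A B)
    [AddCommGroup N] [Module A N] [Module B N] [IsScalarTower A B N] [Module.FinitePresentation B N]
    [AddCommGroup M] [Module A M] [Module.Flat A M] (u : N →ₗ[A] M)
    (h : Injective (u.lTensor (ResidueField A))) : Module.Flat A N :=
  FlatFromInj.flat hB u fun I hI hfl Q _ _ hQ => hinj H hB u h I hI hfl Q hQ

end Groth.Agent.FlatA.InjTransfer
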