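import Groth.Agent.FlatA.DivisibleFlat
import Groth.Agent.CalgB.NagataFP2
import Groth.Agent.S1266
import Mathlib.RingTheory.LocalRing.ResidueField.Instances

/-!
# Injectivity on the closed fibre implies injectivity on all fibres
-/

set_option autoImplicit false
set_option linter.style.haveILetI false
universe u

open TensorProduct Function IsLocalRing

namespace Groth.Agent.FlatA.ResidueZorn

/-- `S1266.local_input` for an algebra which is essentially of finite presentation. -/
theorem local_input {A B N M : Type u} [CommRing A] [CommRing B] [Algebra A B]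
    (hB : FlatCA.EssFinitePresentation A B)
    [AddCommGroup N] [Module A N] [Module B N] [IsScalarTower A B N] [Module.FinitePresentation B N]
    [AddCommGroup M] [Module A M] [Module.Flat A M] (u : N →ₗ[A] M)
    (p : Ideal A) [p.IsPrime] (h : Function.Injective (u.lTensor p.ResidueField)) :
    ∃ I : Ideal (Localization.AtPrime p), I.FG ∧
      I ≤ maximalIdeal (Localization.AtPrime p) ∧
      ∀ (Q : Type u) [AddCommGroup Q] [Module A Q] [Module (Localization.AtPrime p) Q]
        [IsScalarTower A (Localization.AtPrime p) Q],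
        (∀ a ∈ I, ∀ q : Q, a • q = 0) → Injective (u.lTensor Q) := by
  obtain ⟨S₀, _, _, _, _, T, hfp, hloc⟩ := hB
  let L := Localization T
  let e : L ≃ₐ[S₀] B := IsLocalization.algEquiv T L B
  letI : Module L N := Module.compHom N (e : L →+* B)
  letI : Algebra B L := (e.symm : B →+* L).toAlgebra
  haveI : IsScalarTower B L N := IsScalarTower.of_algebraMap_smul fun b x => by
    change (e (e.symm b)) • x = b • x
    rw [e.apply_symm_apply]
  haveI : Module.FinitePresentation L N :=
    CalgB.NagataFP.finitePresentation_of_surjective_algebraMap (P := B) e.symm.surjective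
  haveI : IsScalarTower A L N := IsScalarTower.of_algebraMap_smul fun a x => by
    change (e (algebraMap A L a)) • x = a • x
    rw [IsScalarTower.algebraMap_apply A S₀ L, e.commutes, ← IsScalarTower.algebraMap_apply A S₀ B,
      algebraMap_smul]
  exact S1266.local_input T N M u p h

section Quotient

variable {A N M : Type u} [CommRing A] [AddCommGroup N] [Module A N] [AddCommGroup M] [Module A M]
  (u : N →ₗ[A] M)

/-- The conclusion of `local_input` at a prime. -/
def LocInput (p : Ideal A) [p.IsPrime] : Prop :=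
  ∃ I : Ideal (Localization.AtPrime p), I.FG ∧
      I ≤ maximalIdeal (Localization.AtPrime p) ∧
      ∀ (Q : Type u) [AddCommGroup Q] [Module A Q] [Module (Localization.AtPrime p) Q]
        [IsScalarTower A (Localization.AtPrime p) Q],
        (∀ a ∈ I, ∀ q : Q, a • q = 0) → Injective (u.lTensor Q)

/-- If all primes containing `c` are good then `u ⊗ Q` is injective for all `Q` killed by `c`. -/
theorem injective_of_forall_ge [Module.Flat A N] [Module.Flat A M] (c : Ideal A)
    (h : ∀ (p : Ideal A) [p.IsPrime], c ≤ p → LocInput u p)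
    (Q : Type u) [AddCommGroup Q] [Module A Q] (hQ : ∀ a ∈ c, ∀ q : Q, a • q = 0) :
    Injective (u.lTensor Q) := by
  letI : Module (A ⧸ c) Q := Module.IsTorsionBySet.module (M := Q) (I := c) (fun q a => hQ a.1 a.2 q)
  haveI : IsScalarTower A (A ⧸ c) Q := ⟨fun r x q => by
    obtain ⟨x, rfl⟩ := Ideal.Quotient.mk_surjective x
    exact mul_smul r x q⟩
  rw [← S1266.lTensor_baseChange_injective_iff (A₁ := A ⧸ c)]
  refine Flat2B.LTensorLocal.injective_of_local (u.baseChange (A ⧸ c)) (fun p₁ _ => ?_) Q
  let p : Ideal A := p₁.comap (algebraMap A (A ⧸ c))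
  haveI : p.IsPrime := Ideal.comap_isPrime _ _
  have hcp : c ≤ p := fun x hx => by
    change algebraMap A (A ⧸ c) x ∈ p₁
    rw [Ideal.Quotient.algebraMap_eq, Ideal.Quotient.eq_zero_iff_mem.mpr hx]
    exact zero_mem _
  obtain ⟨I, hIfg, hIm, hI⟩ := h p hcp
  let φ : Localization.AtPrime p →+* Localization.AtPrime p₁ :=
    Localization.localRingHom p p₁ (algebraMap A (A ⧸ c)) rfl
  have hφl : IsLocalHom φ := Localization.isLocalHom_localRingHom p p₁ _ rfl
  refine ⟨I.map φ, hIfg.map φ, ?_, ?_⟩
  · rw [Ideal.map_le_iff_le_comap]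
    intro x hx
    exact map_nonunit φ x (hIm hx)
  intro Q' _ _ _ _ hQ'
  letI : Module A Q' := Module.compHom Q' (algebraMap A (A ⧸ c))
  haveI : IsScalarTower A (A ⧸ c) Q' := IsScalarTower.of_algebraMap_smul fun _ _ => rfl
  letI : Module (Localization.AtPrime p) Q' := Module.compHom Q' φ
  haveI : IsScalarTower A (Localization.AtPrime p) Q' := IsScalarTower.of_algebraMap_smul fun a q => by
    change φ (algebraMap A _ a) • q = (algebraMap A (A ⧸ c) a) • q
    have h1 : φ (algebraMap A _ a) = algebraMap (A ⧸ c) _ (algebraMap A (A ⧸ c) a) :=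
      Localization.localRingHom_to_map p p₁ _ rfl a
    rw [h1, algebraMap_smul]
  rw [S1266.lTensor_baseChange_injective_iff]
  exact hI Q' fun a ha q => hQ' (φ a) (Ideal.mem_map_of_mem φ ha) q

/-- Bad primes are closed under unions of chains. -/
theorem isClosed_chain (hloc : ∀ (p : Ideal A) [p.IsPrime], Injective (u.lTensor p.ResidueField) → LocInput u p)
    (C : Set (Ideal A)) (hC : IsChain (· ≤ ·) C) (hne : C.Nonempty)
    (hCp : ∀ q ∈ C, ∃ _ : q.IsPrime, ¬ Injective (u.lTensor q.ResidueField)) :
    ∃ _ : (sSup C).IsPrime, ¬ Injective (u.lTensor (sSup C).ResidueField) := by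
  have hmem : ∀ x : A, x ∈ sSup C ↔ ∃ q ∈ C, x ∈ q := fun x =>
    Submodule.mem_sSup_of_directed hne hC.directedOn
  have hprime : (sSup C).IsPrime := by
    constructor
    · rw [Ideal.ne_top_iff_one, hmem]
      rintro ⟨q, hq, h1⟩
      obtain ⟨hqp, -⟩ := hCp q hq
      exact hqp.ne_top ((Ideal.eq_top_iff_one q).mpr h1)
    · intro x y hxy
      obtain ⟨q, hq, hxy⟩ := (hmem _).mp hxy
      obtain ⟨hqp, -⟩ := hCp q hq
      rcases hqp.mem_or_mem hxy with h | h
      · exact Or.inl ((hmem _).mpr ⟨q, hq, h⟩)
      · exact Or.inr ((hmem _).mpr ⟨q, hq, h⟩)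
  refine ⟨hprime, fun hinj => ?_⟩
  let p := sSup C
  obtain ⟨I, hIfg, hIm, hI⟩ := hloc p hinj
  obtain ⟨G, hG⟩ := hIfg
  -- numerators of the generators
  have hnum : ∀ g : Localization.AtPrime p, ∃ x : A, ∃ s : p.primeCompl,
      IsLocalization.mk' (Localization.AtPrime p) x s = g := fun g => by
    obtain ⟨x, s, h⟩ := IsLocalization.exists_mk'_eq p.primeCompl g
    exact ⟨x, s, h⟩
  choose num den hnd using hnum
  let J : Ideal A := Ideal.span (num '' (G : Set (Localization.AtPrime p)))
  have hJ : J ≤ sSup C := by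
    rw [Ideal.span_le]
    rintro _ ⟨g, hg, rfl⟩
    have h1 : g ∈ maximalIdeal (Localization.AtPrime p) := hIm (hG ▸ Ideal.subset_span hg)
    rw [← hnd g, IsLocalization.AtPrime.mk'_mem_maximal_iff (Localization.AtPrime p) p] at h1
    exact h1
  have hJfg : J.FG := Submodule.fg_span (G.finite_toSet.image num)
  obtain ⟨q, hqC, hJq⟩ := (CompleteLattice.isCompactElement_iff_le_of_directed_sSup_le (Ideal A) J).mp
    ((Submodule.fg_iff_compact J).mp hJfg) C hne hC.directedOn hJ
  obtain ⟨hqp, hbad⟩ := hCp q hqC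
  apply hbad
  have hqle : q ≤ p := le_sSup hqC
  have hu : ∀ s : p.primeCompl, IsUnit (algebraMap A q.ResidueField s) := by
    intro s
    rw [isUnit_iff_ne_zero, Ne, Ideal.algebraMap_residueField_eq_zero]
    exact fun h => s.2 (hqle h)
  let φ : Localization.AtPrime p →+* q.ResidueField := IsLocalization.lift hu
  letI : Module (Localization.AtPrime p) q.ResidueField := Module.compHom q.ResidueField φ
  haveI : IsScalarTower A (Localization.AtPrime p) q.ResidueField :=
    IsScalarTower.of_algebraMap_smul fun a z => by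
      change φ (algebraMap A _ a) • z = a • z
      rw [IsLocalization.lift_eq, algebraMap_smul]
  refine hI q.ResidueField fun a ha z => ?_
  change φ a • z = 0
  have hIφ : I ≤ RingHom.ker φ := by
    rw [← hG, Ideal.span_le]
    intro g hg
    change φ g = 0
    rw [← hnd g, IsLocalization.lift_mk', mul_eq_zero]
    left
    rw [Ideal.algebraMap_residueField_eq_zero]
    exact hJq (Ideal.subset_span ⟨g, hg, rfl⟩)
  rw [(hIφ ha : φ a = 0), zero_smul]

end Quotient

section BaseChange

attribute [local instance] Algebra.TensorProduct.rightAlgebra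

variable {A B : Type u} [CommRing A] [IsLocalRing A] [CommRing B] [IsLocalRing B] [Algebra A B]
  [IsLocalHom (algebraMap A B)] (c : Ideal A) (hc : c ≤ maximalIdeal A)

/-- The map from `(A ⧸ c) ⊗ B` to the residue field of `B`. -/
noncomputable def toResidue : ((A ⧸ c) ⊗[A] B) →ₐ[A] ResidueField B :=
  Algebra.TensorProduct.productMap
    (Ideal.Quotient.liftₐ c (Algebra.ofId A (ResidueField B)) (fun a ha => by
      change residue B (algebraMap A B a) = 0
      rw [residue_eq_zero_iff]
      exact map_nonunit _ _ (hc ha)))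
    (IsScalarTower.toAlgHom A B (ResidueField B))

include hc in
theorem nontrivial_tensor : Nontrivial ((A ⧸ c) ⊗[A] B) :=
  (toResidue c hc).toRingHom.domain_nontrivial

include hc in
theorem isLocalRing_tensor : IsLocalRing ((A ⧸ c) ⊗[A] B) := by
  haveI := nontrivial_tensor (B := B) c hc
  exact IsLocalRing.of_surjective' (Algebra.TensorProduct.includeRight (R := A) (A := A ⧸ c) (B := B)).toRingHom
    (Algebra.TensorProduct.includeRight_surjective _ Ideal.Quotient.mk_surjective)

include hc in
theorem isLocalHom_tensor : IsLocalHom (algebraMap (A ⧸ c) ((A ⧸ c) ⊗[A] B)) := by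
  constructor
  intro a ha
  obtain ⟨a, rfl⟩ := Ideal.Quotient.mk_surjective a
  have h1 : IsUnit (residue B (algebraMap A B a)) := by
    have h2 := ha.map (toResidue c hc)
    have h3 : toResidue c hc (algebraMap (A ⧸ c) ((A ⧸ c) ⊗[A] B) (Ideal.Quotient.mk c a)) =
        residue B (algebraMap A B a) := by
      rw [Algebra.TensorProduct.algebraMap_apply, toResidue, Algebra.TensorProduct.productMap_apply_tmul,
        map_one, mul_one]
      rfl
    rwa [h3] at h2
  have h4 : IsUnit (algebraMap A B a) := isUnit_of_map_unit (residue B) _ h1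
  exact (isUnit_of_map_unit (algebraMap A B) _ h4).map _

end BaseChange

section Main

attribute [local instance] Algebra.TensorProduct.rightAlgebra

theorem essFiniteType_of_essFinitePresentation {A B : Type u} [CommRing A] [CommRing B] [Algebra A B]
    (hB : FlatCA.EssFinitePresentation A B) : Algebra.EssFiniteType A B := by
  obtain ⟨S₀, _, _, _, _, T, hfp, hloc⟩ := hB
  haveI : Algebra.EssFiniteType S₀ B := Algebra.EssFiniteType.of_isLocalization B T
  exact Algebra.EssFiniteType.comp A S₀ B

/-- The kernel of a map which is injective modulo `a`, with torsion-free target, is divisible by `a`. -/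
theorem exists_smul_eq_of_mem_ker {D X Y : Type u} [CommRing D] [AddCommGroup X] [Module D X]
    [AddCommGroup Y] [Module D Y] (v : X →ₗ[D] Y) (a : D) (htf : ∀ y : Y, a • y = 0 → y = 0)
    (hinj : Injective (v.lTensor (D ⧸ Ideal.span {a}))) :
    ∀ x ∈ LinearMap.ker v, ∃ y ∈ LinearMap.ker v, a • y = x := by
  intro x hx
  have h1 : (1 : D ⧸ Ideal.span {a}) ⊗ₜ[D] x = 0 := by
    apply hinj
    rw [map_zero, LinearMap.lTensor_tmul, LinearMap.mem_ker.mp hx, tmul_zero]
  have h2 : x ∈ Ideal.span {a} • (⊤ : Submodule D X) := by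
    have h3 := congrArg (TensorProduct.quotTensorEquivQuotSMul X (Ideal.span {a})) h1
    rw [map_zero] at h3
    have h4 : (TensorProduct.quotTensorEquivQuotSMul X (Ideal.span {a}))
        ((1 : D ⧸ Ideal.span {a}) ⊗ₜ[D] x) = Submodule.Quotient.mk x := by
      have := TensorProduct.quotTensorEquivQuotSMul_mk_tmul (Ideal.span {a}) (1 : D) x
      rw [one_smul] at this
      exact this
    rw [h4, Submodule.Quotient.mk_eq_zero] at h3
    exact h3
  rw [Submodule.ideal_span_singleton_smul] at h2
  obtain ⟨y, -, hy⟩ := (Submodule.mem_smul_pointwise_iff_exists _ _ _).mp h2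
  refine ⟨y, LinearMap.mem_ker.mpr (htf _ ?_), hy⟩
  rw [← map_smul, hy]
  exact hx

theorem torsionFree_of_flat {D X : Type u} [CommRing D] [IsDomain D] [AddCommGroup X] [Module D X]
    [Module.Flat D X] (a : D) (ha : a ≠ 0) (x : X) (hx : a • x = 0) : x = 0 := by
  have h1 : (Submodule.torsion D X) = ⊥ := Module.Flat.torsion_eq_bot
  have h2 : x ∈ Submodule.torsion D X := (Submodule.mem_torsion_iff _).mpr
    ⟨⟨a, mem_nonZeroDivisors_of_ne_zero ha⟩, hx⟩
  rw [h1] at h2
  exact h2

/-- The domain step. -/
theorem baseChange_injective {A B N M D : Type u} [CommRing A] [CommRing B] [Algebra A B]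
    [Algebra.EssFiniteType A B] [AddCommGroup N]
    [Module A N] [Module B N] [IsScalarTower A B N] [Module.Finite B N]
    [Module.Flat A N] [AddCommGroup M] [Module A M] [Module.Flat A M] (u : N →ₗ[A] M)
    [CommRing D] [IsDomain D] [IsLocalRing D] [Algebra A D] [IsLocalRing (D ⊗[A] B)]
    [IsLocalHom (algebraMap D (D ⊗[A] B))] (b : D) (hb0 : b ≠ 0) (hb : b ∈ maximalIdeal D)
    (h : ∀ a : D, a ≠ 0 → Injective (u.lTensor (D ⧸ Ideal.span {a}))) :
    Injective (u.baseChange D) := by
  let BD := D ⊗[A] B
  let ND := BD ⊗[B] N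
  let e : ND ≃ₗ[D] D ⊗[A] N := Algebra.IsPushout.cancelBaseChange A D B BD N
  haveI : Module.Flat D ND := Module.Flat.of_linearEquiv e
  let v : ND →ₗ[D] (D ⊗[A] M) := (u.baseChange D) ∘ₗ e.toLinearMap
  have hdiv : ∀ a : D, a ≠ 0 → ∀ x ∈ LinearMap.ker v, ∃ y ∈ LinearMap.ker v, a • y = x := by
    intro a ha
    have h1 := h a ha
    rw [← S1266.lTensor_baseChange_injective_iff (A₁ := D),
      ← S1266.lTensor_comp_equiv_injective_iff _ e] at h1
    exact exists_smul_eq_of_mem_ker v a (torsionFree_of_flat a ha) h1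
  have hker := DivisibleFlat.eq_zero_of_divisible (B := BD) b hb0 hb (LinearMap.ker v) hdiv
  have hv : Injective v := by
    rw [← LinearMap.ker_eq_bot, eq_bot_iff]
    intro x hx
    exact hker x hx
  intro x y hxy
  obtain ⟨x, rfl⟩ := e.surjective x
  obtain ⟨y, rfl⟩ := e.surjective y
  rw [hv hxy]

/-- The domain step: if all primes containing `p` properly are good then `p` is good. -/
theorem good_of_forall_gt {A B N M : Type u} [CommRing A] [IsLocalRing A] [CommRing B] [IsLocalRing B]
    [Algebra A B] [IsLocalHom (algebraMap A B)] [Algebra.EssFiniteType A B] [AddCommGroup N]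
    [Module A N] [Module B N] [IsScalarTower A B N] [Module.Finite B N]
    [Module.Flat A N] [AddCommGroup M] [Module A M] [Module.Flat A M] (u : N →ₗ[A] M)
    (p : Ideal A) [p.IsPrime] (hpm : p ≠ maximalIdeal A)
    (h : ∀ a : A, a ∉ p → ∀ (Q : Type u) [AddCommGroup Q] [Module A Q],
      (∀ x ∈ p ⊔ Ideal.span {a}, ∀ q : Q, x • q = 0) → Injective (u.lTensor Q)) :
    Injective (u.lTensor p.ResidueField) := by
  have hple : p ≤ maximalIdeal A := le_maximalIdeal (Ideal.IsPrime.ne_top ‹_›)
  haveI : IsLocalRing (A ⧸ p) :=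
    IsLocalRing.of_surjective' (Ideal.Quotient.mk p) Ideal.Quotient.mk_surjective
  haveI : IsLocalRing ((A ⧸ p) ⊗[A] B) := isLocalRing_tensor p hple
  haveI : IsLocalHom (algebraMap (A ⧸ p) ((A ⧸ p) ⊗[A] B)) := isLocalHom_tensor p hple
  obtain ⟨b, hbm, hbp⟩ := SetLike.exists_of_lt (lt_of_le_of_ne hple hpm)
  have hb0 : (Ideal.Quotient.mk p b) ≠ 0 := fun h => hbp (Ideal.Quotient.eq_zero_iff_mem.mp h)
  have hbm' : (Ideal.Quotient.mk p b) ∈ maximalIdeal (A ⧸ p) := by
    haveI : IsLocalHom (Ideal.Quotient.mk p) :=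
      IsLocalHom.of_surjective _ Ideal.Quotient.mk_surjective
    exact map_nonunit (Ideal.Quotient.mk p) b hbm
  have key : Injective (u.baseChange (A ⧸ p)) := by
    refine baseChange_injective (B := B) u (Ideal.Quotient.mk p b) hb0 hbm' ?_
    intro a ha
    obtain ⟨a', rfl⟩ := Ideal.Quotient.mk_surjective a
    have ha' : a' ∉ p := fun h => ha (Ideal.Quotient.eq_zero_iff_mem.mpr h)
    refine h a' ha' _ fun x hx q => ?_
    obtain ⟨q, rfl⟩ := Ideal.Quotient.mk_surjective q
    obtain ⟨q, rfl⟩ := Ideal.Quotient.mk_surjective q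
    change Ideal.Quotient.mk _ (Ideal.Quotient.mk p (x * q)) = 0
    rw [Ideal.Quotient.eq_zero_iff_mem, map_mul]
    refine Ideal.mul_mem_right _ _ ?_
    obtain ⟨y, hy, z, hz, rfl⟩ := Submodule.mem_sup.mp hx
    obtain ⟨c, rfl⟩ := Ideal.mem_span_singleton'.mp hz
    rw [map_add, Ideal.Quotient.eq_zero_iff_mem.mpr hy, zero_add, map_mul]
    exact Ideal.mul_mem_left _ _ (Ideal.mem_span_singleton_self _)
  rw [← S1266.lTensor_baseChange_injective_iff (A₁ := A ⧸ p)]
  haveI : Module.Flat (A ⧸ p) p.ResidueField := IsLocalization.flat _ (nonZeroDivisors (A ⧸ p))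
  exact Module.Flat.lTensor_preserves_injective_linearMap _ key

/-- The residue field of a local ring is the residue field of its maximal ideal. -/
theorem lTensor_residueField_maximalIdeal {A N M : Type u} [CommRing A] [IsLocalRing A] [AddCommGroup N]
    [Module A N] [AddCommGroup M] [Module A M] (u : N →ₗ[A] M)
    (h : Injective (u.lTensor (ResidueField A))) : Injective (u.lTensor (maximalIdeal A).ResidueField) := by
  let f : (A ⧸ maximalIdeal A) →ₐ[A] (maximalIdeal A).ResidueField :=
    IsScalarTower.toAlgHom A (A ⧸ maximalIdeal A) (maximalIdeal A).ResidueField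
  let e : (A ⧸ maximalIdeal A) ≃ₗ[A] (maximalIdeal A).ResidueField :=
    LinearEquiv.ofBijective f.toLinearMap (Ideal.bijective_algebraMap_quotient_residueField (maximalIdeal A))
  exact Flat2B.LTensorDev.injective_of_equiv u e h

/-- Injectivity on the closed fibre implies injectivity on all fibres. -/
theorem residueField_injective {A B N M : Type u} [CommRing A] [IsLocalRing A] [CommRing B] [IsLocalRing B]
    [Algebra A B] [IsLocalHom (algebraMap A B)] (hB : FlatCA.EssFinitePresentation A B) [AddCommGroup N]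
    [Module A N] [Module B N] [IsScalarTower A B N] [Module.FinitePresentation B N]
    [Module.Flat A N] [AddCommGroup M] [Module A M] [Module.Flat A M] (u : N →ₗ[A] M)
    (h : Injective (u.lTensor (ResidueField A))) (p : Ideal A) [p.IsPrime] :
    Injective (u.lTensor p.ResidueField) := by
  haveI := essFiniteType_of_essFinitePresentation hB
  have hloc : ∀ (p : Ideal A) [p.IsPrime], Injective (u.lTensor p.ResidueField) → LocInput u p :=
    fun p _ hp => local_input hB u p hp
  by_contra hbad
  obtain ⟨P, -, hP⟩ := zorn_le_nonempty₀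
    {q : Ideal A | ∃ _ : q.IsPrime, ¬ Injective (u.lTensor q.ResidueField)}
    (fun C hC hchain y hy => ⟨sSup C, isClosed_chain u hloc C hchain ⟨y, hy⟩ (fun q hq => hC hq),
      fun z hz => le_sSup hz⟩) p ⟨inferInstance, hbad⟩
  obtain ⟨hPp, hPbad⟩ := hP.prop
  have hPm : P ≠ maximalIdeal A := by
    rintro rfl
    exact hPbad (lTensor_residueField_maximalIdeal u h)
  apply hPbad
  refine good_of_forall_gt (B := B) u P hPm fun a ha Q _ _ hQ => ?_
  refine injective_of_forall_ge u (P ⊔ Ideal.span {a}) (fun p' _ hp' => ?_) Q hQ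
  apply hloc
  by_contra hp'bad
  have h1 : P ≤ p' := le_sup_left.trans hp'
  have h2 : p' ≤ P := hP.le_of_ge ⟨inferInstance, hp'bad⟩ h1
  exact ha (h2 (hp' (Ideal.mem_sup_right (Ideal.mem_span_singleton_self a))))

/-- Universal injectivity of `A`-linear maps which are injective on the closed fibre. -/
theorem lTensor_injective {A B N M : Type u} [CommRing A] [IsLocalRing A] [CommRing B] [IsLocalRing B]
    [Algebra A B] [IsLocalHom (algebraMap A B)] (hB : FlatCA.EssFinitePresentation A B) [AddCommGroup N]
    [Module A N] [Module B N] [IsScalarTower A B N] [Module.FinitePresentation B N]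
    [Module.Flat A N] [AddCommGroup M] [Module A M] [Module.Flat A M] (u : N →ₗ[A] M)
    (h : Injective (u.lTensor (ResidueField A))) (Q : Type u) [AddCommGroup Q] [Module A Q] :
    Injective (u.lTensor Q) :=
  Flat2B.LTensorLocal.injective_of_local u
    (fun p _ => local_input hB u p (residueField_injective hB u h p)) Q

end Main

end Groth.Agent.FlatA.ResidueZorn
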