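import Groth.Prelude.Def_Flat
import Mathlib.AlgebraicGeometry.Morphisms.Integral
import Mathlib.AlgebraicGeometry.Morphisms.UniversallyInjective
import Mathlib.AlgebraicGeometry.Morphisms.UnderlyingMap

/-! # Universal homeomorphisms

Characterization of universal homeomorphisms (Stacks 04DF): integral, universally injective and
surjective. -/

set_option autoImplicit false
universe u

open AlgebraicGeometry CategoryTheory Limits

namespace Groth.Agent.FlatA.UnivHomeo

/-- A base change of a universal homeomorphism is a universal homeomorphism. -/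
theorem isUnivHomeo_of_isPullback {X Y X' Y' : Scheme.{u}} {f : X ⟶ Y} {f' : X' ⟶ Y'} {g' : X' ⟶ X} {g : Y' ⟶ Y}
    (h : IsPullback g' f' f g) (hf : FlatMor.IsUnivHomeo f) : FlatMor.IsUnivHomeo f' :=
  MorphismProperty.of_isPullback (P := FlatMor.IsUnivHomeo)
    (self := MorphismProperty.universally_isStableUnderBaseChange _) h hf

theorem isHomeomorph_of_isUnivHomeo {X Y : Scheme.{u}} {f : X ⟶ Y}
    (hf : FlatMor.IsUnivHomeo f) : IsHomeomorph f :=
  MorphismProperty.universally_le _ _ hf

theorem universallyClosed_of_isUnivHomeo {X Y : Scheme.{u}} {f : X ⟶ Y}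
    (hf : FlatMor.IsUnivHomeo f) : UniversallyClosed f := by
  rw [universallyClosed_iff]
  exact MorphismProperty.universally_mono (fun _ _ _ h => IsHomeomorph.isClosedMap h) _ hf

theorem universallyInjective_of_isUnivHomeo {X Y : Scheme.{u}} {f : X ⟶ Y}
    (hf : FlatMor.IsUnivHomeo f) : UniversallyInjective f := by
  rw [universallyInjective_iff]
  exact MorphismProperty.universally_mono (fun _ _ _ h => IsHomeomorph.injective h) _ hf

theorem isAffineHom_of_isUnivHomeo {X Y : Scheme.{u}} {f : X ⟶ Y}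
    (hf : FlatMor.IsUnivHomeo f) : IsAffineHom f := by
  have h := isHomeomorph_of_isUnivHomeo hf
  exact isAffineHom_of_isInducing f h.isInducing h.isClosedEmbedding.isClosed_range

theorem isIntegralHom_of_isUnivHomeo {X Y : Scheme.{u}} {f : X ⟶ Y}
    (hf : FlatMor.IsUnivHomeo f) : IsIntegralHom f :=
  IsIntegralHom.iff_universallyClosed_and_isAffineHom.mpr
    ⟨universallyClosed_of_isUnivHomeo hf, isAffineHom_of_isUnivHomeo hf⟩

theorem isUnivHomeo_of_universallyClosed {X Y : Scheme.{u}} {f : X ⟶ Y}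
    (h₁ : UniversallyClosed f) (h₂ : UniversallyInjective f) (h₃ : Surjective f) :
    FlatMor.IsUnivHomeo f := by
  intro X' Y' i₁ i₂ f' sq
  have h₁' : UniversallyClosed f' := MorphismProperty.of_isPullback sq.flip h₁
  have h₂' : UniversallyInjective f' := MorphismProperty.of_isPullback sq.flip h₂
  have h₃' : Surjective f' := MorphismProperty.of_isPullback sq.flip h₃
  exact isHomeomorph_iff_continuous_isClosedMap_bijective.mpr
    ⟨f'.continuous, f'.isClosedMap, f'.injective, f'.surjective⟩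

/-- **Stacks 04DF**: a morphism of schemes is a universal homeomorphism if and only if it is
integral, universally injective and surjective. -/
theorem isUnivHomeo_iff {X Y : Scheme.{u}} (f : X ⟶ Y) :
    FlatMor.IsUnivHomeo f ↔ IsIntegralHom f ∧ UniversallyInjective f ∧ Surjective f := by
  refine ⟨fun hf => ⟨isIntegralHom_of_isUnivHomeo hf, universallyInjective_of_isUnivHomeo hf,
    ⟨(isHomeomorph_of_isUnivHomeo hf).surjective⟩⟩, fun ⟨h₁, h₂, h₃⟩ => ?_⟩
  exact isUnivHomeo_of_universallyClosed inferInstance h₂ h₃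

/-- Universal homeomorphisms: if `g ≫ h` and `g` are, so is `h` (Stacks 0H2M). -/
theorem isUnivHomeo_of_precomp {X Y Z : Scheme.{u}} (g : X ⟶ Y) (h : Y ⟶ Z)
    (hgh : FlatMor.IsUnivHomeo (g ≫ h)) (hg : FlatMor.IsUnivHomeo g) : FlatMor.IsUnivHomeo h := by
  intro Y' Z' i₁ i₂ h' sq
  have sq' := (IsPullback.of_hasPullback g i₁).flip
  have h1 : IsHomeomorph (pullback.snd g i₁) := hg _ _ _ sq'
  have h2 : IsHomeomorph (pullback.snd g i₁ ≫ h') := hgh _ _ _ (sq'.paste_horiz sq)
  have h3 : (h' : Y' → Z') = (pullback.snd g i₁ ≫ h' : _ ⟶ _) ∘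
      h1.homeomorph.symm := by
    funext y
    obtain ⟨x, rfl⟩ := h1.surjective y
    have : h1.homeomorph.symm ((pullback.snd g i₁) x) = x := h1.homeomorph.symm_apply_apply x
    simp [this]
  change IsHomeomorph (h' : Y' → Z')
  rw [h3]
  exact h2.comp h1.homeomorph.symm.isHomeomorph

/-- If `g ≫ h` is universally injective, so is `g`. -/
theorem universallyInjective_of_comp {X Y Z : Scheme.{u}} (g : X ⟶ Y) (h : Y ⟶ Z)
    [UniversallyInjective (g ≫ h)] : UniversallyInjective g := by
  have h1 : UniversallyInjective g ↔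
    ∀ (K : Type u) [Field K], Function.Injective (fun s : Spec (.of K) ⟶ X ↦ s ≫ g) :=
    (tfae_universallyInjective g).out 0 1
  have h2 : UniversallyInjective (g ≫ h) ↔
    ∀ (K : Type u) [Field K], Function.Injective (fun s : Spec (.of K) ⟶ X ↦ s ≫ (g ≫ h)) :=
    (tfae_universallyInjective (g ≫ h)).out 0 1
  refine h1.mpr fun K _ a b hab ↦ (h2.mp inferInstance) K ?_
  simpa using congr($hab ≫ h)

/-- Universal homeomorphisms: if `g ≫ h` and `h` are, so is `g` (Stacks 0H2M). -/
theorem isUnivHomeo_of_postcomp {X Y Z : Scheme.{u}} (g : X ⟶ Y) (h : Y ⟶ Z)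
    (hgh : FlatMor.IsUnivHomeo (g ≫ h)) (hh : FlatMor.IsUnivHomeo h) : FlatMor.IsUnivHomeo g := by
  rw [isUnivHomeo_iff] at *
  obtain ⟨h₁, h₂, h₃⟩ := hgh
  obtain ⟨k₁, k₂, k₃⟩ := hh
  refine ⟨.of_comp g h, universallyInjective_of_comp g h, ?_⟩
  · refine ⟨fun y => ?_⟩
    obtain ⟨x, hx⟩ := (g ≫ h).surjective (h y)
    exact ⟨x, h.injective (by simpa using hx)⟩

end Groth.Agent.FlatA.UnivHomeo
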